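import Cfsg.Agent.Lib.OrthMax.TensorOO.Ops

/-! The algebra of endomorphisms of the first factor giving root elements in the group. -/

set_option autoImplicit false
set_option linter.unusedSectionVars false
set_option linter.unusedVariables false
set_option linter.unusedSimpArgs false

namespace CfsgLib.TensorOO

open QuadraticMap CfsgLib.Geometry CfsgLib.OrthMax
open CfsgLib.TensorSp (In)
open LinearMap (BilinForm)

variable {F V U W : Type*} [Field F] [Finite F] [AddCommGroup V] [Module F V] [AddCommGroup U] [Module F U]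
  [AddCommGroup W] [Module F W]
variable [FiniteDimensional F V] [FiniteDimensional F U] [FiniteDimensional F W]
variable {Q : QuadraticForm F V} {M : Subgroup (V ≃ₗ[F] V)}

namespace TData

variable (h : TData Q U W)

/-- The endomorphisms whose short elements lie in `M`. -/
def InD (M : Subgroup (V ≃ₗ[F] V)) (D : Module.End F U) : Prop :=
  ∀ w a : W, w ≠ 0 → h.gW w w = 0 → h.gW w a = 0 → In M (h.sh w a D)

/-- All members are scalars. -/
def Scal (M : Subgroup (V ≃ₗ[F] V)) : Prop := ∀ D, h.InD M D → ∃ s : F, D = s • 1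

variable {h}

/-- The vectors whose short elements lie in `M`. -/
noncomputable def shSet (h : TData Q U W) (M : Subgroup (V ≃ₗ[F] V)) {w : W} (hw : h.gW w w = 0)
    (D : Module.End F U) : AddSubgroup W where
  carrier := {a | h.gW w a = 0 ∧ In M (h.sh w a D)}
  zero_mem' := ⟨map_zero _, by rw [sh_zero]; exact In.zero M⟩
  add_mem' := fun {a b} ha hb => ⟨by rw [map_add, ha.1, hb.1, add_zero], by
    rw [← h.sh_add hw ha.1 hb.1]; exact ha.2.mul hb.2⟩
  neg_mem' := fun {a} ha => ⟨by rw [map_neg, ha.1, neg_zero],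
    (In.zero M).div ha.2 (by
      have hn : h.gW w (-a) = 0 := by rw [map_neg, ha.1, neg_zero]
      rw [h.sh_add hw hn ha.1, neg_add_cancel, sh_zero])⟩

theorem mem_shSet {w : W} (hw : h.gW w w = 0) {D : Module.End F U} {a : W} :
    a ∈ shSet h M hw D ↔ h.gW w a = 0 ∧ In M (h.sh w a D) := Iff.rfl

variable [Nontrivial U] (hG : h.Gens M) (h5 : 5 ≤ Module.finrank F W)

include hG h5

/-- One long element gives all short ones at its first vector. -/
theorem short_of_pair {w v : W} (hw : h.gW w w = 0) (hwv : h.gW w v = 0) (hv : h.gW v v = 0)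
    (hvn : v ∉ Submodule.span F {w}) {D : Module.End F U} (hX : In M (h.lg w v D)) {a : W} (ha : h.gW w a = 0) :
    In M (h.sh w a D) := by
  have h2 := h.h2
  set S := shSet h M hw D
  have hvS : v ∈ S := ⟨hwv, by rwa [h.sh_iso hv]⟩
  have hmove : ∀ y ∈ S, ∀ p q, h.gW p p = 0 → h.gW p q = 0 → h.gW w p = 0 → h.gW w q = 0 →
      h.shW p q y ∈ S := fun y hy p q hp hpq hwp hwq => by
    have hρw : h.shW p q w = w := by simp [shW_apply, h.g_sym q w, h.g_sym p w, hwp, hwq]
    have := sh_act hG.le (act_sh hG hp hpq) hy.2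
    rw [hρw] at this
    refine ⟨?_, this⟩
    rw [← hρw, act_isom hG.le (act_sh hG hp hpq)]
    exact hy.1
  have hpair : ∀ p p', h.gW p p = 0 → h.gW p' p' = 0 → h.gW p p' = 1 → h.gW w p = 0 → h.gW w p' = 0 → p ∈ S →
      (∀ e, h.gW w e = 0 → h.gW p e = 0 → h.gW p' e = 0 → e ∈ S) ∧ ∀ s : F, s • p' ∈ S := by
    intro p p' hp hp' hpp' hwp hwp' hpS
    have hm : ∀ (t : F) e, h.gW w e = 0 → h.gW p e = 0 → h.gW p' e = 0 →
        p - t • e - (t * t * (h.gW e e / 2)) • p' ∈ S := fun t e hwe hpe hp'e => by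
      have := hmove p hpS p' (t • e) hp' (by rw [map_smul, hp'e, smul_zero]) hwp' (by rw [map_smul, hwe, smul_zero])
      refine Eq.subst (motive := fun y => y ∈ S) ?_ this
      rw [shW_apply]
      simp only [map_smul, LinearMap.smul_apply, h.g_sym e p, hpe, h.g_sym p' p, hpp', smul_zero, zero_smul,
        add_zero, mul_one, one_smul, smul_eq_mul]
      module
    refine ⟨fun e hwe hpe hp'e => ?_, fun s => ?_⟩
    · have := S.sub_mem (hm (-(1 / 2)) e hwe hpe hp'e) (hm (1 / 2) e hwe hpe hp'e)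
      refine Eq.subst (motive := fun y => y ∈ S) ?_ this
      match_scalars <;> field_simp <;> ring
    · obtain ⟨e, hwe, hpe, hp'e, he⟩ : ∃ e, h.gW w e = 0 ∧ h.gW p e = 0 ∧ h.gW p' e = 0 ∧ h.gW e e ≠ 0 := by
        by_contra hno
        push Not at hno
        set E := LinearMap.ker (h.gW w) ⊓ LinearMap.ker (h.gW p) ⊓ LinearMap.ker (h.gW p')
        have hperp : ∀ e ∈ E, e ∈ Submodule.span F {w} := fun e he => h.gN.mem_span_of_perp fun x hx => by
          obtain ⟨⟨h1, h1'⟩, h1''⟩ := he
          simp only [SetLike.mem_coe, LinearMap.mem_ker] at h1 h1' h1''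
          set x' := x - h.gW p' x • p - h.gW p x • p' with hx'
          have hwx' : h.gW w x' = 0 := by simp [hx', hwp, hwp', h.g_sym w x, hx]
          have hpx' : h.gW p x' = 0 := by simp [hx', hp, hpp']
          have hp'x' : h.gW p' x' = 0 := by simp [hx', hp', h.g_sym p' p, hpp']
          have e1 := hno _ hwx' hpx' hp'x'
          have e2 := hno e h1 h1' h1''
          have e3 := hno (x' + e) (by rw [map_add, hwx', h1, add_zero]) (by rw [map_add, hpx', h1', add_zero])
            (by rw [map_add, hp'x', h1'', add_zero])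
          simp only [map_add, LinearMap.add_apply, e1, e2, h.g_sym e x', zero_add, add_zero] at e3
          have e4 : h.gW x' e = 0 :=
            (mul_eq_zero.1 (show (2 : F) * h.gW x' e = 0 by linear_combination e3)).resolve_left h2
          simpa [hx', h1', h1''] using e4
        have hd := Submodule.finrank_mono (show E ≤ Submodule.span F {w} from hperp)
        have d1 := Nice.finrank_ker_two (B := h.gW) w p
        have d2 := Nice.finrank_ker_inf (LinearMap.ker (h.gW w) ⊓ LinearMap.ker (h.gW p)) (h.gW p')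
        have d3 : Module.finrank F (Submodule.span F {w}) ≤ 1 := (finrank_span_le_card _).trans (by simp)
        change Module.finrank F (LinearMap.ker (h.gW w) ⊓ LinearMap.ker (h.gW p) ⊓ LinearMap.ker (h.gW p') :
          Submodule F W) ≤ _ at hd
        omega
      have hsq : ∀ t : F, (t * t) • ((-(h.gW e e)) • p') ∈ S := fun t => by
        have := S.sub_mem (S.sub_mem (S.add_mem (hm t e hwe hpe hp'e) (hm (-t) e hwe hpe hp'e)) hpS) hpS
        refine Eq.subst (motive := fun y => y ∈ S) ?_ this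
        match_scalars <;> field_simp <;> ring
      have := Nice.mem_of_squares h2 S _ hsq (-(h.gW e e)⁻¹ * s)
      refine Eq.subst (motive := fun y => y ∈ S) ?_ this
      rw [smul_smul]
      congr 1
      field_simp
  obtain ⟨v', hv', hvv', hwv'⟩ := h.gN.exists_partner_perp hv hwv hvn
  obtain ⟨hE, hv's⟩ := hpair v v' hv hv' hvv' hwv hwv' hvS
  obtain ⟨-, hvs⟩ := hpair v' v hv' hv (by rw [h.g_sym, hvv']) hwv' hwv (by simpa using hv's 1)
  set e := a - h.gW v' a • v - h.gW v a • v' with he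
  have := S.add_mem (S.add_mem (hE e (by simp [he, ha, hwv, hwv']) (by simp [he, hv, hvv'])
    (by simp [he, hv', h.g_sym v' v, hvv'])) (hvs (h.gW v' a))) (hv's (h.gW v a))
  rw [show e + h.gW v' a • v + h.gW v a • v' = a by rw [he]; abel] at this
  exact this.2

omit hG [Nontrivial U] in
/-- A long element from two short ones. -/
theorem lg_of_comm {w c a b : W} {D E : Module.End F U} (hw : h.gW w w = 0) (hc : h.gW c c = 0)
    (hwc : h.gW w c = 0) (hwa : h.gW w a = 0) (hca : h.gW c a = 0) (hwb : h.gW w b = 0) (hcb : h.gW c b = 0)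
    (hab : h.gW a b = -1) (hX : In M (h.sh w a D)) (hY : In M (h.sh c b E)) :
    In M (h.lg w c (D * h.adj E)) := by
  have hba : h.gW b a = -1 := by rw [h.g_sym, hab]
  have hsw := h.g_sym
  have hcw : h.gW c w = 0 := by rw [hsw, hwc]
  have haw : h.gW a w = 0 := by rw [hsw, hwa]
  have hac : h.gW a c = 0 := by rw [hsw, hca]
  have hbw : h.gW b w = 0 := by rw [hsw, hwb]
  have hbc : h.gW b c = 0 := by rw [hsw, hcb]
  have hXY : h.sh w a D * h.sh c b E = h.P w c (D * h.adj E) := by
    simp [sh, sub_mul, mul_sub, P_mul, hac, hab, hwc, hwb]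
  have hYX : h.sh c b E * h.sh w a D = h.P c w (E * h.adj D) := by
    simp [sh, sub_mul, mul_sub, P_mul, hbw, hba, hcw, hca]
  have := in_comm hX hY (by rw [hXY]; simp [sh, mul_sub, P_mul, hcw, hca])
    (by rw [hYX]; simp [sh, mul_sub, P_mul, hw, hwa])
    (by rw [hXY, hYX]; simp [sh, sub_mul, mul_sub, P_mul, hc, hcb, hwc, hwb])
  rw [hXY, hYX] at this
  simpa [lg] using this

/-- All long elements at the first vector of a short one. -/
theorem pair_of_short {w : W} (hw : h.gW w w = 0) {D : Module.End F U}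
    (hX : ∀ a, h.gW w a = 0 → In M (h.sh w a D)) {c : W} (hwc : h.gW w c = 0) (hc : h.gW c c = 0) :
    In M (h.lg w c D) := by
  obtain ⟨a, hwa, hca, haa⟩ := h.gN.exists_aniso_perp_two h5 w c
  have := lg_of_comm (h := h) (a := a) (b := (-(h.gW a a)⁻¹) • a) (D := D) (E := 1) h5 hw hc hwc hwa hca
    (by rw [map_smul, hwa, smul_zero]) (by rw [map_smul, hca, smul_zero])
    (by rw [map_smul, smul_eq_mul, neg_mul, inv_mul_cancel₀ haa]) (hX a hwa)
    (in_sh hG hc (by rw [map_smul, hca, smul_zero]))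
  rwa [adj_one, mul_one] at this

/-- One long element suffices. -/
theorem InD.of_pair {w v : W} (hw0 : w ≠ 0) (hw : h.gW w w = 0) (hwv : h.gW w v = 0) (hv : h.gW v v = 0)
    (hvn : v ∉ Submodule.span F {w}) {D : Module.End F U} (hX : In M (h.lg w v D)) : h.InD M D := by
  intro x a hx0 hx hxa
  have hall : ∀ a, h.gW w a = 0 → In M (h.sh w a D) := fun a => short_of_pair hG h5 hw hwv hv hvn hX
  obtain ⟨c, hwc, hxc, hc, hcw, hcx⟩ : ∃ c, h.gW w c = 0 ∧ h.gW x c = 0 ∧ h.gW c c = 0 ∧
      c ∉ Submodule.span F {w} ∧ c ∉ Submodule.span F {x} := by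
    by_cases hm : x ∈ Submodule.span F {w}
    · obtain ⟨s, rfl⟩ := Submodule.mem_span_singleton.1 hm
      refine ⟨v, hwv, by simp [hwv], hv, hvn, fun h' => hvn ?_⟩
      exact Submodule.span_singleton_le_iff_mem _ _ |>.2 (Submodule.smul_mem _ s (Submodule.mem_span_singleton_self w)) h'
    by_cases hwx : h.gW w x = 0
    · refine ⟨w + x, by rw [map_add, hw, hwx, add_zero], by rw [map_add, h.g_sym x w, hwx, hx, add_zero],
        by simp [hw, hx, hwx, h.g_sym x w], fun h' => hm ?_, fun h' => hm ?_⟩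
      · simpa using Submodule.sub_mem _ h' (Submodule.mem_span_singleton_self w)
      · have h1 := Submodule.sub_mem _ h' (Submodule.mem_span_singleton_self x)
        rw [add_sub_cancel_right] at h1
        obtain ⟨s, hs⟩ := Submodule.mem_span_singleton.1 h1
        have hs0 : s ≠ 0 := fun e => hw0 (by rw [← hs, e, zero_smul])
        exact Submodule.mem_span_singleton.2 ⟨s⁻¹, by rw [← hs, smul_smul, inv_mul_cancel₀ hs0, one_smul]⟩
    · have d := Nice.finrank_ker_two (B := h.gW) w x
      obtain ⟨c, hc', hc0, hcc⟩ := Nice.exists_iso_in h.gW (LinearMap.ker (h.gW w) ⊓ LinearMap.ker (h.gW x)) (by omega)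
      refine ⟨c, hc'.1, hc'.2, hcc, fun h' => hc0 ?_, fun h' => hc0 ?_⟩
      · obtain ⟨s, rfl⟩ := Submodule.mem_span_singleton.1 h'
        have := LinearMap.mem_ker.1 hc'.2
        rw [map_smul, smul_eq_mul, h.g_sym x w] at this
        rw [(mul_eq_zero.1 this).resolve_right hwx, zero_smul]
      · obtain ⟨s, rfl⟩ := Submodule.mem_span_singleton.1 h'
        have := LinearMap.mem_ker.1 hc'.1
        rw [map_smul, smul_eq_mul] at this
        rw [(mul_eq_zero.1 this).resolve_right hwx, zero_smul]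
  have hflip : ∀ p q (E : Module.End F U), h.lg q p (- h.adj E) = h.lg p q E := fun p q E => by
    simp [lg, P_neg]
    abel
  have e1 := pair_of_short hG h5 hw hall hwc hc
  rw [← hflip] at e1
  have hwcn : w ∉ Submodule.span F {c} := fun h' => by
    obtain ⟨s, hs⟩ := Submodule.mem_span_singleton.1 h'
    have hs0 : s ≠ 0 := fun e => hw0 (by rw [← hs, e, zero_smul])
    exact hcw (Submodule.mem_span_singleton.2 ⟨s⁻¹, by rw [← hs, smul_smul, inv_mul_cancel₀ hs0, one_smul]⟩)
  have e2 := pair_of_short hG h5 hc (fun a => short_of_pair hG h5 hc (by rw [h.g_sym, hwc]) hw hwcn e1)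
    (by rw [h.g_sym, hxc]) hx
  rw [hflip] at e2
  exact short_of_pair hG h5 hx hxc hc hcx e2 hxa

theorem InD.pair {D : Module.End F U} (hD : h.InD M D) {w v : W} (hw0 : w ≠ 0) (hw : h.gW w w = 0)
    (hwv : h.gW w v = 0) (hv : h.gW v v = 0) : In M (h.lg w v D) := by
  rw [← h.sh_iso hv]; exact hD w v hw0 hw hwv

omit hG in
theorem exists_pair : ∃ w v : W, w ≠ 0 ∧ h.gW w w = 0 ∧ h.gW w v = 0 ∧ h.gW v v = 0 ∧
    v ∉ Submodule.span F {w} := by
  obtain ⟨w, -, hw0, hw⟩ := Nice.exists_iso_in h.gW (⊤ : Submodule F W) (by rw [finrank_top]; omega)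
  obtain ⟨v, h1, h2, h3⟩ := h.gN.exists_iso_perp h5 hw0 hw
  exact ⟨w, v, hw0, hw, h1, h2, h3⟩

theorem InD.one : h.InD M 1 := fun w a _ hw ha => in_sh hG hw ha

theorem InD.smul_one (s : F) : h.InD M (s • 1) := fun w a _ hw ha => by
  rw [← h.sh_smul]; exact in_sh hG hw (by rw [map_smul, ha, smul_zero])

theorem InD.add {D E : Module.End F U} (hD : h.InD M D) (hE : h.InD M E) : h.InD M (D + E) := by
  obtain ⟨w, v, hw0, hw, hwv, hv, hvn⟩ := exists_pair (h := h) h5
  have hvw : h.gW v w = 0 := by rw [h.g_sym, hwv]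
  refine InD.of_pair hG h5 hw0 hw hwv hv hvn ?_
  have := (hD.pair hG h5 hw0 hw hwv hv).add (hE.pair hG h5 hw0 hw hwv hv)
    (by simp [lg, sub_mul, mul_sub, P_mul, hw, hv, hwv, hvw])
  refine Eq.subst (motive := fun X => In M X) ?_ this
  simp [lg, P_add]
  abel

theorem InD.adj {D : Module.End F U} (hD : h.InD M D) : h.InD M (- h.adj D) := by
  obtain ⟨w, v, hw0, hw, hwv, hv, hvn⟩ := exists_pair (h := h) h5
  have hv0 : v ≠ 0 := fun e => hvn (e ▸ zero_mem _)
  refine InD.of_pair hG h5 hv0 hv (by rw [h.g_sym, hwv]) hw (fun h' => hvn ?_) ?_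
  · obtain ⟨s, hs⟩ := Submodule.mem_span_singleton.1 h'
    have hs0 : s ≠ 0 := fun e => hw0 (by rw [← hs, e, zero_smul])
    exact Submodule.mem_span_singleton.2 ⟨s⁻¹, by rw [← hs, smul_smul, inv_mul_cancel₀ hs0, one_smul]⟩
  · refine Eq.subst (motive := fun X => In M X) ?_ (hD.pair hG h5 hw0 hw hwv hv)
    simp [lg, P_neg]
    abel

theorem InD.neg {D : Module.End F U} (hD : h.InD M D) : h.InD M (-D) := by
  obtain ⟨w, v, hw0, hw, hwv, hv, hvn⟩ := exists_pair (h := h) h5
  refine InD.of_pair hG h5 hw0 hw hwv hv hvn ?_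
  have := (hD.pair hG h5 hw0 hw hwv hv).neg (by
    simp [lg, sub_mul, mul_sub, P_mul, hw, hv, hwv, h.g_sym v w])
  refine Eq.subst (motive := fun X => In M X) ?_ this
  simp [lg, P_neg]
  abel

theorem InD.adj' {D : Module.End F U} (hD : h.InD M D) : h.InD M (h.adj D) := by
  have := (hD.adj hG h5).neg hG h5
  rwa [neg_neg] at this

theorem InD.mul {D E : Module.End F U} (hD : h.InD M D) (hE : h.InD M E) : h.InD M (D * E) := by
  obtain ⟨w, v, hw0, hw, hwv, hv, hvn⟩ := exists_pair (h := h) h5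
  have hv0 : v ≠ 0 := fun e => hvn (e ▸ zero_mem _)
  obtain ⟨a, hwa, hva, haa⟩ := h.gN.exists_aniso_perp_two h5 w v
  refine InD.of_pair hG h5 hw0 hw hwv hv hvn ?_
  have := lg_of_comm (h := h) (a := a) (b := (-(h.gW a a)⁻¹) • a) (D := D) (E := h.adj E) h5 hw hv hwv hwa hva
    (by rw [map_smul, hwa, smul_zero]) (by rw [map_smul, hva, smul_zero])
    (by rw [map_smul, smul_eq_mul, neg_mul, inv_mul_cancel₀ haa])
    (hD w a hw0 hw hwa) (hE.adj' hG h5 v _ hv0 hv (by rw [map_smul, hva, smul_zero]))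
  rwa [adj_adj] at this

theorem InD.smul (s : F) {D : Module.End F U} (hD : h.InD M D) : h.InD M (s • D) := by
  have := (InD.smul_one hG h5 s).mul hG h5 hD
  rwa [smul_mul_assoc, one_mul] at this

theorem InD.sub {D E : Module.End F U} (hD : h.InD M D) (hE : h.InD M E) : h.InD M (D - E) := by
  rw [sub_eq_add_neg]; exact hD.add hG h5 (hE.neg hG h5)

end TData

end CfsgLib.TensorOO
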