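import Cfsg.Agent.Lib.OrthMax.TensorOO.Alg
import Mathlib.LinearAlgebra.Determinant

/-! A non-scalar root endomorphism gives all endomorphisms of rank one. -/

set_option autoImplicit false
set_option linter.unusedSectionVars false
set_option linter.unusedVariables false
set_option linter.unusedSimpArgs false

namespace CfsgLib.TensorOO

open QuadraticMap CfsgLib.Geometry CfsgLib.OrthMax
open CfsgLib.TensorSp (In)
open LinearMap (BilinForm)

variable {F V U W : Type*} [Field F] [Finite F] [AddCommGroup V] [Module F V] [AddCommGroup U] [Module F U]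
  [AddCommGroup W] [Module F W]
variable [FiniteDimensional F V] [FiniteDimensional F U] [FiniteDimensional F W]
variable {Q : QuadraticForm F V} {M : Subgroup (V ≃ₗ[F] V)}

namespace TData

variable (h : TData Q U W)

/-- The short element of the first factor. -/
noncomputable abbrev shU (z a : U) : Module.End F U := h.swap.shW z a

theorem shU_apply (z a u : U) : h.shU z a u =
    u + h.fU a u • z - h.fU z u • a - (h.fU a a / 2 * h.fU z u) • z := h.swap.shW_apply z a u

theorem shU_neg {z a : U} (hz : h.fU z z = 0) (ha : h.fU z a = 0) : h.shU z a * h.shU z (-a) = 1 :=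
  LinearMap.ext fun u => by
    have h2 := h.h2
    simp only [Module.End.mul_apply, Module.End.one_apply, shU_apply, map_neg, LinearMap.neg_apply, map_add, map_sub,
      map_smul, smul_eq_mul, LinearMap.add_apply, LinearMap.sub_apply, hz, ha, h.f_sym a z, neg_neg]
    match_scalars <;> field_simp <;> ring

theorem adj_shU {z a : U} (hz : h.fU z z = 0) (ha : h.fU z a = 0) : h.adj (h.shU z a) = h.shU z (-a) :=
  h.adj_eq fun u x => by
    simp only [shU_apply, map_neg, LinearMap.neg_apply, map_add, map_sub, map_smul, smul_eq_mul, LinearMap.add_apply,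
      LinearMap.sub_apply, LinearMap.smul_apply, neg_neg, h.f_sym u z, h.f_sym u a]
    ring

variable {h}
variable [Nontrivial U] [Nontrivial W] (hG : h.Gens M) (h5 : 5 ≤ Module.finrank F W)

include hG h5

/-- Conjugation by the first factor. -/
theorem InD.conjU {z a : U} (hz : h.fU z z = 0) (ha : h.fU z a = 0) {D : Module.End F U} (hD : h.InD M D) :
    h.InD M (h.shU z a * D * h.shU z (-a)) := by
  intro w b hw0 hw hb
  have hza : h.fU z (-a) = 0 := by rw [map_neg, ha, neg_zero]
  obtain ⟨k, hk, ek⟩ := act_sh (h := h.swap) hG.swap hz ha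
  have ek' : ∀ u x, k (h.tp u x) = h.tp (h.shU z a u) x := fun u x => ek x u
  have e1 : ∀ u, h.shU z (-a) (h.shU z a u) = u := fun u => by
    have := LinearMap.congr_fun (h.shU_neg hz hza) u
    rwa [neg_neg] at this
  refine (hD w b hw0 hw hb).conj hk fun T => ?_
  simp only [sh_apply, map_sub, map_smul, ek', c_actU hG.le hk ek', adj_mul, h.adj_shU hz ha, h.adj_shU hz hza,
    neg_neg, Module.End.mul_apply, e1]

omit hG h5 in
/-- A symmetric endomorphism isotropic on all isotropic vectors is a scalar. -/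
theorem sym_scalar (h3 : 3 ≤ Module.finrank F U) (hex : 5 ≤ Module.finrank F U ∨ ∃ s : F, s ≠ 0 ∧ s * s ≠ 1)
    {S : Module.End F U} (hS : ∀ x y, h.fU (S x) y = h.fU x (S y))
    (h0 : ∀ z, h.fU z z = 0 → h.fU z (S z) = 0) : ∃ c : F, S = c • 1 := by
  have h2 := h.h2
  obtain ⟨z, -, hz0, hz⟩ := Nice.exists_iso_in h.fU (⊤ : Submodule F U) (by rw [finrank_top]; exact h3)
  obtain ⟨z', hz', hzz'⟩ := h.fN.exists_partner hz0 hz
  have hz'0 : z' ≠ 0 := fun e => by rw [e, map_zero] at hzz'; exact zero_ne_one hzz'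
  have hs : ∀ x y, h.fU x (S y) = h.fU y (S x) := fun x y => by rw [← hS, h.f_sym]
  have hz'z : h.fU z' z = 1 := by rw [h.f_sym, hzz']
  have rel : ∀ p p' e, h.fU p p = 0 → h.fU p' p' = 0 → h.fU p p' = 1 → h.fU p e = 0 → h.fU p' e = 0 →
      2 * h.fU p (S e) = h.fU e e * h.fU e (S p') ∧ h.fU e (S e) = h.fU e e * h.fU p (S p') := by
    intro p p' e hp hp' hpp' hpe hp'e
    have key : ∀ t : F, 2 * t * h.fU p (S e) - t * t * h.fU e e * h.fU p (S p') + t * t * h.fU e (S e)
        - t * t * t * h.fU e e * h.fU e (S p') = 0 := fun t => by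
      have := h0 (p + t • e + (-(t * t * h.fU e e / 2)) • p') (by
        simp only [map_add, map_smul, LinearMap.add_apply, LinearMap.smul_apply, smul_eq_mul, hp, hp', hpp', hpe,
          hp'e, h.f_sym e p, h.f_sym p' p, h.f_sym e p']
        field_simp
        ring)
      simp only [map_add, map_smul, LinearMap.add_apply, LinearMap.smul_apply, smul_eq_mul, h0 p hp, h0 p' hp',
        hs e p, hs p' p, hs p' e] at this
      field_simp at this
      refine mul_left_cancel₀ (mul_ne_zero h2 h2) ?_
      linear_combination this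
    have a := key 1
    have b := key (-1)
    constructor <;> refine mul_left_cancel₀ h2 ?_
    · linear_combination a - b
    · linear_combination a + b
  have hL : ∀ e, h.fU z e = 0 → h.fU z' e = 0 → h.fU z (S e) = 0 ∧ h.fU z' (S e) = 0 := by
    rcases hex with h5' | ⟨s, hs0, hs1⟩
    · have hperp : ∀ p, p ≠ 0 → h.fU p p = 0 → ∀ e, h.fU p e = 0 → h.fU p (S e) = 0 := fun p hp0 hp e he =>
        h.fN.mem_of_iso h5' hp0 hp (LinearMap.ker (h.fU p ∘ₗ S)) (fun v hpv hv => by
          have := h0 (p + v) (by simp [hp, hv, hpv, h.f_sym v p])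
          simp only [map_add, LinearMap.add_apply, h0 p hp, h0 v hv, zero_add, add_zero, hs v p] at this
          refine (mul_eq_zero.1 (show (2 : F) * h.fU p (S v) = 0 by linear_combination this)).resolve_left h2) he
      exact fun e he he' => ⟨hperp z hz0 hz e he, hperp z' hz'0 hz' e he'⟩
    · intro e he he'
      have e1 := (rel z z' e hz hz' hzz' he he').1
      have e2 := (rel (s • z) (s⁻¹ • z') e (by simp [hz]) (by simp [hz']) (by simp [hzz', hs0])
        (by simp [he]) (by simp [he'])).1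
      simp only [map_smul, LinearMap.smul_apply, smul_eq_mul] at e2
      field_simp at e2
      have h4 : (s * s - 1) * h.fU z (S e) = 0 := mul_left_cancel₀ h2 (by linear_combination e2 - e1)
      have hze := (mul_eq_zero.1 h4).resolve_left (sub_ne_zero.2 hs1)
      rw [hze, mul_zero] at e1
      refine ⟨hze, ?_⟩
      have e3 := (rel z' z e hz' hz hz'z he' he).1
      rw [hs e z, hze, mul_zero] at e3
      exact (mul_eq_zero.1 e3).resolve_left h2
  set c := h.fU z (S z') with hc
  refine ⟨c, LinearMap.ext fun x => h.ext_f fun y => ?_⟩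
  have hdiag : ∀ v, h.fU v (S v) = c * h.fU v v := fun v => by
    set e := v - h.fU z' v • z - h.fU z v • z' with he
    have h1 : h.fU z e = 0 := by simp [he, hz, hzz']
    have h1' : h.fU z' e = 0 := by simp [he, hz', hz'z]
    obtain ⟨k1, k2⟩ := hL e h1 h1'
    have k3 := (rel z z' e hz hz' hzz' h1 h1').2
    rw [show v = e + h.fU z' v • z + h.fU z v • z' by rw [he]; abel]
    simp only [map_add, map_smul, LinearMap.add_apply, LinearMap.smul_apply, smul_eq_mul, k3, k1, k2, h0 z hz,
      h0 z' hz', hs e z, hs e z', hs z' z, hz, hz', hzz', hz'z, h.f_sym e z, h.f_sym e z', h1, h1', hc]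
    ring
  have e1 := hdiag (y + x)
  simp only [map_add, LinearMap.add_apply, hdiag y, hdiag x, hs x y, h.f_sym x y] at e1
  simp only [LinearMap.smul_apply, Module.End.one_apply, map_smul, smul_eq_mul]
  refine mul_left_cancel₀ h2 ?_
  linear_combination e1

/-- A non-scalar member has a value on an isotropic vector. -/
theorem exists_test (h3 : 3 ≤ Module.finrank F U) (hodd : Odd (Module.finrank F U))
    (hex : 5 ≤ Module.finrank F U ∨ ∃ s : F, s ≠ 0 ∧ s * s ≠ 1) {D : Module.End F U} (hD : h.InD M D)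
    (hns : ∀ s : F, D ≠ s • 1) : ∃ E z, h.InD M E ∧ h.fU z z = 0 ∧ h.fU z (E z) ≠ 0 := by
  classical
  by_contra hno
  push Not at hno
  have h2 := h.h2
  have hsum : ∀ E, h.InD M E → ∃ c : F, E + h.adj E = c • 1 := fun E hE =>
    sym_scalar h3 hex (fun x y => by simp [adj_spec, ← h.adj_spec', add_comm])
      fun z hz => hno _ z (hE.add hG h5 (hE.adj' hG h5)) hz
  haveI : Finite U := Module.finite_of_finite F
  haveI : Finite (Module.End F U) := Finite.of_injective (fun T : Module.End F U => (T : U → U))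
    DFunLike.coe_injective
  haveI := Fintype.ofFinite (Module.End F U)
  set K := Finset.univ.filter fun T : Module.End F U => h.InD M T ∧ h.adj T = -T with hK
  have hmemK : ∀ T, T ∈ K ↔ h.InD M T ∧ h.adj T = -T := fun T => by simp [hK]
  have hsq : ∀ T ∈ K, T * T = 0 := fun T hT => by
    obtain ⟨hT, hTa⟩ := (hmemK T).1 hT
    obtain ⟨c, hc⟩ := hsum _ (hT.mul hG h5 hT)
    rw [adj_mul, hTa, neg_mul_neg] at hc
    have hdet : LinearMap.det T = 0 := by
      have e : T.dualMap = (h.fU.toDual h.fN.nd).conj (-T) := LinearMap.ext fun φ => LinearMap.ext fun y => by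
        obtain ⟨u, rfl⟩ := (h.fU.toDual h.fN.nd).surjective φ
        rw [LinearMap.dualMap_apply, LinearEquiv.conj_apply_apply, LinearEquiv.symm_apply_apply,
          LinearMap.BilinForm.toDual_def, LinearMap.BilinForm.toDual_def, ← hTa, h.adj_spec]
      have e2 := congrArg LinearMap.det e
      rw [LinearMap.det_dualMap, LinearEquiv.conj_apply, LinearMap.comp_assoc, LinearMap.det_conj, ← neg_one_smul F T,
        LinearMap.det_smul, hodd.neg_one_pow, neg_one_mul] at e2
      exact (mul_eq_zero.1 (show (2 : F) * LinearMap.det T = 0 by linear_combination e2)).resolve_left h2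
    obtain ⟨y, hy, hy0⟩ := Submodule.exists_mem_ne_zero_of_ne_bot (LinearMap.bot_lt_ker_of_det_eq_zero hdet).ne'
    have e := LinearMap.congr_fun hc y
    simp only [LinearMap.add_apply, Module.End.mul_apply, LinearMap.mem_ker.1 hy, map_zero, add_zero,
      LinearMap.smul_apply, Module.End.one_apply] at e
    rcases smul_eq_zero.1 e.symm with e | e
    · rw [e, zero_smul] at hc
      have : (2 : F) • (T * T) = 0 := by rw [two_smul]; exact hc
      exact (smul_eq_zero.1 this).resolve_left h2
    · exact absurd e hy0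
  have hkill : ∀ S : Finset (Module.End F U), S ⊆ K → ∃ y, y ≠ 0 ∧ ∀ T ∈ S, T y = 0 := by
    intro S
    induction S using Finset.induction_on with
    | empty =>
      obtain ⟨y, hy⟩ := exists_ne (0 : U)
      exact fun _ => ⟨y, hy, by simp⟩
    | insert T S hTS ih =>
      intro hsub
      rw [Finset.insert_subset_iff] at hsub
      obtain ⟨y, hy0, hy⟩ := ih hsub.2
      by_cases hTy : T y = 0
      · exact ⟨y, hy0, fun T' hT' => by
          rcases Finset.mem_insert.1 hT' with rfl | hT'
          exacts [hTy, hy T' hT']⟩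
      refine ⟨T y, hTy, fun T' hT' => ?_⟩
      rcases Finset.mem_insert.1 hT' with rfl | hT'
      · exact LinearMap.congr_fun (hsq T' hsub.1) y
      obtain ⟨k1, k1'⟩ := (hmemK T).1 hsub.1
      obtain ⟨k2, k2'⟩ := (hmemK T').1 (hsub.2 hT')
      have := LinearMap.congr_fun (hsq (T + T') ((hmemK _).2 ⟨k1.add hG h5 k2, by rw [adj_add, k1', k2']; abel⟩)) y
      rw [add_mul, mul_add, mul_add, hsq T hsub.1, hsq T' (hsub.2 hT')] at this
      simpa [Module.End.mul_apply, hy T' hT'] using this
  obtain ⟨y, hy0, hy⟩ := hkill K subset_rfl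
  obtain ⟨c, hc⟩ := hsum D hD
  have hT : D - h.adj D ∈ K := (hmemK _).2 ⟨hD.sub hG h5 (hD.adj' hG h5), by simp⟩
  refine hns (c / 2) (LinearMap.ext fun v => ?_)
  have hv : (D - h.adj D) v = 0 := by
    let Y : Submodule F U := ⨅ T ∈ K, LinearMap.ker T
    have hY : ∀ v, v ∈ Y ↔ ∀ T ∈ K, T v = 0 := fun v => by simp [Y, Submodule.mem_iInf]
    refine (hY v).1 (h.fN.eq_top_of_invariant h3 Y (fun p q hp hpq x hx => ?_) ((hY y).2 hy) hy0 v) _ hT
    rw [← shU_apply]
    refine (hY _).2 fun T hT => ?_
    obtain ⟨k1, k1'⟩ := (hmemK T).1 hT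
    have hpq' : h.fU p (-q) = 0 := by rw [map_neg, hpq, neg_zero]
    have := (hY x).1 hx _ ((hmemK _).2 ⟨k1.conjU hG h5 hp hpq', by
      rw [adj_mul, adj_mul, neg_neg, h.adj_shU hp hpq, h.adj_shU hp hpq', k1', neg_neg, neg_mul, mul_neg,
        mul_assoc]⟩)
    have e := congrArg (h.shU p q) this
    rw [map_zero, neg_neg, Module.End.mul_apply, Module.End.mul_apply, ← Module.End.mul_apply, h.shU_neg hp hpq,
      Module.End.one_apply] at e
    exact e
  have e := LinearMap.congr_fun hc v
  rw [LinearMap.sub_apply, sub_eq_zero] at hv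
  rw [LinearMap.add_apply, ← hv, LinearMap.smul_apply, ← two_smul F] at e
  rw [LinearMap.smul_apply, div_eq_inv_mul, mul_smul, ← e, smul_smul, inv_mul_cancel₀ h2, one_smul]

/-- The square of an isotropic vector. -/
theorem exists_rk (h3 : 3 ≤ Module.finrank F U) (hex : 5 ≤ Module.finrank F U ∨ ∃ s : F, s ≠ 0 ∧ s * s ≠ 1)
    {E : Module.End F U} (hE : h.InD M E) {z : U} (hz : h.fU z z = 0) (hzE : h.fU z (E z) ≠ 0) :
    h.InD M (h.rk z z) := by
  have h2 := h.h2
  have hz0 : z ≠ 0 := fun e => hzE (by rw [e, map_zero, LinearMap.zero_apply])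
  rcases hex with h5' | ⟨s, hs0, hs1⟩
  · obtain ⟨y, hzy, hy, hyn⟩ := h.fN.exists_iso_perp h5' hz0 hz
    obtain ⟨y', hy', hyy', hzy'⟩ := h.fN.exists_partner_perp hy hzy hyn
    have step : ∀ p, h.fU z p = 0 → h.fU p p = 0 → ∀ G, h.InD M G →
        h.InD M ((h.rk z p - h.rk p z) * G * (h.rk z p - h.rk p z)) := fun p hzp hp G hG' => by
      have := ((((hG'.conjU hG h5 hz hzp).add hG h5 (hG'.conjU hG h5 hz (a := -p) (by rw [map_neg, hzp, neg_zero]))).sub
        hG h5 hG').sub hG h5 hG').smul hG h5 (-(2 : F)⁻¹)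
      refine Eq.subst (motive := fun X => h.InD M X) (LinearMap.ext fun u => ?_) this
      simp only [LinearMap.smul_apply, LinearMap.sub_apply, LinearMap.add_apply, Module.End.mul_apply, shU_apply,
        map_neg, LinearMap.neg_apply, neg_neg, map_add, map_sub, map_smul, rk_apply, hp, smul_eq_mul]
      match_scalars <;> field_simp <;> ring
    have := (step y' hzy' hy' _ (step y hzy hy E hE)).smul hG h5 (h.fU z (E z))⁻¹
    refine Eq.subst (motive := fun X => h.InD M X) (LinearMap.ext fun u => ?_) this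
    simp only [LinearMap.smul_apply, LinearMap.sub_apply, Module.End.mul_apply, rk_apply, map_sub, map_smul,
      smul_eq_mul, hz, hy, hy', hzy, hzy', hyy', h.f_sym y z, h.f_sym y' z, h.f_sym y' y]
    match_scalars <;> field_simp <;> ring
  · obtain ⟨a, ha, haa⟩ := h.fN.exists_aniso_in (LinearMap.ker (h.fU z)) (by have := h.fN.finrank_ker hz0; omega)
    rw [LinearMap.mem_ker] at ha
    have ev : ∀ t : F, h.InD M (h.shU z (t • a) * E * h.shU z (-(t • a)) + h.shU z (-(t • a)) * E * h.shU z (t • a)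
        - E - E) := fun t => by
      have h1 : h.fU z (t • a) = 0 := by rw [map_smul, ha, smul_zero]
      have := hE.conjU hG h5 hz (a := -(t • a)) (by rw [map_neg, h1, neg_zero])
      rw [neg_neg] at this
      exact (((hE.conjU hG h5 hz h1).add hG h5 this).sub hG h5 hE).sub hG h5 hE
    have hne : (2 : F) * (s * s * (s * s - 1)) * ((h.fU a a / 2) * (h.fU a a / 2)) * h.fU z (E z) ≠ 0 :=
      mul_ne_zero (mul_ne_zero (mul_ne_zero h2 (mul_ne_zero (mul_ne_zero hs0 hs0) (sub_ne_zero.2 hs1)))
        (mul_ne_zero (div_ne_zero haa h2) (div_ne_zero haa h2))) hzE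
    have := ((ev s).sub hG h5 ((ev 1).smul hG h5 (s * s))).smul hG h5
      ((2 : F) * (s * s * (s * s - 1)) * ((h.fU a a / 2) * (h.fU a a / 2)) * h.fU z (E z))⁻¹
    refine Eq.subst (motive := fun X => h.InD M X) ?_ this
    rw [inv_smul_eq_iff₀ hne]
    refine LinearMap.ext fun u => ?_
    simp only [one_smul, LinearMap.smul_apply, LinearMap.sub_apply, LinearMap.add_apply, Module.End.mul_apply,
      shU_apply, map_neg, LinearMap.neg_apply, map_add, map_sub, map_smul, rk_apply, smul_eq_mul]
    match_scalars <;> field_simp <;> ring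

/-- All endomorphisms of rank one. -/
theorem all_rk (h3 : 3 ≤ Module.finrank F U) {z : U} (hz0 : z ≠ 0) (hz : h.fU z z = 0)
    (hzz : h.InD M (h.rk z z)) (x y : U) : h.InD M (h.rk x y) := by
  have h2 := h.h2
  obtain ⟨z', hz', hzz'⟩ := h.fN.exists_partner hz0 hz
  have hz'z : h.fU z' z = 1 := by rw [h.f_sym, hzz']
  let Y : Submodule F U :=
    { carrier := {v | h.InD M (h.rk v z)}
      zero_mem' := by
        have := hzz.smul hG h5 0
        refine Eq.subst (motive := fun X => h.InD M X) (LinearMap.ext fun u => ?_) this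
        simp [rk_apply]
      add_mem' := fun {v v'} e e' => by
        refine Eq.subst (motive := fun X => h.InD M X) (LinearMap.ext fun u => ?_) (InD.add hG h5 e e')
        simp [rk_apply]
      smul_mem' := fun s v e => by
        refine Eq.subst (motive := fun X => h.InD M X) (LinearMap.ext fun u => ?_) (InD.smul hG h5 s e)
        simp [rk_apply, smul_smul, mul_comm] }
  have hzY : z ∈ Y := hzz
  have horb : ∀ a, h.fU z' a = 0 → h.fU z a = 0 → h.fU a a ≠ 0 →
      z - a + (-(h.fU a a / 2)) • z' ∈ Y ∧ ∃ p, h.fU z p ≠ 0 ∧ h.InD M (h.rk p p) := fun a ha' ha haa => by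
    set p := h.shU z' a z with hp
    have hpe : p = z - a + (-(h.fU a a / 2)) • z' := by
      rw [hp, shU_apply, h.f_sym a z, ha, hz'z]
      module
    have hpp := hzz.conjU hG h5 hz' ha'
    have hrk : h.shU z' a * h.rk z z * h.shU z' (-a) = h.rk p p := LinearMap.ext fun u => by
      rw [Module.End.mul_apply, Module.End.mul_apply, rk_apply, map_smul, rk_apply, hp]
      congr 1
      rw [← h.adj_shU hz' ha', h.adj_spec']
    rw [hrk] at hpp
    have hne : h.fU p z ≠ 0 := by
      rw [hpe]; simp [hz, h.f_sym a z, ha, hz'z, haa, h2]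
    have := (hpp.mul hG h5 hzz).smul hG h5 (h.fU p z)⁻¹
    rw [rk_mul, smul_smul, inv_mul_cancel₀ hne, one_smul, hpe] at this
    exact ⟨this, p, by rw [h.f_sym]; exact hne, hpp⟩
  have hd : Module.finrank F U ≤ Module.finrank F (LinearMap.ker (h.fU z) ⊓ LinearMap.ker (h.fU z') :
      Submodule F U) + 2 := Nice.finrank_ker_two z z'
  have han : ∀ a, h.fU z a = 0 → h.fU z' a = 0 → h.fU a a ≠ 0 → a ∈ Y ∧ z' ∈ Y := fun a ha ha' haa => by
    have e1 := (horb a ha' ha haa).1
    have e2 := (horb (-a) (by rw [map_neg, ha', neg_zero]) (by rw [map_neg, ha, neg_zero]) (by simpa using haa)).1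
    have hne : h.fU a a / 2 ≠ 0 := div_ne_zero haa h2
    refine ⟨?_, ?_⟩
    · have := Y.smul_mem (1 / 2) (Y.sub_mem e2 e1)
      refine Eq.subst (motive := fun t => t ∈ Y) ?_ this
      simp
      match_scalars <;> field_simp <;> ring
    · have := Y.smul_mem (-(1 / (2 * (h.fU a a / 2)))) (Y.sub_mem (Y.sub_mem (Y.add_mem e1 e2) hzY) hzY)
      refine Eq.subst (motive := fun t => t ∈ Y) ?_ this
      simp
      match_scalars <;> field_simp <;> ring
  obtain ⟨a₀, ha₀, ha₀a⟩ : ∃ a, (h.fU z a = 0 ∧ h.fU z' a = 0) ∧ h.fU a a ≠ 0 := by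
    by_contra hno
    push Not at hno
    obtain ⟨v, hv⟩ : ∃ v, v ∈ LinearMap.ker (h.fU z) ⊓ LinearMap.ker (h.fU z') ∧ v ≠ 0 := by
      refine Submodule.exists_mem_ne_zero_of_ne_bot fun e => ?_
      rw [e, finrank_bot] at hd; omega
    obtain ⟨⟨hv1, hv2⟩, hv0⟩ := hv
    simp only [SetLike.mem_coe, LinearMap.mem_ker] at hv1 hv2
    refine hv0 (h.fN.nd.1 v fun u => ?_)
    set e := u - h.fU z' u • z - h.fU z u • z' with he
    have h1 : h.fU z e = 0 := by simp [he, hz, hzz']
    have h1' : h.fU z' e = 0 := by simp [he, hz', hz'z]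
    have e3 := hno (v + e) ⟨by rw [map_add, hv1, h1, add_zero], by rw [map_add, hv2, h1', add_zero]⟩
    simp only [map_add, LinearMap.add_apply, hno v ⟨hv1, hv2⟩, hno e ⟨h1, h1'⟩, h.f_sym e v, zero_add, add_zero] at e3
    have e4 : h.fU v e = 0 := (mul_eq_zero.1 (show (2 : F) * h.fU v e = 0 by linear_combination e3)).resolve_left h2
    simpa [he, h.f_sym v z, h.f_sym v z', hv1, hv2] using e4
  obtain ⟨ha₀Y, hz'Y⟩ := han a₀ ha₀.1 ha₀.2 ha₀a
  have hE : ∀ e, h.fU z e = 0 → h.fU z' e = 0 → e ∈ Y := fun e he he' => by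
    by_cases hee : h.fU e e = 0
    · by_cases hp : h.fU (e + a₀) (e + a₀) = 0
      · have hm : h.fU (e - a₀) (e - a₀) ≠ 0 := fun hm => by
          simp only [map_add, map_sub, LinearMap.add_apply, LinearMap.sub_apply, hee, h.f_sym a₀ e] at hp hm
          exact mul_ne_zero h2 ha₀a (by linear_combination hp + hm)
        have := Y.add_mem (han _ (by rw [map_sub, he, ha₀.1, sub_zero]) (by rw [map_sub, he', ha₀.2, sub_zero]) hm).1 ha₀Y
        rwa [sub_add_cancel] at this
      · have := Y.sub_mem (han _ (by rw [map_add, he, ha₀.1, add_zero]) (by rw [map_add, he', ha₀.2, add_zero]) hp).1 ha₀Y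
        rwa [add_sub_cancel_right] at this
    · exact (han e he he' hee).1
  have hY : ∀ v, v ∈ Y := fun v => by
    set e := v - h.fU z' v • z - h.fU z v • z' with he
    have := Y.add_mem (Y.add_mem (hE e (by simp [he, hz, hzz']) (by simp [he, hz', hz'z]))
      (Y.smul_mem (h.fU z' v) hzY)) (Y.smul_mem (h.fU z v) hz'Y)
    rwa [show e + h.fU z' v • z + h.fU z v • z' = v by rw [he]; abel] at this
  have h1 : h.InD M (h.rk z y) := by
    have := InD.adj' hG h5 (hY y)
    rwa [adj_rk] at this
  have h5' : h.InD M (h.rk x z) := hY x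
  obtain ⟨-, p, hzp, hpp⟩ := horb a₀ ha₀.2 ha₀.1 ha₀a
  have := ((h5'.mul hG h5 hpp).mul hG h5 h1).smul hG h5 (h.fU z p * h.fU p z)⁻¹
  rw [rk_mul, smul_mul_assoc, rk_mul, smul_smul, smul_smul, h.f_sym p z, mul_assoc,
    inv_mul_cancel₀ (mul_ne_zero hzp hzp), one_smul] at this
  exact this

end TData

end CfsgLib.TensorOO
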