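import Cfsg.Agent.Lib.OrthMax.TensorOO.Main
import Cfsg.Agent.Lib.AschbacherOrth.Proper
import Cfsg.Agent.Lib.Geometry.GeoOmega
import Cfsg.Agent.Lib.OrthMax.TensorSp.Bridge

/-! Tensor products of two orthogonal spaces in coordinates. -/

set_option autoImplicit false
set_option linter.unusedSectionVars false
set_option linter.unusedVariables false
set_option linter.unusedSimpArgs false

namespace CfsgLib.TensorOO

open QuadraticMap CfsgLib.Geometry CfsgLib.OrthMax Cfsg Cfsg.Geo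
open CfsgLib.AschbacherOrth
open scoped Matrix MatrixGroups

universe u

variable {F : Type u} [Field F] [Fintype F] {ι : Type} [Fintype ι] [DecidableEq ι] {n₁ n₂ : ℕ}
variable {Q : QuadraticForm F (ι → F)}

/-- A symmetric form as a bilinear map. -/
theorem bil_nice {k : ℕ} {f : (Fin k → F) → (Fin k → F) → F} (hf : IsSymmetricForm f) (h2 : (2 : F) ≠ 0) :
    Nice (TensorSp.bil hf.bilinear) := by
  refine ⟨hf.symm, ⟨fun x hx => by_contra fun hne => ?_, fun x hx => by_contra fun hne => ?_⟩, h2⟩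
  · obtain ⟨-, ⟨y, hy⟩⟩ := hf.nondegenerate x hne
    exact hy (hx y)
  · obtain ⟨⟨y, hy⟩, -⟩ := hf.nondegenerate x hne
    exact hy (hx y)

/-- The coordinate tensor structure. -/
theorem exists_data (hQ : (polarBilin Q).Nondegenerate) (h2 : (2 : F) ≠ 0) (e : ι ≃ Fin n₁ × Fin n₂) (P : GL ι F)
    {f₁ : (Fin n₁ → F) → (Fin n₁ → F) → F} {f₂ : (Fin n₂ → F) → (Fin n₂ → F) → F}
    (hf₁ : IsSymmetricForm f₁) (hf₂ : IsSymmetricForm f₂)
    (hT : IsTensorFormStructure id (polar ⇑Q) f₁ f₂ e P) :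
    ∃ h : TData Q (Fin n₁ → F) (Fin n₂ → F), h.tp = TensorSp.pureMap e P ∧
      h.gW = TensorSp.bil hf₂.bilinear := by
  obtain ⟨c, hc, hpol⟩ := NotMax.polar_pure hf₁.bilinear hf₂.bilinear hT
  refine ⟨{
    tp := TensorSp.pureMap e P
    fU := c • TensorSp.bil hf₁.bilinear
    gW := TensorSp.bil hf₂.bilinear
    fN := ?_
    gN := bil_nice hf₂ h2
    qnd := hQ
    pol := fun u u' w w' => (hpol u u' w w').trans (mul_assoc _ _ _).symm
    span := ?_ }, rfl, rfl⟩
  · have hn := bil_nice hf₁ h2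
    exact ⟨fun x y => by simp [hn.sym x y], ⟨fun x hx => hn.nd.1 x fun y => by simpa [hc] using hx y,
      fun x hx => hn.nd.2 x fun y => by simpa [hc] using hx y⟩, h2⟩
  · refine eq_top_iff.2 fun v _ => ?_
    rw [← Matrix.one_mulVec v, ← Units.mul_inv P, ← Matrix.mulVec_mulVec,
      ← Finset.univ_sum_single ((↑P⁻¹ : Matrix ι ι F) *ᵥ v), Matrix.mulVec_sum]
    refine Submodule.sum_mem _ fun k _ => ?_
    rw [← mul_one (((↑P⁻¹ : Matrix ι ι F) *ᵥ v) k), ← smul_eq_mul, Pi.single_smul, Matrix.mulVec_smul,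
      ← TensorSp.pureVec_single e P k]
    exact Submodule.smul_mem _ _ (Submodule.subset_span ⟨_, _, rfl⟩)

/-- A product map lies in the tensor product subgroup. -/
theorem mem_tensor_of_maps (e : ι ≃ Fin n₁ × Fin n₂) (P : GL ι F) (g : orth Q) {lam : Module.End F (Fin n₁ → F)}
    {S : Module.End F (Fin n₂ → F)} (hl : Function.Injective lam) (hS : Function.Injective S)
    (eg : ∀ x y, (g : (ι → F) ≃ₗ[F] (ι → F)) (TensorSp.pureMap e P x y) = TensorSp.pureMap e P (lam x) (S y)) :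
    orthToGL Q g ∈ tensorProductSubgroup n₁ n₂ e P := by
  have u1 : IsUnit (LinearMap.toMatrix' lam) := Matrix.mulVec_injective_iff_isUnit.1 fun x x' h => hl (by
    simpa [LinearMap.toMatrix'_mulVec] using h)
  have u2 : IsUnit (LinearMap.toMatrix' S) := Matrix.mulVec_injective_iff_isUnit.1 fun x x' h => hS (by
    simpa [LinearMap.toMatrix'_mulVec] using h)
  refine TensorSp.mem_tensor_of_pure e P u1.unit u2.unit fun x y => ?_
  rw [orthToGL_mulVec, IsUnit.unit_spec, IsUnit.unit_spec, LinearMap.toMatrix'_mulVec, LinearMap.toMatrix'_mulVec]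
  exact eg x y

/-- A map of one factor inside an element is injective. -/
theorem injective_of_act {V U W : Type*} [AddCommGroup V] [Module F V] [AddCommGroup U] [Module F U]
    [AddCommGroup W] [Module F W] [FiniteDimensional F V] [FiniteDimensional F U] [FiniteDimensional F W]
    [Nontrivial U] {Q : QuadraticForm F V} (h : TData Q U W) (g : V ≃ₗ[F] V) {ρ : Module.End F W}
    (eg : ∀ u y, g (h.tp u y) = h.tp u (ρ y)) : Function.Injective ρ :=
  (injective_iff_map_eq_zero _).2 fun y hy => by_contra fun hne => by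
    obtain ⟨u, hu⟩ := exists_ne (0 : U)
    exact h.tp_ne_zero hu hne (g.injective (by rw [eg, hy, map_zero, map_zero]))

/-- A dichotomy for the tensor structure makes the stabiliser of `O ⊗ O` maximal. -/
theorem tensor_maximal_of (hQ : (polarBilin Q).Nondegenerate) (hι : 5 ≤ Fintype.card ι) (h2 : (2 : F) ≠ 0)
    (h1 : 2 ≤ n₁) (h2' : 3 ≤ n₂) (e : ι ≃ Fin n₁ × Fin n₂) (P : GL ι F)
    {f₁ : (Fin n₁ → F) → (Fin n₁ → F) → F} {f₂ : (Fin n₂ → F) → (Fin n₂ → F) → F}
    (hf₁ : IsSymmetricForm f₁) (hf₂ : IsSymmetricForm f₂)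
    (hT : IsTensorFormStructure id (polar ⇑Q) f₁ f₂ e P)
    (hdich : ∀ (h : TData Q (Fin n₁ → F) (Fin n₂ → F)) (N : Subgroup ((ι → F) ≃ₗ[F] (ι → F))),
      h.gW = TensorSp.bil hf₂.bilinear → h.Gens N → siegelGroup Q ≤ N ∨ ∀ g ∈ N, h.Pure g) :
    IsMaximalIn (omegaGL ⇑Q) (tensorProductSubgroup n₁ n₂ e P ⊓ omegaGL ⇑Q) := by
  classical
  obtain ⟨h, htp, hgW⟩ := exists_data hQ h2 e P hf₁ hf₂ hT
  have hn : 5 ≤ Module.finrank F (ι → F) := by simpa using hι
  have hC := fun g => OrthMax.mem_commutator_iff_siegelGroup hQ hn (Q := Q) g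
  refine ⟨lt_of_le_of_ne inf_le_right fun he => not_tensor hQ hι (by omega) (by omega) e P
    (siegelIn_of_omega_le hQ hι (inf_eq_right.1 he)), fun M hHM hMK => ?_⟩
  set N := (M.comap (orthToGL Q) ⊓ commutator (orth Q)).map (orth Q).subtype
  have hNle : N ≤ siegelGroup Q := by
    rintro _ ⟨g, hg, rfl⟩; exact (hC g).1 hg.2
  have hin : ∀ (k : (ι → F) ≃ₗ[F] (ι → F)) (hk : k ∈ siegelGroup Q),
      orthToGL Q ⟨k, siegelGroup_le_orth hk⟩ ∈ tensorProductSubgroup n₁ n₂ e P → k ∈ N := fun k hk hmem =>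
    ⟨⟨k, siegelGroup_le_orth hk⟩, ⟨hHM ⟨hmem, by
      rw [omegaGL_eq_map]; exact Subgroup.mem_map_of_mem _ ((hC _).2 hk)⟩, (hC _).2 hk⟩, rfl⟩
  haveI : Nonempty (Fin n₁) := ⟨⟨0, by omega⟩⟩
  haveI : Nonempty (Fin n₂) := ⟨⟨0, by omega⟩⟩
  have hG : h.Gens N := by
    refine ⟨fun k hk => siegelGroup_le_orth (hNle hk), fun k hk ρ eρ => hin k hk ?_, fun k hk γ eγ => hin k hk ?_⟩
    · exact mem_tensor_of_maps e P _ (lam := 1) Function.injective_id (injective_of_act h k eρ) fun x y => by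
        rw [← htp]; exact eρ x y
    · exact mem_tensor_of_maps e P _ (S := 1) (injective_of_act h.swap k fun y x => eγ x y) Function.injective_id
        fun x y => by rw [← htp]; exact eγ x y
  rcases hdich h N hgW hG with htop | hall
  · refine Or.inr (le_antisymm hMK ?_)
    rw [omegaGL_eq_map]
    rintro _ ⟨g, hg, rfl⟩
    obtain ⟨g', hg', he'⟩ := htop ((hC g).1 hg)
    rw [← Subtype.ext he']
    exact hg'.1
  · refine Or.inl (le_antisymm (fun x hx => ?_) hHM)
    have hm' := hMK hx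
    rw [omegaGL_eq_map] at hm'
    obtain ⟨g, hg, rfl⟩ := hm'
    obtain ⟨lam, S, eP⟩ := hall g ⟨g, ⟨hx, hg⟩, rfl⟩
    obtain ⟨b1, b2⟩ := TData.Pure.bij eP
    refine ⟨mem_tensor_of_maps e P g b1.1 b2.1 fun x y => ?_,
      by rw [omegaGL_eq_map]; exact Subgroup.mem_map_of_mem _ hg⟩
    rw [← htp]
    exact eP x y


/-- The exceptional case excluded, a small scalar exists. -/
theorem exists_small (h2 : (2 : F) ≠ 0) {k : ℕ} (h1 : 3 ≤ k) (ho₁ : Odd k)
    (hex : ¬ (Fintype.card F = 3 ∧ k = 3)) :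
    5 ≤ Module.finrank F (Fin k → F) ∨ ∃ s : F, s ≠ 0 ∧ s * s ≠ 1 := by
  classical
    by_cases h5 : 5 ≤ k
    · exact Or.inl (by simpa using h5)
    refine Or.inr ?_
    by_contra hno
    push Not at hno
    obtain ⟨j, hj⟩ := ho₁
    refine hex ⟨le_antisymm ?_ ?_, by omega⟩
    · calc Fintype.card F = (Finset.univ : Finset F).card := rfl
        _ ≤ ({0, 1, -1} : Finset F).card := Finset.card_le_card fun μ _ => by
              by_cases h0 : μ = 0
              · simp [h0]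
              · rcases mul_self_eq_one_iff.1 (hno μ h0) with e | e <;> simp [e]
        _ ≤ 3 := Finset.card_le_three
    · have hc : ({0, 1, -1} : Finset F).card = 3 := Finset.card_eq_three.2 ⟨0, 1, -1, zero_ne_one,
        (by simp), fun e => h2 (by linear_combination e), rfl⟩
      exact hc ▸ Finset.card_le_univ _

/-- The stabiliser of `O ⊗ O` in odd dimension is maximal. -/
theorem tensor_maximal_odd (hQ : (polarBilin Q).Nondegenerate) (hι : 5 ≤ Fintype.card ι) (h2 : (2 : F) ≠ 0)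
    (h1 : 3 ≤ n₁) (h12 : n₁ < n₂) (ho₁ : Odd n₁) (ho₂ : Odd n₂) (hex : ¬ (Fintype.card F = 3 ∧ n₁ = 3))
    (e : ι ≃ Fin n₁ × Fin n₂) (P : GL ι F)
    {f₁ : (Fin n₁ → F) → (Fin n₁ → F) → F} {f₂ : (Fin n₂ → F) → (Fin n₂ → F) → F}
    (hf₁ : IsSymmetricForm f₁) (hf₂ : IsSymmetricForm f₂)
    (hT : IsTensorFormStructure id (polar ⇑Q) f₁ f₂ e P) :
    IsMaximalIn (omegaGL ⇑Q) (tensorProductSubgroup n₁ n₂ e P ⊓ omegaGL ⇑Q) :=
  tensor_maximal_of hQ hι h2 (by omega) (by omega) e P hf₁ hf₂ hT fun h N _ hG =>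
    TData.dichotomy_odd hG (by simpa using h1) (by simpa using ho₁) (by simpa using ho₂) (by simpa using h12)
      (exists_small h2 h1 ho₁ hex)

end CfsgLib.TensorOO
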