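import Cfsg.Agent.Lib.OrthMax.TensorOO.Sym
import Cfsg.Agent.Lib.OrthMax.TensorSp.XLemma

/-! A quadratic space in odd characteristic as a tensor product of two orthogonal spaces. -/

set_option autoImplicit false
set_option linter.unusedSectionVars false
set_option linter.unusedVariables false
set_option linter.unusedSimpArgs false

namespace CfsgLib.TensorOO

open QuadraticMap CfsgLib.Geometry CfsgLib.OrthMax
open CfsgLib.TensorSp (In)
open LinearMap (BilinForm)

variable {F V U W : Type*} [Field F] [AddCommGroup V] [Module F V] [AddCommGroup U] [Module F U]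
  [AddCommGroup W] [Module F W]
variable [FiniteDimensional F V] [FiniteDimensional F U] [FiniteDimensional F W]

/-- The polar form is the product of two symmetric forms. -/
structure TData (Q : QuadraticForm F V) (U W : Type*) [AddCommGroup U] [Module F U] [AddCommGroup W]
    [Module F W] [FiniteDimensional F U] [FiniteDimensional F W] where
  /-- Pure tensors. -/
  tp : U →ₗ[F] W →ₗ[F] V
  /-- The form on the first factor. -/
  fU : BilinForm F U
  /-- The form on the second factor. -/
  gW : BilinForm F W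
  fN : Nice fU
  gN : Nice gW
  qnd : (polarBilin Q).Nondegenerate
  pol : ∀ u u' w w', polar Q (tp u w) (tp u' w') = fU u u' * gW w w'
  span : Submodule.span F {S | ∃ u w, tp u w = S} = ⊤

variable {Q : QuadraticForm F V}

/-- The two factors exchanged. -/
def TData.swap (h : TData Q U W) : TData Q W U where
  tp := h.tp.flip
  fU := h.gW
  gW := h.fU
  fN := h.gN
  gN := h.fN
  qnd := h.qnd
  pol u u' w w' := by rw [LinearMap.flip_apply, LinearMap.flip_apply, h.pol, mul_comm]
  span := by
    rw [← h.span]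
    congr 1
    ext S
    exact ⟨fun ⟨u, w, e⟩ => ⟨w, u, e⟩, fun ⟨u, w, e⟩ => ⟨w, u, e⟩⟩

namespace TData

variable (h : TData Q U W)

include h in
theorem h2 : (2 : F) ≠ 0 := h.fN.two

theorem g_sym (x y : W) : h.gW x y = h.gW y x := h.gN.sym x y

theorem f_sym (x y : U) : h.fU x y = h.fU y x := h.fN.sym x y

/-- Maps agreeing on pure tensors are equal. -/
theorem ext_tp {X : Type*} [AddCommGroup X] [Module F X] {φ ψ : V →ₗ[F] X}
    (e : ∀ u w, φ (h.tp u w) = ψ (h.tp u w)) : φ = ψ :=
  LinearMap.ext_on h.span (by rintro _ ⟨u, w, rfl⟩; exact e u w)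

theorem sep {T : V} (e : ∀ u w, polar Q (h.tp u w) T = 0) : T = 0 := h.qnd.2 T fun S => by
  have := LinearMap.congr_fun (h.ext_tp (φ := (polarBilin Q).flip T) (ψ := 0)
    fun u w => (polarBilin_apply_apply Q _ T).trans (e u w)) S
  simpa using this

theorem Q_tp (u : U) (w : W) : 2 * Q (h.tp u w) = h.fU u u * h.gW w w := by
  rw [← polar_self', h.pol]

theorem Q_tp_zero (u : U) {w : W} (hw : h.gW w w = 0) : Q (h.tp u w) = 0 :=
  (mul_eq_zero.1 (show 2 * Q (h.tp u w) = 0 by rw [h.Q_tp, hw, mul_zero])).resolve_left h.h2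

/-- Contraction with a vector of the second factor. -/
noncomputable def c : W →ₗ[F] V →ₗ[F] U :=
  LinearMap.mk₂ F (fun w T => (h.fU.toDual h.fN.nd).symm ((polarBilin Q T) ∘ₗ h.tp.flip w))
    (fun w w' T => by rw [map_add, LinearMap.comp_add, map_add])
    (fun s w T => by rw [map_smul, LinearMap.comp_smul, map_smul])
    (fun w T T' => by rw [map_add, LinearMap.add_comp, map_add])
    (fun s w T => by rw [map_smul, LinearMap.smul_comp, map_smul])

theorem pol_c (u : U) (w : W) (T : V) : h.fU u (h.c w T) = polar Q (h.tp u w) T := by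
  rw [h.f_sym]
  simp only [c, LinearMap.mk₂_apply]
  rw [LinearMap.BilinForm.apply_toDual_symm_apply, LinearMap.comp_apply, LinearMap.flip_apply,
    polarBilin_apply_apply, QuadraticMap.polar_comm]

theorem polar_tp (u : U) (w : W) (T : V) : polar Q (h.tp u w) T = h.fU u (h.c w T) := (h.pol_c u w T).symm

theorem polar_tp' (u : U) (w : W) (T : V) : polar Q T (h.tp u w) = h.fU u (h.c w T) := by
  rw [QuadraticMap.polar_comm, h.polar_tp]

theorem ext_f {x y : U} (e : ∀ u, h.fU u x = h.fU u y) : x = y := h.fN.ext_left e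

@[simp] theorem c_tp (u : U) (w w' : W) : h.c w (h.tp u w') = h.gW w w' • u :=
  h.ext_f fun x => by rw [h.pol_c, h.pol, map_smul, smul_eq_mul, mul_comm]

theorem eq_zero_of_c {T : V} (e : ∀ w, h.c w T = 0) : T = 0 :=
  h.sep fun u w => by rw [h.polar_tp, e, map_zero]

theorem tp_ne_zero {u : U} {w : W} (hu : u ≠ 0) (hw : w ≠ 0) : h.tp u w ≠ 0 := fun e => by
  obtain ⟨x, hx⟩ := h.gN.exists_one hw
  have := h.c_tp u x w
  rw [e, map_zero, hx, one_smul] at this
  exact hu this.symm

/-- The pure tensors with a given second factor. -/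
def A (w : W) : Submodule F V := LinearMap.range (h.tp.flip w)

theorem tp_mem_A (u : U) (w : W) : h.tp u w ∈ h.A w := ⟨u, rfl⟩

theorem c_A {w v : W} {T : V} (hwv : h.gW v w = 0) (hT : T ∈ h.A w) : h.c v T = 0 := by
  obtain ⟨u, rfl⟩ := hT
  rw [LinearMap.flip_apply, h.c_tp, hwv, zero_smul]

theorem tp_injective {w : W} (hw : w ≠ 0) : Function.Injective (h.tp.flip w) :=
  (injective_iff_map_eq_zero _).2 fun u e => by_contra fun hu => h.tp_ne_zero hu hw e

theorem finrank_A {w : W} (hw : w ≠ 0) : Module.finrank F (h.A w) = Module.finrank F U :=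
  LinearMap.finrank_range_of_inj (h.tp_injective hw)

theorem tp_mem_A_iff {w v : W} {u : U} (hu : u ≠ 0) (hm : h.tp u v ∈ h.A w) : v ∈ Submodule.span F {w} := by
  refine h.gN.mem_span_of_perp fun x hx => ?_
  have := h.c_A hx hm
  rw [h.c_tp, smul_eq_zero] at this
  exact this.resolve_right hu

theorem mem_A_of_c {w : W} (hw : w ≠ 0) {T : V} (e : ∀ x, h.gW x w = 0 → h.c x T = 0) : T ∈ h.A w := by
  obtain ⟨x₀, hx₀⟩ := h.gN.exists_one hw
  refine ⟨h.c x₀ T, (sub_eq_zero.1 (h.eq_zero_of_c fun x => ?_)).symm⟩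
  have h1 := e (x - h.gW x w • x₀) (by
    rw [map_sub, map_smul, LinearMap.sub_apply, LinearMap.smul_apply, hx₀, smul_eq_mul, mul_one, sub_self])
  rw [map_sub, map_smul, LinearMap.sub_apply, LinearMap.smul_apply] at h1
  rw [map_sub, LinearMap.flip_apply, h.c_tp]
  exact h1

theorem mem_A_of_perp {w : W} (hw : w ≠ 0) {T : V}
    (e : ∀ u v, h.gW v w = 0 → polar Q (h.tp u v) T = 0) : T ∈ h.A w :=
  h.mem_A_of_c hw fun x hx => h.ext_f fun u => by rw [map_zero, h.pol_c, e u x hx]

/-- The vectors orthogonal to `A w` are spanned by the pure tensors orthogonal to it. -/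
theorem mem_span_perp {w : W} (hw : w ≠ 0) {T : V} (hT : h.c w T = 0) :
    T ∈ Submodule.span F {S | ∃ u v, h.gW v w = 0 ∧ h.tp u v = S} := by
  rw [← polarPerp_polarPerp h.qnd (Submodule.span F _)]
  refine mem_polarPerp.2 fun R hR => ?_
  have hA : R ∈ h.A w := h.mem_A_of_perp hw fun u v hv =>
    mem_polarPerp.1 hR _ (Submodule.subset_span ⟨u, v, hv, rfl⟩)
  obtain ⟨u, rfl⟩ := hA
  rw [LinearMap.flip_apply, h.polar_tp, hT, map_zero]

/-- A map killing the pure tensors orthogonal to `A w` kills that whole orthogonal. -/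
theorem map_eq_zero_of_tp {X : Type*} [AddCommGroup X] [Module F X]
    (φ : V →ₗ[F] X) {w : W} (hw : w ≠ 0) (e : ∀ u v, h.gW v w = 0 → φ (h.tp u v) = 0) {T : V}
    (hT : h.c w T = 0) : φ T = 0 :=
  (Submodule.span_le (p := LinearMap.ker φ)).2 (by rintro _ ⟨u, v, hv, rfl⟩; exact e u v hv)
    (h.mem_span_perp hw hT)

/-- The adjoint with respect to the first form. -/
noncomputable def adj (D : Module.End F U) : Module.End F U :=
  LinearMap.BilinForm.leftAdjointOfNondegenerate h.fU h.fN.nd D

theorem adj_spec (D : Module.End F U) (u x : U) : h.fU (h.adj D u) x = h.fU u (D x) :=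
  LinearMap.BilinForm.isAdjointPairLeftAdjointOfNondegenerate h.fU h.fN.nd D u x

theorem adj_spec' (D : Module.End F U) (u x : U) : h.fU u (h.adj D x) = h.fU (D u) x := by
  rw [h.f_sym, h.adj_spec, h.f_sym]

theorem adj_eq {D E : Module.End F U} (e : ∀ u x, h.fU (E u) x = h.fU u (D x)) : h.adj D = E :=
  LinearMap.ext fun u => h.ext_f fun x => by rw [h.f_sym, h.adj_spec, ← e, h.f_sym]

@[simp] theorem adj_adj (D : Module.End F U) : h.adj (h.adj D) = D := h.adj_eq fun u x => (h.adj_spec' D u x).symm

@[simp] theorem adj_one : h.adj 1 = 1 := h.adj_eq fun u x => rfl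

@[simp] theorem adj_zero : h.adj 0 = 0 := h.adj_eq fun u x => by simp

@[simp] theorem adj_add (D E : Module.End F U) : h.adj (D + E) = h.adj D + h.adj E :=
  h.adj_eq fun u x => by simp [adj_spec]

@[simp] theorem adj_sub (D E : Module.End F U) : h.adj (D - E) = h.adj D - h.adj E :=
  h.adj_eq fun u x => by simp [adj_spec]

@[simp] theorem adj_neg (D : Module.End F U) : h.adj (-D) = - h.adj D :=
  h.adj_eq fun u x => by simp [adj_spec]

@[simp] theorem adj_smul (s : F) (D : Module.End F U) : h.adj (s • D) = s • h.adj D :=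
  h.adj_eq fun u x => by simp [adj_spec]

@[simp] theorem adj_mul (D E : Module.End F U) : h.adj (D * E) = h.adj E * h.adj D :=
  h.adj_eq fun u x => by simp [Module.End.mul_apply, adj_spec]

/-- The basic endomorphisms. -/
noncomputable def P (a b : W) (D : Module.End F U) : Module.End F V := h.tp.flip a ∘ₗ D ∘ₗ h.c b

theorem P_apply (a b : W) (D : Module.End F U) (T : V) : h.P a b D T = h.tp (D (h.c b T)) a := rfl

theorem P_mul (a b a' b' : W) (D D' : Module.End F U) :
    h.P a b D * h.P a' b' D' = h.gW b a' • h.P a b' (D * D') := LinearMap.ext fun T => by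
  simp [P_apply, Module.End.mul_apply]

theorem P_neg (a b : W) (D : Module.End F U) : h.P a b (-D) = - h.P a b D :=
  LinearMap.ext fun T => by simp [P_apply]

theorem P_add (a b : W) (D D' : Module.End F U) : h.P a b (D + D') = h.P a b D + h.P a b D' :=
  LinearMap.ext fun T => by simp [P_apply]

theorem P_smul (a b : W) (s : F) (D : Module.End F U) : h.P a b (s • D) = s • h.P a b D :=
  LinearMap.ext fun T => by simp [P_apply]

/-- The long element of an isotropic pair. -/
noncomputable def lg (w v : W) (D : Module.End F U) : Module.End F V :=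
  h.P w v D - h.P v w (h.adj D)

/-- The short element of an isotropic vector and an orthogonal one. -/
noncomputable def sh (w a : W) (D : Module.End F U) : Module.End F V :=
  h.P w a D - h.P a w (h.adj D) - (h.gW a a / 2) • h.P w w (D * h.adj D)

theorem sh_apply (w a : W) (D : Module.End F U) (T : V) : h.sh w a D T =
    h.tp (D (h.c a T)) w - h.tp (h.adj D (h.c w T)) a - (h.gW a a / 2) • h.tp (D (h.adj D (h.c w T))) w := by
  simp [sh, P_apply, Module.End.mul_apply]

theorem sh_iso {w v : W} (hv : h.gW v v = 0) (D : Module.End F U) : h.sh w v D = h.lg w v D := by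
  simp [sh, lg, hv]

theorem sh_one_tp (w a : W) (u : U) (x : W) : h.sh w a 1 (h.tp u x) =
    h.tp u (h.gW a x • w - h.gW w x • a - (h.gW a a / 2 * h.gW w x) • w) := by
  simp [sh_apply, smul_smul]

theorem sh_zero (w : W) (D : Module.End F U) : h.sh w 0 D = 0 := LinearMap.ext fun T => by simp [sh_apply]

theorem sh_smul (w a : W) (s : F) (D : Module.End F U) : h.sh w (s • a) D = h.sh w a (s • D) :=
  LinearMap.ext fun T => by
    simp [sh_apply, smul_smul]
    module

theorem sh_mul {w : W} (hw : h.gW w w = 0) {a b : W} (ha : h.gW w a = 0) (hb : h.gW w b = 0)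
    (D : Module.End F U) : h.sh w a D * h.sh w b D = - (h.gW a b • h.P w w (D * h.adj D)) := by
  simp [sh, sub_mul, mul_sub, P_mul, hw, ha, hb, h.g_sym a w]

theorem sh_add {w : W} (hw : h.gW w w = 0) {a b : W} (ha : h.gW w a = 0) (hb : h.gW w b = 0)
    (D : Module.End F U) : h.sh w a D + h.sh w b D + h.sh w a D * h.sh w b D = h.sh w (a + b) D := by
  have h2 := h.h2
  rw [h.sh_mul hw ha hb]
  refine LinearMap.ext fun T => ?_
  simp only [sh_apply, LinearMap.add_apply, LinearMap.neg_apply, LinearMap.smul_apply, P_apply, map_add,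
    Module.End.mul_apply, h.g_sym b a]
  match_scalars <;> field_simp <;> ring

end TData

end CfsgLib.TensorOO
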