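import Cfsg.Agent.Lib.OrthMax.TensorOO.Core
import Mathlib.FieldTheory.Finite.Basic
import Mathlib.LinearAlgebra.Determinant

/-! Norms in non-degenerate subspaces of a symmetric form over a finite field. -/

set_option autoImplicit false
set_option linter.unusedSectionVars false
set_option linter.unusedVariables false
set_option linter.unusedSimpArgs false

namespace CfsgLib.TensorOO

open LinearMap (BilinForm)

variable {F X : Type*} [Field F] [AddCommGroup X] [Module F X] [FiniteDimensional F X]

/-- The form is non-degenerate on the subspace. -/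
def NdIn (B : BilinForm F X) (S : Submodule F X) : Prop := ∀ x ∈ S, (∀ y ∈ S, B x y = 0) → x = 0

namespace Nice

variable {B : BilinForm F X} (hB : Nice B)

include hB

theorem ndIn_top : NdIn B ⊤ := fun x _ hx => hB.nd.1 x fun y => hx y Submodule.mem_top

/-- A non-degenerate non-zero subspace has an anisotropic vector. -/
theorem exists_aniso_nd {S : Submodule F X} (hS : NdIn B S) (h0 : 1 ≤ Module.finrank F S) :
    ∃ x ∈ S, B x x ≠ 0 := by
  by_contra hno
  push Not at hno
  obtain ⟨x, hx, hx0⟩ := Submodule.exists_mem_ne_zero_of_ne_bot (p := S) fun e => by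
    rw [e, finrank_bot] at h0; omega
  refine hx0 (hS x hx fun y hy => ?_)
  have e := hno _ (S.add_mem hx hy)
  simp only [map_add, LinearMap.add_apply, hno x hx, hno y hy, zero_add, add_zero, hB.sym y x] at e
  exact (mul_eq_zero.1 (show (2 : F) * B x y = 0 by linear_combination e)).resolve_left hB.two

theorem ndIn_inter {S : Submodule F X} (hS : NdIn B S) {e : X} (heS : e ∈ S) (he : B e e ≠ 0) :
    NdIn B (S ⊓ LinearMap.ker (B e)) := by
  intro x hx hall
  refine hS x hx.1 fun y hy => ?_
  have hxe : B x e = 0 := by rw [hB.sym]; exact hx.2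
  have := hall (y - (B e y / B e e) • e) ⟨S.sub_mem hy (S.smul_mem _ heS), LinearMap.mem_ker.2 (by
    rw [map_sub, map_smul, smul_eq_mul, div_mul_cancel₀ _ he, sub_self])⟩
  rwa [map_sub, map_smul, hxe, smul_zero, sub_zero] at this

omit hB in
theorem finrank_inter {S : Submodule F X} {e : X} (heS : e ∈ S) (he : B e e ≠ 0) :
    Module.finrank F (S ⊓ LinearMap.ker (B e) : Submodule F X) + 1 = Module.finrank F S := by
  have h1 := finrank_ker_inf S (B e)
  have h2 : Module.finrank F (S ⊓ LinearMap.ker (B e) : Submodule F X) < Module.finrank F S :=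
    Submodule.finrank_lt_finrank_of_lt (lt_of_le_of_ne inf_le_left fun e' => he
      (LinearMap.mem_ker.1 (inf_eq_left.1 e' heS)))
  omega

end Nice

variable [Finite F]

/-- A binary form with non-zero coefficients takes all values. -/
theorem exists_binary (h2 : (2 : F) ≠ 0) {α β : F} (hα : α ≠ 0) (hβ : β ≠ 0) (a : F) :
    ∃ x y : F, α * (x * x) + β * (y * y) = a := by
  classical
  haveI := Fintype.ofFinite F
  have hc : Fintype.card F % 2 = 1 := FiniteField.odd_card_of_char_ne_two fun e => h2 (by
    haveI := ringChar.charP F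
    rw [show (2 : F) = ((2 : ℕ) : F) by norm_num, ← e]
    exact CharP.cast_eq_zero F (ringChar F))
  open Polynomial in
  obtain ⟨x, y, e⟩ := FiniteField.exists_root_sum_quadratic (f := C α * X ^ 2) (g := C β * X ^ 2 - C a)
    (degree_C_mul_X_pow 2 hα) (by
      rw [degree_sub_C (by rw [degree_C_mul_X_pow 2 hβ]; exact Nat.ofNat_pos), degree_C_mul_X_pow 2 hβ]
      rfl) hc
  simp only [Polynomial.eval_sub, Polynomial.eval_mul, Polynomial.eval_C, Polynomial.eval_pow,
    Polynomial.eval_X] at e
  exact ⟨x, y, by linear_combination e⟩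

namespace Nice

variable {B : BilinForm F X} (hB : Nice B)

include hB

/-- A non-degenerate subspace of dimension at least two takes every value. -/
theorem exists_norm {S : Submodule F X} (hS : NdIn B S) (h : 2 ≤ Module.finrank F S) (a : F) :
    ∃ x ∈ S, B x x = a := by
  obtain ⟨e, heS, he⟩ := hB.exists_aniso_nd hS (by omega)
  have := finrank_inter (B := B) heS he
  obtain ⟨f, hfS, hf⟩ := hB.exists_aniso_nd (hB.ndIn_inter hS heS he) (by omega)
  obtain ⟨x, y, hxy⟩ := exists_binary hB.two he hf a
  refine ⟨x • e + y • f, S.add_mem (S.smul_mem _ heS) (S.smul_mem _ hfS.1), ?_⟩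
  have hef : B e f = 0 := hfS.2
  simp only [map_add, map_smul, LinearMap.add_apply, LinearMap.smul_apply, smul_eq_mul, hef, hB.sym f e]
  linear_combination hxy

/-- A vector of a plane whose orthogonal in the plane avoids a given norm. -/
theorem exists_avoid {f₁ f₂ : X} (h₁ : B f₁ f₁ ≠ 0) (h₂ : B f₂ f₂ ≠ 0) (h₁₂ : B f₁ f₂ = 0) {t : F} (ht : t ≠ 0) :
    ∃ k ∈ Submodule.span F {f₁, f₂}, ∀ x ∈ Submodule.span F {f₁, f₂}, B k x = 0 → B x x ≠ t := by
  classical
  haveI := Fintype.ofFinite F
  obtain ⟨ν, hν⟩ := FiniteField.exists_nonsquare (F := F) fun e => hB.two (by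
    haveI := ringChar.charP F
    rw [show (2 : F) = ((2 : ℕ) : F) by norm_num, ← e]
    exact CharP.cast_eq_zero F (ringChar F))
  obtain ⟨a, b, hab⟩ := exists_binary hB.two h₁ h₂ (t * ν)
  have hν0 : ν ≠ 0 := fun e => hν (by rw [e]; exact IsSquare.zero)
  refine ⟨(-(B f₂ f₂ * b)) • f₁ + (B f₁ f₁ * a) • f₂, Submodule.mem_span_pair.2 ⟨_, _, rfl⟩, fun x hx hk hxx => ?_⟩
  obtain ⟨a', b', rfl⟩ := Submodule.mem_span_pair.1 hx
  simp only [map_add, map_smul, LinearMap.add_apply, LinearMap.smul_apply, smul_eq_mul, h₁₂, hB.sym f₂ f₁]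
    at hk hxx
  have hd : a * b' = b * a' := mul_left_cancel₀ (mul_ne_zero h₁ h₂) (by linear_combination hk)
  by_cases ha : a = 0
  · have hb : b ≠ 0 := fun e => mul_ne_zero ht hν0 (by rw [← hab, ha, e]; ring)
    rw [ha, zero_mul] at hd
    have ha' : a' = 0 := (mul_eq_zero.1 hd.symm).resolve_left hb
    have hb' : b' ≠ 0 := fun e => ht (by rw [← hxx, ha', e]; ring)
    refine hν ⟨b / b', mul_left_cancel₀ ht ?_⟩
    rw [← hab, ha, ← hxx, ha']
    field_simp
    ring
  · have hb' : b' = b * a' / a := by rw [← hd]; field_simp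
    have ha' : a' ≠ 0 := fun e => ht (by rw [← hxx, hb', e]; ring)
    refine hν ⟨a / a', mul_left_cancel₀ ht ?_⟩
    rw [← hab, ← hxx, hb']
    field_simp
    ring

end Nice

namespace TData

open LinearMap (BilinForm)

variable {V U W : Type*} [AddCommGroup V] [Module F V] [AddCommGroup U] [Module F U]
  [AddCommGroup W] [Module F W]
variable [FiniteDimensional F V] [FiniteDimensional F U] [FiniteDimensional F W]
variable {Q : QuadraticForm F V}

/-- In odd dimension the multiplier of a similitude is a square. -/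
theorem isSquare_mult (h : TData Q U W) (hodd : Odd (Module.finrank F U)) {T : Module.End F U} {c : F}
    (e : ∀ u u', h.fU (T u) (T u') = c * h.fU u u') : IsSquare c := by
  by_cases hc : c = 0
  · exact hc ▸ IsSquare.zero
  have hdual : T.dualMap = (h.fU.toDual h.fN.nd).conj (h.adj T) := LinearMap.ext fun φ => LinearMap.ext fun y => by
    obtain ⟨u, rfl⟩ := (h.fU.toDual h.fN.nd).surjective φ
    rw [LinearMap.dualMap_apply, LinearEquiv.conj_apply_apply, LinearEquiv.symm_apply_apply,
      LinearMap.BilinForm.toDual_def, LinearMap.BilinForm.toDual_def, h.adj_spec]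
  have hd := congrArg LinearMap.det hdual
  rw [LinearMap.det_dualMap, LinearEquiv.conj_apply, LinearMap.comp_assoc, LinearMap.det_conj] at hd
  have hprod : h.adj T * T = c • 1 := LinearMap.ext fun u => h.ext_f fun x => by
    rw [Module.End.mul_apply, h.adj_spec', e, LinearMap.smul_apply, Module.End.one_apply, map_smul, smul_eq_mul]
  have hdet := congrArg LinearMap.det hprod
  rw [map_mul, ← hd, LinearMap.det_smul, map_one, mul_one] at hdet
  obtain ⟨j, hj⟩ := hodd
  rw [hj, pow_succ, two_mul, pow_add] at hdet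
  exact ⟨LinearMap.det T / c ^ j, by field_simp; linear_combination -hdet⟩

end TData

end CfsgLib.TensorOO
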