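import Cfsg.Agent.Lib.OrthMax.TensorOO.Pure

/-! Elements of the second factor keeping a member. -/

set_option autoImplicit false
set_option linter.unusedSectionVars false
set_option linter.unusedVariables false
set_option linter.unusedSimpArgs false

namespace CfsgLib.TensorOO

open QuadraticMap CfsgLib.Geometry CfsgLib.OrthMax
open CfsgLib.TensorSp (In)
open LinearMap (BilinForm)

variable {F V U W : Type*} [Field F] [Finite F] [AddCommGroup V] [Module F V] [AddCommGroup U] [Module F U]
  [AddCommGroup W] [Module F W]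
variable [FiniteDimensional F V] [FiniteDimensional F U] [FiniteDimensional F W]
variable {Q : QuadraticForm F V} {M : Subgroup (V ≃ₗ[F] V)}

namespace TData

variable {h : TData Q U W} [Nontrivial U] [Nontrivial W]

theorem tp_eq_zero {u : U} {y : W} (e : h.tp u y = 0) : u = 0 ∨ y = 0 := by
  by_contra hne
  push Not at hne
  exact h.tp_ne_zero hne.1 hne.2 e

/-- The dimension of the space. -/
theorem finrank_V (h : TData Q U W) : Module.finrank F V = Module.finrank F W * Module.finrank F U := by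
  classical
  let b := Module.finBasis F W
  let Ξ : (Fin (Module.finrank F W) → U) →ₗ[F] V := ∑ i, h.tp.flip (b i) ∘ₗ LinearMap.proj i
  have hΞ : ∀ p, Ξ p = ∑ i, h.tp (p i) (b i) := fun p => by simp [Ξ]
  have hinj : Function.Injective Ξ := (injective_iff_map_eq_zero _).2 fun p hp => funext fun j => by
    have := congrArg (h.c (h.gW.dualBasis h.gN.nd b j)) hp
    rw [hΞ, map_sum, map_zero, Finset.sum_eq_single j] at this
    · simpa [LinearMap.BilinForm.apply_dualBasis_left] using this
    · intro i _ hij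
      simp [LinearMap.BilinForm.apply_dualBasis_left, hij]
    · simp
  have hsurj : Function.Surjective Ξ := by
    refine LinearMap.range_eq_top.1 (eq_top_iff.2 ?_)
    rw [← h.span, Submodule.span_le]
    rintro _ ⟨u, y, rfl⟩
    refine ⟨fun i => b.repr y i • u, ?_⟩
    rw [hΞ]
    conv_rhs => rw [← b.sum_repr y, map_sum]
    simp
  rw [← (LinearEquiv.ofBijective Ξ ⟨hinj, hsurj⟩).finrank_eq, Module.finrank_pi_fintype, Finset.sum_const,
    Finset.card_univ, Fintype.card_fin, smul_eq_mul]

/-- The similitude multiplier of a factor of an isometry. -/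
theorem exists_mult {k : V ≃ₗ[F] V} (hk : k ∈ orth Q) {lam : Module.End F U} {S : Module.End F W}
    (e : ∀ u y, k (h.tp u y) = h.tp (lam u) (S y)) : ∃ ν : F, ∀ u u', h.fU (lam u) (lam u') = ν * h.fU u u' := by
  obtain ⟨y, hy⟩ := h.gN.exists_aniso
  obtain ⟨x, hx⟩ := h.fN.exists_aniso
  have e0 : ∀ u u', h.fU (lam u) (lam u') * h.gW (S y) (S y) = h.fU u u' * h.gW y y := fun u u' => by
    rw [← h.pol, ← h.pol, ← e, ← e, orth_polar hk]
  have hne : h.gW (S y) (S y) ≠ 0 := fun e' => by
    have := e0 x x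
    rw [e', mul_zero] at this
    exact mul_ne_zero hx hy this.symm
  exact ⟨h.gW y y / h.gW (S y) (S y), fun u u' => by field_simp; linear_combination e0 u u'⟩

/-- A unipotent product of small rank acts on the second factor only. -/
theorem unipotent_scalar (h3 : 3 ≤ Module.finrank F U) (hn : Module.finrank F U < Module.finrank F W)
    {k : V ≃ₗ[F] V} (hk : k ∈ orth Q) (hP : h.Pure k) {X : Module.End F V} (hX : ∀ T, k T = T + X T)
    (hX3 : X * X * X = 0) (hr : Module.finrank F (LinearMap.range X) ≤ 2 * Module.finrank F U) :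
    ∃ τ : Module.End F W, ∀ u y, X (h.tp u y) = h.tp u (τ y) := by
  obtain ⟨lam, S, e⟩ := hP
  have h2 := h.h2
  obtain ⟨p, hp⟩ := CharP.exists F
  have hpp : p.Prime := CharP.char_is_prime F p
  haveI := Fact.mk hpp
  have hp3 : 3 ≤ p := by
    by_contra hlt
    obtain rfl : p = 2 := le_antisymm (by omega) hpp.two_le
    exact h2 (by exact_mod_cast CharP.cast_eq_zero F 2)
  haveI : Nontrivial V := Module.nontrivial_of_finrank_pos (R := F) (by
    rw [finrank_V h]; exact Nat.mul_pos Module.finrank_pos Module.finrank_pos)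
  haveI : CharP (Module.End F V) p := charP_of_injective_algebraMap (algebraMap F (Module.End F V)).injective p
  have hkp : (1 + X) ^ p = 1 := by
    rw [add_pow_char_of_commute p (Commute.one_left X), one_pow, pow_eq_zero_of_le hp3 (by
      rw [pow_succ, pow_two]; exact hX3), add_zero]
  have hpow : ∀ j : ℕ, ∀ u y, ((1 + X) ^ j) (h.tp u y) = h.tp ((lam ^ j) u) ((S ^ j) y) := by
    intro j
    induction j with
    | zero => simp
    | succ j ih =>
      intro u y
      rw [pow_succ', Module.End.mul_apply, ih, LinearMap.add_apply, Module.End.one_apply, ← hX, e, pow_succ',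
        pow_succ', Module.End.mul_apply, Module.End.mul_apply]
  obtain ⟨y₀, hy₀⟩ := exists_ne (0 : W)
  obtain ⟨x₀, hx₀⟩ := h.gN.exists_one hy₀
  have hd : ∀ u, h.gW x₀ ((S ^ p) y₀) • (lam ^ p) u = u := fun u => by
    have := congrArg (h.c x₀) (hpow p u y₀)
    rw [hkp, Module.End.one_apply, h.c_tp, h.c_tp, hx₀, one_smul] at this
    exact this.symm
  obtain ⟨u₁, hu₁⟩ := exists_ne (0 : U)
  have hd0 : h.gW x₀ ((S ^ p) y₀) ≠ 0 := fun e0 => hu₁ (by rw [← hd u₁, e0, zero_smul])
  obtain ⟨d, hdd⟩ : ∃ d : F, d ^ p = h.gW x₀ ((S ^ p) y₀) :=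
    Finite.injective_iff_surjective.1 (frobenius_inj F p) _
  have hd00 : d ≠ 0 := fun e0 => hd0 (by rw [← hdd, e0, zero_pow hpp.ne_zero])
  set μ := d • lam with hμ
  set η := μ - 1 with hη
  haveI : CharP (Module.End F U) p := charP_of_injective_algebraMap (algebraMap F (Module.End F U)).injective p
  have hηp : η ^ p = 0 := by
    rw [hη, sub_pow_char_of_commute p (Commute.one_right μ), one_pow, hμ, smul_pow, hdd, sub_eq_zero]
    exact LinearMap.ext hd
  have hS' : ∀ u y, k (h.tp u y) = h.tp (μ u) (d⁻¹ • S y) := fun u y => by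
    rw [e, hμ, LinearMap.smul_apply, map_smul, map_smul, LinearMap.smul_apply, smul_smul, inv_mul_cancel₀ hd00,
      one_smul]
  obtain ⟨ν, hν⟩ := exists_mult hk (lam := μ) (S := d⁻¹ • S) (fun u y => hS' u y)
  suffices hη0 : η = 0 by
    refine ⟨d⁻¹ • S - 1, fun u y => ?_⟩
    rw [hη, sub_eq_zero] at hη0
    have := hS' u y
    rw [hX, hη0, Module.End.one_apply] at this
    rw [eq_sub_of_add_eq' this, LinearMap.sub_apply, Module.End.one_apply, map_sub, LinearMap.smul_apply]
  obtain ⟨G, hG⟩ := Submodule.exists_isCompl (LinearMap.range η)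
  have hbd : Module.finrank F (LinearMap.ker X) ≤ Module.finrank F W * Module.finrank F G := by
    let Ψ : LinearMap.ker X →ₗ[F] W →ₗ[F] Module.Dual F G :=
      LinearMap.mk₂ F (fun T b => (h.fU.flip (h.c b (T : V))).comp G.subtype)
        (fun T T' b => by simp [LinearMap.add_comp]) (fun s T b => by simp [LinearMap.smul_comp])
        (fun T b b' => by simp [LinearMap.add_comp]) (fun s T b => by simp [LinearMap.smul_comp])
    have hinj : Function.Injective Ψ := (injective_iff_map_eq_zero _).2 fun T hT => Subtype.ext (h.eq_zero_of_c fun b => by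
      let Sv : Submodule F U :=
        { carrier := {x | ∀ b, h.fU x (h.c b (T : V)) = 0}
          zero_mem' := fun b => by simp
          add_mem' := fun {x y} hx hy b => by simp [hx b, hy b]
          smul_mem' := fun s x hx b => by simp [hx b] }
      have hGS : G ≤ Sv := fun x hx b => LinearMap.congr_fun (LinearMap.congr_fun hT b) ⟨x, hx⟩
      have hkT : k (T : V) = T := by rw [hX, LinearMap.mem_ker.1 T.2, add_zero]
      have hinv : ∀ x ∈ Sv, η x ∈ Sv := fun x hx => by
        rw [hη, LinearMap.sub_apply, Module.End.one_apply]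
        refine Sv.sub_mem (fun b => ?_) hx
        obtain ⟨b', rfl⟩ := (Pure.bij (h := h) (g := k) (lam := μ) (S := d⁻¹ • S) hS').2.2 b
        rw [h.pol_c]
        show polar Q (h.tp (μ x) (d⁻¹ • S b')) T = 0
        rw [← hS', ← hkT, orth_polar hk, ← h.pol_c]
        exact hx b'
      have hall : ∀ j : ℕ, ∀ x, ∃ s ∈ Sv, ∃ y, x = s + (η ^ j) y := by
        intro j
        induction j with
        | zero => exact fun x => ⟨0, Sv.zero_mem, x, by simp⟩
        | succ j ih =>
          intro x
          obtain ⟨s, hs, y, rfl⟩ := ih x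
          obtain ⟨r, ⟨y', rfl⟩, t, ht, rfl⟩ := Submodule.mem_sup.1 (hG.sup_eq_top ▸ Submodule.mem_top : y ∈ _)
          have htS : ∀ i : ℕ, (η ^ i) t ∈ Sv := fun i => by
            induction i with
            | zero => simpa using hGS ht
            | succ i ih' => rw [pow_succ', Module.End.mul_apply]; exact hinv _ ih'
          exact ⟨s + (η ^ j) t, Sv.add_mem hs (htS j), y', by
            rw [map_add, ← Module.End.mul_apply, ← pow_succ]; abel⟩
      refine h.ext_f fun x => ?_
      obtain ⟨s, hs, y, rfl⟩ := hall p x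
      rw [hηp, LinearMap.zero_apply, add_zero, hs b, map_zero])
    have := LinearMap.finrank_le_finrank_of_injective hinj
    rwa [Module.finrank_linearMap, Subspace.dual_finrank_eq] at this
  have hrn := X.finrank_range_add_finrank_ker
  rw [finrank_V h] at hrn
  have hGr := Submodule.finrank_add_eq_of_isCompl hG
  set r := Module.finrank F (LinearMap.range η) with hr'
  rcases (show r = 0 ∨ r = 1 ∨ 2 ≤ r by omega) with h0 | h1 | h2'
  · exact LinearMap.range_eq_bot.1 (Submodule.finrank_eq_zero.1 h0)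
  · exfalso
    obtain ⟨⟨v, hv⟩, hv0, hspan⟩ := finrank_eq_one_iff'.1 h1
    have hv0 : v ≠ 0 := fun e0 => hv0 (Subtype.ext e0)
    have hφ : ∀ u, ∃ s : F, η u = s • v := fun u => by
      obtain ⟨s, hs⟩ := hspan ⟨η u, LinearMap.mem_range_self η u⟩
      exact ⟨s, (congrArg Subtype.val hs).symm⟩
    have hηv : η v = 0 := by
      obtain ⟨s, hs⟩ := hφ v
      have hit : ∀ j : ℕ, (η ^ j) v = s ^ j • v := fun j => by
        induction j with
        | zero => simp
        | succ j ih => rw [pow_succ', Module.End.mul_apply, ih, map_smul, hs, smul_smul, pow_succ]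
      have := hit p
      rw [hηp, LinearMap.zero_apply] at this
      rw [hs, eq_zero_of_pow_eq_zero ((smul_eq_zero.1 this.symm).resolve_right hv0), zero_smul]
    have hkd := η.finrank_range_add_finrank_ker
    obtain ⟨x, hx, hxx⟩ := h.fN.exists_aniso_in (LinearMap.ker η) (by omega)
    rw [LinearMap.mem_ker] at hx
    have hν1 : ν = 1 := by
      have := hν x x
      rw [show μ x = x from sub_eq_zero.1 (by rw [← hx, hη]; rfl)] at this
      exact (mul_eq_right₀ hxx).1 this.symm
    have hskew : ∀ u u', h.fU (η u) u' + h.fU u (η u') + h.fU (η u) (η u') = 0 := fun u u' => by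
      have := hν u u'
      rw [hν1, one_mul, show μ u = u + η u by rw [hη]; simp, show μ u' = u' + η u' by rw [hη]; simp] at this
      simp only [map_add, LinearMap.add_apply] at this
      linear_combination this
    obtain ⟨u₀, hu₀⟩ : ∃ u₀, η u₀ ≠ 0 := by
      by_contra hcon
      push Not at hcon
      rw [hr', show η = 0 from LinearMap.ext hcon, LinearMap.range_zero, finrank_bot] at h1
      omega
    obtain ⟨s₀, hs₀⟩ := hφ u₀
    have hs₀0 : s₀ ≠ 0 := fun e0 => hu₀ (by rw [hs₀, e0, zero_smul])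
    have hvv : h.fU v v = 0 := by
      have := hskew u₀ v
      simp only [hηv, map_zero, add_zero, hs₀, map_smul, LinearMap.smul_apply, smul_eq_mul] at this
      exact (mul_eq_zero.1 this).resolve_left hs₀0
    refine hv0 (h.fN.nd.1 v fun u => ?_)
    obtain ⟨s, hs⟩ := hφ u
    have e1 := hskew u₀ u₀
    have e2 := hskew u₀ u
    simp only [hs, hs₀, map_smul, LinearMap.smul_apply, smul_eq_mul, hvv, mul_zero, add_zero, h.f_sym u₀ v] at e1 e2
    have e3 : h.fU v u₀ = 0 := (mul_eq_zero.1 ((mul_eq_zero.1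
      (show (2 : F) * (s₀ * h.fU v u₀) = 0 by linear_combination e1)).resolve_left h2)).resolve_left hs₀0
    rw [e3, mul_zero, add_zero] at e2
    exact (mul_eq_zero.1 e2).resolve_left hs₀0
  · exfalso
    have : Module.finrank F W * r ≤ 2 * Module.finrank F U := by nlinarith
    nlinarith

variable (hG : h.Gens M) (h5 : 5 ≤ Module.finrank F W) (hS : h.Scal M) (h3 : 3 ≤ Module.finrank F U)
  (hn : Module.finrank F U < Module.finrank F W)

include hG h5 hS h3 hn

/-- A short element with anisotropic parameter keeping a member makes it pure. -/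
theorem pure_of_short_aniso {g : V ≃ₗ[F] V} (hg : g ∈ M) {w₀ : W} (hw₀0 : w₀ ≠ 0) (hw₀ : h.gW w₀ w₀ = 0) {q a : W}
    (hq0 : q ≠ 0) (hq : h.gW q q = 0) (hqa : h.gW q a = 0) (haa : h.gW a a ≠ 0)
    (hst : ∀ u, h.sh q a 1 (g (h.tp u w₀)) ∈ (h.A w₀).map g.toLinearMap) : h.Pure g := by
  obtain ⟨k, hk, ek⟩ := in_sh hG hq hqa
  let X : Module.End F V := g.symm.toLinearMap ∘ₗ h.sh q a 1 ∘ₗ g.toLinearMap
  have hmem : g⁻¹ * k * g ∈ M := mul_mem (mul_mem (inv_mem hg) hk) hg
  have hke : ∀ T, (g⁻¹ * k * g) T = T + X T := fun T => by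
    show g.symm (k (g T)) = _
    rw [ek, map_add, g.symm_apply_apply]
    rfl
  have hP : h.Pure (g⁻¹ * k * g) := pure_of_member hG h5 hS hmem hw₀0 hw₀ hw₀0 hw₀ fun u => by
    rw [hke]
    refine Submodule.add_mem _ (h.tp_mem_A u w₀) ?_
    obtain ⟨p, hp, hpe⟩ := hst u
    simp only [X, LinearMap.comp_apply, LinearEquiv.coe_coe]
    rw [← hpe, LinearEquiv.coe_coe, g.symm_apply_apply]
    exact hp
  have hsh2 : h.sh q a 1 * h.sh q a 1 = -(h.gW a a • h.P q q 1) := by
    rw [h.sh_mul hq hqa hqa, adj_one, one_mul]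
  have hsq : ∀ T, X (X T) = g.symm (-(h.gW a a • h.tp (h.c q (g T)) q)) := fun T => by
    simp only [X, LinearMap.comp_apply, LinearEquiv.coe_coe, g.apply_symm_apply]
    rw [← Module.End.mul_apply, hsh2]
    simp [P_apply]
  have hX3 : X * X * X = 0 := LinearMap.ext fun T => by
    rw [Module.End.mul_apply, Module.End.mul_apply, hsq]
    simp [X, sh_apply, hq, hqa]
  have hr : Module.finrank F (LinearMap.range X) ≤ 2 * Module.finrank F U := by
    have hle : LinearMap.range X ≤ (h.A q ⊔ h.A a).map g.symm.toLinearMap := by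
      rintro _ ⟨T, rfl⟩
      refine Submodule.mem_map_of_mem ?_
      rw [LinearMap.comp_apply, sh_apply]
      exact Submodule.sub_mem _ (Submodule.sub_mem _ (Submodule.mem_sup_left (h.tp_mem_A _ q))
        (Submodule.mem_sup_right (h.tp_mem_A _ a))) (Submodule.smul_mem _ _ (Submodule.mem_sup_left (h.tp_mem_A _ q)))
    have h1 := Submodule.finrank_mono hle
    rw [LinearEquiv.finrank_map_eq] at h1
    have h2 := Submodule.finrank_sup_add_finrank_inf_eq (h.A q) (h.A a)
    rw [h.finrank_A hq0, h.finrank_A (fun e => haa (by rw [e, map_zero]))] at h2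
    omega
  obtain ⟨τ, hτ⟩ := unipotent_scalar h3 hn (hG.le hmem) hP hke hX3 hr
  obtain ⟨x, hx⟩ := h.fN.exists_aniso
  obtain ⟨y, hy⟩ : ∃ y, τ (τ y) ≠ 0 := by
    by_contra hcon
    push Not at hcon
    obtain ⟨q', hq', hqq'⟩ := h.gN.exists_partner hq0 hq
    have hxx : X * X = 0 := h.ext_tp fun u y => by
      rw [Module.End.mul_apply, hτ, hτ, hcon, map_zero, LinearMap.zero_apply]
    have := (hsq (g.symm (h.tp x q'))).symm.trans (LinearMap.congr_fun hxx _)
    rw [g.apply_symm_apply, LinearMap.zero_apply, h.c_tp, hqq', one_smul, LinearEquiv.map_eq_zero_iff, neg_eq_zero,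
      smul_eq_zero] at this
    exact h.tp_ne_zero (fun e => hx (by rw [e, map_zero])) hq0 (this.resolve_left haa)
  set z := τ (τ y) with hz
  have hzA : ∀ u, g (h.tp u z) ∈ h.A q := fun u => by
    rw [hz, ← hτ, ← hτ, hsq, g.apply_symm_apply]
    exact Submodule.neg_mem _ (Submodule.smul_mem _ _ (h.tp_mem_A _ q))
  have hzz : h.gW z z = 0 := by
    obtain ⟨p, hp⟩ := hzA x
    rw [LinearMap.flip_apply] at hp
    have := orth_polar (hG.le hg) (h.tp x z) (h.tp x z)
    rw [← hp, h.pol, h.pol, hq, mul_zero] at this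
    exact (mul_eq_zero.1 this.symm).resolve_left hx
  exact pure_of_member hG h5 hS hg hy hzz hq0 hq hzA

/-- A short element keeping a member makes it pure. -/
theorem pure_of_short {g : V ≃ₗ[F] V} (hg : g ∈ M) {w₀ : W} (hw₀0 : w₀ ≠ 0) (hw₀ : h.gW w₀ w₀ = 0) {q a : W}
    (hq0 : q ≠ 0) (hq : h.gW q q = 0) (hqa : h.gW q a = 0) (han : a ∉ Submodule.span F {q})
    (hst : ∀ u, h.sh q a 1 (g (h.tp u w₀)) ∈ (h.A w₀).map g.toLinearMap) : h.Pure g := by
  by_cases haa : h.gW a a ≠ 0
  · exact pure_of_short_aniso hG h5 hS h3 hn hg hw₀0 hw₀ hq0 hq hqa haa hst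
  push Not at haa
  obtain ⟨k, hk, ek⟩ := in_sh hG hq hqa
  let X : Module.End F V := g.symm.toLinearMap ∘ₗ h.sh q a 1 ∘ₗ g.toLinearMap
  have hmem : g⁻¹ * k * g ∈ M := mul_mem (mul_mem (inv_mem hg) hk) hg
  have hke : ∀ T, (g⁻¹ * k * g) T = T + X T := fun T => by
    show g.symm (k (g T)) = _
    rw [ek, map_add, g.symm_apply_apply]
    rfl
  have hP : h.Pure (g⁻¹ * k * g) := pure_of_member hG h5 hS hmem hw₀0 hw₀ hw₀0 hw₀ fun u => by
    rw [hke]
    refine Submodule.add_mem _ (h.tp_mem_A u w₀) ?_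
    obtain ⟨p, hp, hpe⟩ := hst u
    simp only [X, LinearMap.comp_apply, LinearEquiv.coe_coe]
    rw [← hpe, LinearEquiv.coe_coe, g.symm_apply_apply]
    exact hp
  have hsh2 : h.sh q a 1 * h.sh q a 1 = 0 := by rw [h.sh_mul hq hqa hqa, haa, zero_smul, neg_zero]
  have hX3 : X * X * X = 0 := LinearMap.ext fun T => by
    simp only [X, Module.End.mul_apply, LinearMap.comp_apply, LinearEquiv.coe_coe, g.apply_symm_apply,
      LinearMap.zero_apply]
    rw [← Module.End.mul_apply (h.sh q a 1), hsh2, LinearMap.zero_apply, map_zero]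
  have hr : Module.finrank F (LinearMap.range X) ≤ 2 * Module.finrank F U := by
    have hle : LinearMap.range X ≤ (h.A q ⊔ h.A a).map g.symm.toLinearMap := by
      rintro _ ⟨T, rfl⟩
      refine Submodule.mem_map_of_mem ?_
      rw [LinearMap.comp_apply, sh_apply]
      exact Submodule.sub_mem _ (Submodule.sub_mem _ (Submodule.mem_sup_left (h.tp_mem_A _ q))
        (Submodule.mem_sup_right (h.tp_mem_A _ a))) (Submodule.smul_mem _ _ (Submodule.mem_sup_left (h.tp_mem_A _ q)))
    have h1 := Submodule.finrank_mono hle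
    rw [LinearEquiv.finrank_map_eq] at h1
    have h2 := Submodule.finrank_sup_add_finrank_inf_eq (h.A q) (h.A a)
    rw [h.finrank_A hq0, h.finrank_A (fun e => han (by rw [e]; exact zero_mem _))] at h2
    omega
  obtain ⟨τ, hτ⟩ := unipotent_scalar h3 hn (hG.le hmem) hP hke hX3 hr
  obtain ⟨u₀, hu₀⟩ := exists_ne (0 : U)
  obtain ⟨y, hy⟩ : ∃ y, τ y ≠ 0 := by
    by_contra hcon
    push Not at hcon
    have hx0 : X = 0 := h.ext_tp fun u y => by rw [hτ, hcon, map_zero, LinearMap.zero_apply]
    obtain ⟨b, hbq, hba⟩ := h.gN.exists_perp_one han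
    have := congrArg g (LinearMap.congr_fun hx0 (g.symm (h.tp u₀ b)))
    simp only [X, LinearMap.comp_apply, LinearEquiv.coe_coe, g.apply_symm_apply, LinearMap.zero_apply, map_zero] at this
    rw [sh_one_tp, h.g_sym a b, hba, h.g_sym q b, hbq, zero_smul, mul_zero, zero_smul, sub_zero, sub_zero,
      one_smul] at this
    exact h.tp_ne_zero hu₀ hq0 this
  have hker : ∀ x, h.gW q x = 0 → h.gW a x = 0 → ∀ u, h.sh q x 1 (g (h.tp u (τ y))) = 0 := fun x hqx hax u => by
    rw [← hτ, sh_apply]
    simp [X, sh_apply, hq, hqa, haa, h.g_sym x q, h.g_sym x a, hqx, hax]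
  have hzz : h.gW (τ y) (τ y) = 0 := by
    obtain ⟨x, hx⟩ := h.fN.exists_aniso
    have e : g (h.tp x (τ y)) = h.tp (h.c a (g (h.tp x y))) q - h.tp (h.c q (g (h.tp x y))) a := by
      rw [← hτ]
      simp [X, sh_apply, haa]
    have := orth_polar (hG.le hg) (h.tp x (τ y)) (h.tp x (τ y))
    rw [e, polar_sub_left, polar_sub_right, polar_sub_right, h.pol, h.pol, h.pol, h.pol, h.pol, hq, hqa, h.g_sym a q,
      hqa, haa] at this
    simp only [mul_zero, sub_zero] at this
    exact (mul_eq_zero.1 this.symm).resolve_left hx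
  obtain ⟨x, hqx, hax, hxx⟩ := h.gN.exists_aniso_perp_two h5 q a
  exact pure_of_short_aniso hG h5 hS h3 hn hg hy hzz hq0 hq hqx hxx fun u => by
    rw [hker x hqx hax u]; exact zero_mem _

/-- An involution of the second factor keeping a member gives a pure anisotropic line. -/
theorem pure_line_of_refl (hodd : Odd (Module.finrank F U)) {g : V ≃ₗ[F] V} (hg : g ∈ M) {w₀ : W} (hw₀0 : w₀ ≠ 0)
    (hw₀ : h.gW w₀ w₀ = 0) {e : W} (hee : h.gW e e ≠ 0) {k : V ≃ₗ[F] V} (hk : k ∈ M)
    (ek : ∀ u y, k (h.tp u y) = h.tp u ((2 * h.gW e y / h.gW e e) • e - y))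
    (hst : ∀ u, k (g (h.tp u w₀)) ∈ (h.A w₀).map g.toLinearMap) :
    h.Pure g ∨ ∃ e', h.gW e' e' ≠ 0 ∧ h.gW e' w₀ = 0 ∧ ∀ u, g (h.tp u e') ∈ h.A e := by
  refine or_iff_not_imp_left.2 fun hnp => ?_
  have h2 := h.h2
  have he0 : e ≠ 0 := fun e0 => hee (by rw [e0, map_zero])
  set j := g⁻¹ * k * g with hj
  have hmem : j ∈ M := mul_mem (mul_mem (inv_mem hg) hk) hg
  have hje : ∀ T, j T = g.symm (k (g T)) := fun T => rfl
  obtain ⟨lam, S, eP⟩ := pure_of_member hG h5 hS hmem hw₀0 hw₀ hw₀0 hw₀ fun u => by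
    obtain ⟨p, hp, hpe⟩ := hst u
    rw [hje, ← hpe, LinearEquiv.coe_coe, g.symm_apply_apply]
    exact hp
  have hkA : ∀ T, k T + T ∈ h.A e := fun T => by
    have hl : Submodule.span F {S | ∃ u y, h.tp u y = S} ≤ (h.A e).comap (k.toLinearMap + 1) := by
      rw [Submodule.span_le]
      rintro _ ⟨u, y, rfl⟩
      show k (h.tp u y) + h.tp u y ∈ h.A e
      rw [ek, map_sub, sub_add_cancel, map_smul]
      exact Submodule.smul_mem _ _ (h.tp_mem_A u e)
    exact (h.span ▸ hl) (Submodule.mem_top (x := T))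
  have hkk : ∀ T, k (k T) = T := fun T => by
    refine LinearMap.congr_fun (h.ext_tp (φ := k.toLinearMap ∘ₗ k.toLinearMap) (ψ := LinearMap.id) fun u y => ?_) T
    simp only [LinearMap.comp_apply, LinearEquiv.coe_coe, ek, LinearMap.id_apply, map_sub, map_smul, smul_eq_mul]
    match_scalars <;> field_simp <;> ring
  obtain ⟨y₀, hy₀⟩ := exists_ne (0 : W)
  obtain ⟨x₀, hx₀⟩ := h.gN.exists_one hy₀
  set d := h.gW x₀ (S (S y₀)) with hd
  have hd2 : d • (lam * lam) = 1 := LinearMap.ext fun u => by
    have := congrArg (h.c x₀) (show j (j (h.tp u y₀)) = h.tp u y₀ by rw [hje, hje, g.apply_symm_apply, hkk, g.symm_apply_apply])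
    rw [eP, eP, h.c_tp, h.c_tp, hx₀, one_smul] at this
    simpa [Module.End.mul_apply, hd] using this
  have hdet : d ^ Module.finrank F U * (LinearMap.det lam * LinearMap.det lam) = 1 := by
    have := congrArg LinearMap.det hd2
    rwa [LinearMap.det_smul, map_mul, map_one] at this
  obtain ⟨t, ht⟩ := hodd
  have hd0 : d ≠ 0 := fun e0 => by rw [e0, ht, zero_pow (by omega), zero_mul] at hdet; exact zero_ne_one hdet
  obtain ⟨c, hc⟩ : ∃ c : F, c * c = d := by
    refine ⟨(LinearMap.det lam * d ^ t)⁻¹, ?_⟩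
    rw [← mul_inv]
    refine inv_eq_of_mul_eq_one_left ?_
    rw [ht, pow_succ, two_mul, pow_add] at hdet
    linear_combination hdet
  have hc0 : c ≠ 0 := fun e0 => hd0 (by rw [← hc, e0, mul_zero])
  set μ := c • lam with hμ
  have hμ2 : ∀ u, μ (μ u) = u := fun u => by
    have := LinearMap.congr_fun hd2 u
    simp only [LinearMap.smul_apply, Module.End.mul_apply, Module.End.one_apply] at this
    rw [hμ, LinearMap.smul_apply, LinearMap.smul_apply, map_smul, smul_smul, hc, this]
  have eμ : ∀ u y, j (h.tp u y) = h.tp (μ u) (c⁻¹ • S y) := fun u y => by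
    rw [eP, hμ, LinearMap.smul_apply, map_smul, map_smul, LinearMap.smul_apply, smul_smul, inv_mul_cancel₀ hc0,
      one_smul]
  have hrange : ∀ T, j T + T ∈ (h.A e).map g.symm.toLinearMap := fun T => ⟨k (g T) + g T, hkA _, by simp [hje]⟩
  -- the first factor is a scalar
  have hμs : ∃ s : F, ∀ u, μ u = s • u := by
    by_contra hns
    push Not at hns
    obtain ⟨up, hup, hup0⟩ : ∃ u, μ u = u ∧ u ≠ 0 := by
      by_contra hcon
      push Not at hcon
      obtain ⟨u, hu⟩ := hns (-1)
      have := hcon (μ u + u) (by rw [map_add, hμ2, add_comm])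
      exact hu (by rw [neg_one_smul]; exact eq_neg_of_add_eq_zero_left this)
    obtain ⟨um, hum, hum0⟩ : ∃ u, μ u = -u ∧ u ≠ 0 := by
      by_contra hcon
      push Not at hcon
      obtain ⟨u, hu⟩ := hns 1
      have := hcon (μ u - u) (by rw [map_sub, hμ2, neg_sub])
      exact hu (by rw [one_smul]; exact sub_eq_zero.1 this)
    let Φ : W →ₗ[F] V := (j.toLinearMap + 1) ∘ₗ h.tp (up + um)
    have hindep : up ∉ Submodule.span F {um} := fun hm => by
      obtain ⟨s, hs⟩ := Submodule.mem_span_singleton.1 hm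
      have := congrArg μ hs
      rw [map_smul, hum, hup, smul_neg, hs] at this
      refine hup0 ((smul_eq_zero.1 (show (2 : F) • up = 0 from ?_)).resolve_left h2)
      rw [two_smul]
      nth_rewrite 1 [← this]
      exact neg_add_cancel up
    have hΦi : Function.Injective Φ := (injective_iff_map_eq_zero _).2 fun y hy => by
      simp only [Φ, LinearMap.comp_apply, LinearMap.add_apply, LinearEquiv.coe_coe, Module.End.one_apply, eμ,
        map_add, hup, hum, LinearMap.add_apply, map_neg, LinearMap.neg_apply] at hy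
      have hy' : ∀ b, (h.gW b (c⁻¹ • S y) + h.gW b y) • up + (-(h.gW b (c⁻¹ • S y)) + h.gW b y) • um = 0 :=
        fun b => by
          have := congrArg (h.c b) hy
          simp only [map_add, map_neg, h.c_tp, map_zero] at this
          linear_combination (norm := module) this
      have hz : ∀ b, h.gW b (c⁻¹ • S y) + h.gW b y = 0 ∧ -(h.gW b (c⁻¹ • S y)) + h.gW b y = 0 := fun b => by
        have := hy' b
        by_cases h1 : h.gW b (c⁻¹ • S y) + h.gW b y = 0
        · rw [h1, zero_smul, zero_add] at this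
          exact ⟨h1, (smul_eq_zero.1 this).resolve_right hum0⟩
        · refine absurd (Submodule.mem_span_singleton.2 ⟨-((h.gW b (c⁻¹ • S y) + h.gW b y)⁻¹ *
            (-(h.gW b (c⁻¹ • S y)) + h.gW b y)), ?_⟩) hindep
          rw [neg_smul, mul_smul, eq_neg_of_add_eq_zero_right this, smul_neg, neg_neg, smul_smul, inv_mul_cancel₀ h1,
            one_smul]
      refine h.gN.nd.2 y fun b => ?_
      obtain ⟨e1, e2⟩ := hz b
      exact (mul_eq_zero.1 (show (2 : F) * h.gW b y = 0 by linear_combination e1 + e2)).resolve_left h2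
    have hle : LinearMap.range Φ ≤ (h.A e).map g.symm.toLinearMap := by
      rintro _ ⟨y, rfl⟩; exact hrange _
    have h1 := Submodule.finrank_mono hle
    rw [LinearMap.finrank_range_of_inj hΦi, LinearEquiv.finrank_map_eq, h.finrank_A he0] at h1
    omega
  obtain ⟨s, hs⟩ := hμs
  set τ : Module.End F W := (s * c⁻¹) • S + 1 with hτdef
  have hτ : ∀ u y, j (h.tp u y) + h.tp u y = h.tp u (τ y) := fun u y => by
    rw [eμ, hs, hτdef]
    simp [smul_smul, mul_comm]
  obtain ⟨x, hx⟩ := h.fN.exists_aniso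
  obtain ⟨y, hy⟩ : ∃ y, τ y ≠ 0 := by
    by_contra hcon
    push Not at hcon
    have hneg : ∀ T, j T + T = 0 := LinearMap.congr_fun (h.ext_tp (φ := j.toLinearMap + 1) (ψ := 0) fun u y => by
      rw [LinearMap.add_apply, LinearEquiv.coe_coe, Module.End.one_apply, hτ, hcon, map_zero, LinearMap.zero_apply])
    have := congrArg g (hneg (g.symm (h.tp x e)))
    rw [hje, map_add, map_zero, g.apply_symm_apply, g.apply_symm_apply, ek, map_sub, map_smul, sub_add_cancel,
      smul_eq_zero] at this
    rcases this with h' | h'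
    · exact mul_ne_zero h2 hee ((div_eq_zero_iff.1 h').resolve_right hee)
    · exact h.tp_ne_zero (fun e0 => hx (by rw [e0, map_zero])) he0 h'
  have he' : ∀ u, g (h.tp u (τ y)) ∈ h.A e := fun u => by
    obtain ⟨p, hp, hpe⟩ := hrange (h.tp u y)
    rw [← hτ, ← hpe, LinearEquiv.coe_coe, g.apply_symm_apply]
    exact hp
  refine ⟨τ y, fun hzz => hnp ?_, ?_, he'⟩
  · -- an isotropic image would be orthogonal to itself
    exfalso
    have hall : ∀ u, g (h.tp u (τ y)) = 0 := fun u => by
      obtain ⟨p, hp⟩ := he' u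
      rw [LinearMap.flip_apply] at hp
      rw [← hp]
      have hp0 : p = 0 := h.fN.nd.1 p fun v => by
        obtain ⟨T, hT⟩ := g.surjective (h.tp v e)
        let L : U →ₗ[F] V := g.toLinearMap ∘ₗ h.tp.flip (τ y)
        have hLe : LinearMap.range L = h.A e := Submodule.eq_of_le_of_finrank_le
          (by rintro _ ⟨u', rfl⟩; exact he' u') (by
            rw [h.finrank_A he0, LinearMap.finrank_range_of_inj (show Function.Injective L from fun a b hab => h.tp_injective hy (g.injective hab))])
        obtain ⟨u', hu'⟩ := (hLe ▸ h.tp_mem_A v e : h.tp v e ∈ LinearMap.range L)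
        have := orth_polar (hG.le hg) (h.tp u (τ y)) (h.tp u' (τ y))
        rw [← hp, show g (h.tp u' (τ y)) = h.tp v e from hu', h.pol, h.pol, hzz, mul_zero] at this
        exact (mul_eq_zero.1 this).resolve_right hee
      rw [hp0, map_zero, LinearMap.zero_apply]
    obtain ⟨u, hu⟩ := exists_ne (0 : U)
    exact h.tp_ne_zero hu hy (g.injective (by rw [hall, map_zero]))
  · by_contra hne
    -- otherwise the vector has a component along the isotropic one
    obtain ⟨p, hp, hpe⟩ := hst x
    obtain ⟨r, hr⟩ := hp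
    rw [LinearMap.flip_apply] at hr
    have hjw : j (h.tp x w₀) = h.tp r w₀ := by rw [hje, ← hpe, LinearEquiv.coe_coe, g.symm_apply_apply, hr]
    have hτw : h.tp x (τ w₀) ∈ h.A w₀ := by
      rw [← hτ, hjw]; exact Submodule.add_mem _ (h.tp_mem_A _ _) (h.tp_mem_A _ _)
    obtain ⟨l, hl⟩ := Submodule.mem_span_singleton.1 (h.tp_mem_A_iff (fun e0 => hx (by rw [e0, map_zero])) hτw)
    have hsym : ∀ a b, h.gW (τ a) b = h.gW a (τ b) := fun a b => by
      refine mul_left_cancel₀ hx ?_
      rw [← h.pol, ← h.pol, ← hτ, ← hτ, polar_add_left, polar_add_right]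
      have hjj : ∀ T, j (j T) = T := fun T => by rw [hje, hje, g.apply_symm_apply, hkk, g.symm_apply_apply]
      have := orth_polar (hG.le hmem) (j (h.tp x a)) (h.tp x b)
      rw [hjj] at this
      rw [← this]
    by_cases hl0 : l = 0
    · rw [hl0, zero_smul] at hl
      rw [hsym, ← hl, map_zero] at hne
      exact hne rfl
    · have hwA : ∀ u, g (h.tp u w₀) ∈ h.A e := fun u => by
        obtain ⟨p', hp', hpe'⟩ := hrange (h.tp u w₀)
        rw [hτ, ← hl, map_smul] at hpe'
        have := congrArg g hpe'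
        rw [LinearEquiv.coe_coe, g.apply_symm_apply, map_smul] at this
        rw [this] at hp'
        exact (Submodule.smul_mem_iff _ hl0).1 hp'
      obtain ⟨p', hp'⟩ := hwA x
      rw [LinearMap.flip_apply] at hp'
      let L : U →ₗ[F] V := g.toLinearMap ∘ₗ h.tp.flip w₀
      have hLe : LinearMap.range L = h.A e := Submodule.eq_of_le_of_finrank_le
        (by rintro _ ⟨u', rfl⟩; exact hwA u') (by
          rw [h.finrank_A he0, LinearMap.finrank_range_of_inj (show Function.Injective L from fun a b hab => h.tp_injective hw₀0 (g.injective hab))])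
      obtain ⟨u', hu'⟩ := (hLe ▸ h.tp_mem_A x e : h.tp x e ∈ LinearMap.range L)
      have := orth_polar (hG.le hg) (h.tp u' w₀) (h.tp u' w₀)
      rw [show g (h.tp u' w₀) = h.tp x e from hu', h.pol, h.pol, hw₀, mul_zero] at this
      exact mul_ne_zero hx hee this

end TData

end CfsgLib.TensorOO
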