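import Cfsg.Agent.Lib.OrthMax.TensorOO.Algebra

/-! All rank one root endomorphisms give the whole Siegel group. -/

set_option autoImplicit false
set_option linter.unusedSectionVars false
set_option linter.unusedVariables false
set_option linter.unusedSimpArgs false

namespace CfsgLib.TensorOO

open QuadraticMap CfsgLib.Geometry CfsgLib.OrthMax
open CfsgLib.TensorSp (In)
open LinearMap (BilinForm)

variable {F V U W : Type*} [Field F] [Finite F] [AddCommGroup V] [Module F V] [AddCommGroup U] [Module F U]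
  [AddCommGroup W] [Module F W]
variable [FiniteDimensional F V] [FiniteDimensional F U] [FiniteDimensional F W]
variable {Q : QuadraticForm F V} {M : Subgroup (V ≃ₗ[F] V)}

namespace TData

variable {h : TData Q U W} [Nontrivial U] [Nontrivial W] (hG : h.Gens M) (h5 : 5 ≤ Module.finrank F W)

include hG h5

/-- Root elements at pure tensors. -/
theorem siegIn_tp (hall : ∀ x r, h.InD M (h.rk x r)) {w v : W} (hw0 : w ≠ 0) (hw : h.gW w w = 0)
    (hwv : h.gW w v = 0) (hv : h.gW v v = 0) (z z' : U) : SiegIn Q M (h.tp z w) (h.tp z' v) := by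
  intro he hx
  obtain ⟨g, hg, eg⟩ := (hall (-z) z').pair hG h5 hw0 hw hwv hv
  convert hg using 1
  refine LinearEquiv.ext fun T => ?_
  rw [eg, siegel_apply, h.Q_tp_zero z' hv, h.polar_tp', h.polar_tp']
  simp only [lg, LinearMap.sub_apply, P_apply, adj_rk, rk_apply, map_smul, map_neg, LinearMap.smul_apply,
    LinearMap.neg_apply]
  module

theorem full_tp (hall : ∀ x r, h.InD M (h.rk x r)) {z : U} {w : W} (hw0 : w ≠ 0) (hw : h.gW w w = 0) :
    Full Q M (h.tp z w) := by
  have he := h.Q_tp_zero z hw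
  set R := rootSpace Q M he
  obtain ⟨w₂, hw₂, hww₂⟩ := h.gN.exists_partner hw0 hw
  have hw₂0 : w₂ ≠ 0 := fun e => by rw [e, map_zero] at hww₂; exact zero_ne_one hww₂
  have hperp : ∀ x, h.gW w x = 0 → ∀ u, h.tp u x ∈ R := fun x hx u => by
    refine h.gN.mem_of_iso h5 hw0 hw (R.comap (h.tp u)) (fun v hwv hv => ⟨by rw [h.pol, hwv, mul_zero], fun t => ?_⟩) hx
    have := siegIn_tp hG h5 hall hw0 hw hwv hv z (t • u)
    rwa [map_smul, LinearMap.smul_apply] at this
  intro T he' hT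
  have hker : T - h.tp (h.c w T) w₂ ∈ R := by
    refine (Submodule.span_le.2 ?_) (h.mem_span_perp hw0 (by rw [map_sub, h.c_tp, hww₂, one_smul, sub_self]))
    rintro _ ⟨u, x, hx, rfl⟩
    exact hperp x (by rw [h.g_sym, hx]) u
  have hy : h.fU z (h.c w T) = 0 := by rw [h.pol_c]; exact hT
  set y := h.c w T
  suffices hY : h.tp y w₂ ∈ R by
    have := R.add_mem hker hY
    rw [sub_add_cancel] at this
    exact this.2.one he' hT
  obtain ⟨u₀, hu₀⟩ := exists_ne (0 : U)
  obtain ⟨u', hu'⟩ := h.fN.exists_one hu₀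
  have hd := Nice.finrank_ker_two (B := h.gW) w w₂
  obtain ⟨v', hv', hv'0, hv's⟩ := Nice.exists_iso_in h.gW (LinearMap.ker (h.gW w) ⊓ LinearMap.ker (h.gW w₂)) (by omega)
  obtain ⟨hwv', h2v'⟩ := hv'
  simp only [SetLike.mem_coe, LinearMap.mem_ker] at hwv' h2v'
  have hv'n : v' ∉ Submodule.span F {w} := fun hm => hv'0 (by
    obtain ⟨s, rfl⟩ := Submodule.mem_span_singleton.1 hm
    rw [map_smul, h.g_sym w₂ w, hww₂, smul_eq_mul, mul_one] at h2v'
    rw [h2v', zero_smul])
  obtain ⟨x, hxw, hxv'⟩ := h.gN.exists_perp_one hv'n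
  set v := x - h.gW w₂ x • w with hvdef
  have hwv : h.gW w v = 0 := by simp [hvdef, hw, h.g_sym w x, hxw]
  have h2v : h.gW w₂ v = 0 := by simp [hvdef, h.g_sym w₂ w, hww₂]
  have hv'v : h.gW v v' = 1 := by simp [hvdef, hwv', hxv']
  have hpq : polar Q (h.tp y w₂) (h.tp u' v') = 0 := by rw [h.pol, h2v', mul_zero]
  have hp := h.Q_tp_zero y hw₂
  have hg := siegIn_tp hG h5 hall hw₂0 hw₂ h2v' hv's y u' hp hpq
  have hx₀ := hperp v hwv u₀
  have hdiff : RootIn Q M (h.tp z w) (-h.tp y w₂) := hx₀.2.diff hg (hG.le hg) he hx₀.1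
    (by
      rw [siegel_apply, h.Q_tp_zero u' hv's, h.pol, h.pol, hy, hwv']
      module)
    (by
      rw [siegel_apply, h.Q_tp_zero u' hv's, h.pol, h.pol, h.g_sym v w₂, h2v, hv'v, h.f_sym u₀ u', hu']
      module)
  refine ⟨by rw [h.pol, hy, zero_mul], ?_⟩
  have := hdiff.smul (-1 : F)
  rwa [neg_one_smul, neg_neg] at this

/-- Either all members are scalar, or everything. -/
theorem top_or_scal (h3 : 3 ≤ Module.finrank F U) (hodd : Odd (Module.finrank F U))
    (hex : 5 ≤ Module.finrank F U ∨ ∃ s : F, s ≠ 0 ∧ s * s ≠ 1) : siegelGroup Q ≤ M ∨ h.Scal M := by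
  refine or_iff_not_imp_right.2 fun hns => ?_
  simp only [Scal, not_forall] at hns
  obtain ⟨D, hD, hDn⟩ := hns
  push Not at hDn
  obtain ⟨E, z, hE, hz, hzE⟩ := exists_test hG h5 h3 hodd hex hD hDn
  have hz0 : z ≠ 0 := fun e => hzE (by rw [e, map_zero, LinearMap.zero_apply])
  have hall := all_rk hG h5 h3 hz0 hz (exists_rk hG h5 h3 hex hE hz hzE)
  obtain ⟨w, -, hw0, hw⟩ := Nice.exists_iso_in h.gW (⊤ : Submodule F W) (by rw [finrank_top]; omega)
  obtain ⟨w', hw', hww'⟩ := h.gN.exists_partner hw0 hw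
  have hw'0 : w' ≠ 0 := fun e => by rw [e, map_zero] at hww'; exact zero_ne_one hww'
  obtain ⟨z', hz'⟩ := h.fN.exists_one hz0
  exact siegelGroup_le_of_full h.qnd (h.Q_tp_zero z' hw') (h.Q_tp_zero z hw)
    (by rw [h.pol, hz', h.g_sym, hww', one_mul]) (full_tp hG h5 hall hw'0 hw') (full_tp hG h5 hall hw0 hw)

end TData

end CfsgLib.TensorOO
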