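import Cfsg.Agent.Lib.OrthMax.TensorOO.Meet
import Cfsg.Agent.Lib.OrthMax.TensorOO.Norms

/-! With two dimensions to spare and reflections, every element keeps the decomposition. -/

set_option autoImplicit false
set_option linter.unusedSectionVars false
set_option linter.unusedVariables false
set_option linter.unusedSimpArgs false

namespace CfsgLib.TensorOO

open QuadraticMap CfsgLib.Geometry CfsgLib.OrthMax
open CfsgLib.TensorSp (In)
open LinearMap (BilinForm)

variable {F V U W : Type*} [Field F] [Finite F] [AddCommGroup V] [Module F V] [AddCommGroup U] [Module F U]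
  [AddCommGroup W] [Module F W]
variable [FiniteDimensional F V] [FiniteDimensional F U] [FiniteDimensional F W]
variable {Q : QuadraticForm F V} {M : Subgroup (V ≃ₗ[F] V)}

namespace TData

variable (h : TData Q U W)

/-- The group has the negated reflection of the second factor at every vector of a given norm. -/
def HasRefl (M : Subgroup (V ≃ₗ[F] V)) (t : F) : Prop :=
  ∀ e, h.gW e e = t → ∃ k ∈ M, ∀ u y, k (h.tp u y) = h.tp u ((2 * h.gW e y / h.gW e e) • e - y)

/-- The vectors of a given norm whose member goes to such a member. -/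
def Marked (g : V ≃ₗ[F] V) (t : F) (e' : W) : Prop :=
  h.gW e' e' = t ∧ ∃ e, h.gW e e = t ∧ ∀ u, g (h.tp u e') ∈ h.A e

/-- The vectors on which the element is a product with a given first factor. -/
def Lin (g : V ≃ₗ[F] V) (lam : Module.End F U) : Submodule F W where
  carrier := {x | ∃ y, ∀ u, g (h.tp u x) = h.tp (lam u) y}
  zero_mem' := ⟨0, fun u => by simp⟩
  add_mem' := by
    rintro x x' ⟨y, hy⟩ ⟨y', hy'⟩
    exact ⟨y + y', fun u => by simp [hy, hy']⟩
  smul_mem' := by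
    rintro s x ⟨y, hy⟩
    exact ⟨s • y, fun u => by simp [hy]⟩

variable {h} [Nontrivial U] [Nontrivial W]

/-- The map of the first factor. -/
theorem exists_lam {g : V ≃ₗ[F] V} (hg : g ∈ orth Q) {e' e : W} (he : e ≠ 0)
    (hA : ∀ u, g (h.tp u e') ∈ h.A e) : ∃ lam : Module.End F U, (∀ u, g (h.tp u e') = h.tp (lam u) e) ∧
      ∀ u u', h.fU (lam u) (lam u') * h.gW e e = h.fU u u' * h.gW e' e' := by
  obtain ⟨b, hb⟩ := h.gN.exists_one he
  have hl : ∀ u, g (h.tp u e') = h.tp ((h.c b ∘ₗ g.toLinearMap ∘ₗ h.tp.flip e') u) e := fun u => by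
    obtain ⟨p, hp⟩ := hA u
    rw [LinearMap.flip_apply] at hp
    simp only [LinearMap.comp_apply, LinearEquiv.coe_coe, LinearMap.flip_apply, ← hp, h.c_tp, hb, one_smul]
  exact ⟨_, hl, fun u u' => by rw [← h.pol, ← hl, ← hl, orth_polar hg, h.pol]⟩

/-- A marked vector with its map. -/
theorem Marked.data {g : V ≃ₗ[F] V} {t : F} (ht : t ≠ 0) (hg : g ∈ orth Q) {e' : W} (he' : h.Marked g t e') :
    ∃ (e : W) (lam : Module.End F U), h.gW e e = t ∧ (∀ u, g (h.tp u e') = h.tp (lam u) e) ∧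
      (∀ u u', h.fU (lam u) (lam u') = h.fU u u') ∧ Function.Surjective lam := by
  obtain ⟨ht', e, hee, hA⟩ := he'
  obtain ⟨lam, hl, hiso⟩ := exists_lam hg (fun e0 => ht (by rw [← hee, e0, map_zero])) hA
  have hi : ∀ u u', h.fU (lam u) (lam u') = h.fU u u' := fun u u' =>
    mul_right_cancel₀ ht (by have := hiso u u'; rwa [hee, ht'] at this)
  refine ⟨e, lam, hee, hl, hi, LinearMap.injective_iff_surjective.1 ((injective_iff_map_eq_zero _).2 fun u hu => ?_)⟩
  exact h.fN.nd.1 u fun x => by rw [← hi, hu, map_zero, LinearMap.zero_apply]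

/-- A functional form of not being in the span of two vectors. -/
theorem exists_perp_two {a b x : W} (hx : x ∉ Submodule.span F {a, b}) :
    ∃ d, h.gW d a = 0 ∧ h.gW d b = 0 ∧ h.gW d x ≠ 0 := by
  obtain ⟨φ, hφx, hφ⟩ := Submodule.exists_le_ker_of_notMem hx
  refine ⟨(h.gW.toDual h.gN.nd).symm φ, ?_, ?_, ?_⟩
  · rw [LinearMap.BilinForm.apply_toDual_symm_apply]; exact hφ (Submodule.subset_span (Set.mem_insert _ _))
  · rw [LinearMap.BilinForm.apply_toDual_symm_apply]
    exact hφ (Submodule.subset_span (Set.mem_insert_of_mem _ rfl))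
  · rw [LinearMap.BilinForm.apply_toDual_symm_apply]; exact hφx

/-- Independence passes to the images. -/
theorem image_notMem {g : V ≃ₗ[F] V} {a' b' x' a b x : W} {la lb lx : Module.End F U}
    (hsa : Function.Surjective la) (hsb : Function.Surjective lb) (ha : ∀ u, g (h.tp u a') = h.tp (la u) a)
    (hb : ∀ u, g (h.tp u b') = h.tp (lb u) b) (hx : ∀ u, g (h.tp u x') = h.tp (lx u) x)
    (hn : x' ∉ Submodule.span F {a', b'}) : x ∉ Submodule.span F {a, b} := fun hm => by
  obtain ⟨r, s, e⟩ := Submodule.mem_span_pair.1 hm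
  obtain ⟨u, hu⟩ := exists_ne (0 : U)
  obtain ⟨p, hp⟩ := hsa (r • lx u)
  obtain ⟨q, hq⟩ := hsb (s • lx u)
  have e1 : h.tp u x' = h.tp p a' + h.tp q b' := g.injective (by
    rw [map_add, ha, hb, hx, hp, hq, ← e, map_add, map_smul, map_smul, map_smul, map_smul, LinearMap.smul_apply,
      LinearMap.smul_apply])
  obtain ⟨d, hda, hdb, hdx⟩ := exists_perp_two (h := h) hn
  have := congrArg (h.c d) e1
  rw [map_add, h.c_tp, h.c_tp, h.c_tp, hda, hdb, zero_smul, zero_smul, add_zero, smul_eq_zero] at this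
  exact this.elim hdx hu

variable (hG : h.Gens M) (h5 : 5 ≤ Module.finrank F W) (hS : h.Scal M) (h3 : 3 ≤ Module.finrank F U)
  (hn : Module.finrank F U + 2 ≤ Module.finrank F W)
variable {g : V ≃ₗ[F] V} (hg : g ∈ M) (hnp : ¬ h.Pure g)

include hG h5 hS h3 hn hg hnp

/-- The vectors whose contraction kills a point of a stray member carry no short element. -/
theorem no_short {w₀ : W} (hw₀0 : w₀ ≠ 0) (hw₀ : h.gW w₀ w₀ = 0) {z : U} (hz0 : z ≠ 0) (hz : h.fU z z = 0)
    {q a : W} (hq : h.gW q q = 0) (hq0 : q ≠ 0) (hqa : h.gW q a = 0) (hqv : h.c q (g (h.tp z w₀)) = 0)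
    (hav : h.c a (g (h.tp z w₀)) = 0) : a ∈ Submodule.span F {q} := by
  by_contra han
  obtain ⟨k, hk, ek⟩ := in_sh hG hq hqa
  refine no_move hG h5 hS h3 hn hg hk hw₀0 hw₀ (short_moves hG h5 hS h3 hn hg hnp hw₀0 hw₀ hq0 hq hqa han ek) hz0 ?_
    (Or.inr hz)
  rw [ek, show h.sh q a 1 (g (h.tp z w₀)) = 0 by simp [sh_apply, hav, hqv], add_zero]
  exact Submodule.mem_span_singleton_self _

/-- Those vectors form a non-degenerate plane. -/
theorem kill_plane {w₀ : W} (hw₀0 : w₀ ≠ 0) (hw₀ : h.gW w₀ w₀ = 0) {z : U} (hz0 : z ≠ 0) (hz : h.fU z z = 0) :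
    2 ≤ Module.finrank F (LinearMap.ker (h.c.flip (g (h.tp z w₀)))) ∧
      Module.finrank F (LinearMap.ker (h.c.flip (g (h.tp z w₀)))) ≤ 2 ∧
      NdIn h.gW (LinearMap.ker (h.c.flip (g (h.tp z w₀)))) := by
  set K := LinearMap.ker (h.c.flip (g (h.tp z w₀)))
  have hd : 2 ≤ Module.finrank F K := by
    have h1 := (h.c.flip (g (h.tp z w₀))).finrank_range_add_finrank_ker
    have h2 := Submodule.finrank_le (LinearMap.range (h.c.flip (g (h.tp z w₀))))
    show 2 ≤ Module.finrank F (LinearMap.ker (h.c.flip (g (h.tp z w₀))))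
    omega
  have hsq : ∀ q ∈ K, q ≠ 0 → h.gW q q = 0 →
      K ⊓ LinearMap.ker (h.gW q) ≤ Submodule.span F {q} := fun q hq hq0 hqq a ha =>
    no_short hG h5 hS h3 hn hg hnp hw₀0 hw₀ hz0 hz hqq hq0 ha.2 hq ha.1
  refine ⟨hd, ?_, fun x hx hall => ?_⟩
  · by_contra hlt
    obtain ⟨q, hq, hq0, hqq⟩ := Nice.exists_iso_in h.gW K (by omega)
    have h1 := Submodule.finrank_mono (hsq q hq hq0 hqq)
    rw [finrank_span_singleton hq0] at h1
    have h2 := Nice.finrank_ker_inf K (h.gW q)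
    omega
  · by_contra hx0
    have hxx := hall x hx
    have h1 := Submodule.finrank_mono (hsq x hx hx0 hxx)
    rw [finrank_span_singleton hx0, inf_eq_left.2 (fun y hy => LinearMap.mem_ker.2 (hall y hy))] at h1
    omega

variable (hodd : Odd (Module.finrank F U)) {t : F} (ht : t ≠ 0) (hR : h.HasRefl M t)

include hodd ht hR

/-- A vector of the plane of the given norm gives a marked vector. -/
theorem mark_of_kill {w₀ : W} (hw₀0 : w₀ ≠ 0) (hw₀ : h.gW w₀ w₀ = 0) {z : U} (hz0 : z ≠ 0) (hz : h.fU z z = 0)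
    {e : W} (he : h.c e (g (h.tp z w₀)) = 0) (hee : h.gW e e = t) :
    ∃ e', h.Marked g t e' ∧ h.gW e' w₀ = 0 ∧ ∀ u, g (h.tp u e') ∈ h.A e := by
  obtain ⟨k, hk, ek⟩ := hR e hee
  have he0 : e ≠ 0 := fun e0 => ht (by rw [← hee, e0, map_zero])
  have hkv : k (g (h.tp z w₀)) = - g (h.tp z w₀) := by
    refine eq_neg_of_add_eq_zero_left (h.map_eq_zero_of_tp (φ := k.toLinearMap + 1) he0 (fun u y hy => ?_) he)
    simp [ek, h.g_sym e y, hy]
  have hst : ∀ u, k (g (h.tp u w₀)) ∈ (h.A w₀).map g.toLinearMap := fun u => by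
    by_contra hne
    refine no_move hG h5 hS h3 hn hg hk hw₀0 hw₀ (fun e' => hne ?_) hz0 ?_ (Or.inr hz)
    · rw [← e']
      exact Submodule.mem_map_of_mem (Submodule.mem_map_of_mem (h.tp_mem_A u w₀))
    · rw [hkv]
      exact Submodule.neg_mem _ (Submodule.mem_span_singleton_self _)
  obtain ⟨e', he', hew, hA⟩ := (pure_line_of_refl hG h5 hS h3 (by omega) hodd hg hw₀0 hw₀
    (by rw [hee]; exact ht) hk ek hst).resolve_left hnp
  obtain ⟨lam, hl, hiso⟩ := exists_lam (hG.le hg) he0 hA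
  obtain ⟨s, hs⟩ := isSquare_mult h hodd (T := lam) (c := h.gW e' e' / t) fun u u' => by
    have := hiso u u'
    rw [hee] at this
    field_simp
    linear_combination this
  have hs0 : s ≠ 0 := fun e0 => he' (by
    rw [e0, zero_mul, div_eq_zero_iff] at hs
    exact hs.resolve_right ht)
  have hA' : ∀ u, g (h.tp u (s⁻¹ • e')) ∈ h.A e := fun u => by
    rw [map_smul, map_smul]; exact Submodule.smul_mem _ _ (hA u)
  refine ⟨s⁻¹ • e', ⟨?_, e, hee, hA'⟩, by simp [hew], hA'⟩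
  simp only [map_smul, LinearMap.smul_apply, smul_eq_mul]
  rw [div_eq_iff ht] at hs
  rw [hs]
  field_simp

/-- Every isotropic vector is orthogonal to a marked one. -/
theorem exists_marked {w₀ : W} (hw₀0 : w₀ ≠ 0) (hw₀ : h.gW w₀ w₀ = 0) :
    ∃ e', h.Marked g t e' ∧ h.gW e' w₀ = 0 := by
  obtain ⟨z, -, hz0, hz⟩ := Nice.exists_iso_in h.fU (⊤ : Submodule F U) (by rw [finrank_top]; omega)
  obtain ⟨hd, -, hnd⟩ := kill_plane hG h5 hS h3 hn hg hnp hw₀0 hw₀ hz0 hz
  obtain ⟨e, he, hee⟩ := h.gN.exists_norm hnd hd t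
  obtain ⟨e', h1, h2, -⟩ := mark_of_kill hG h5 hS h3 hn hg hnp hodd ht hR hw₀0 hw₀ hz0 hz he hee
  exact ⟨e', h1, h2⟩

/-- If the field has a square apart from one, there are two of them. -/
theorem exists_two_marked {s : F} (hs0 : s ≠ 0) (hs1 : s * s ≠ 1) {w₀ : W} (hw₀0 : w₀ ≠ 0)
    (hw₀ : h.gW w₀ w₀ = 0) :
    ∃ a b, h.Marked g t a ∧ h.Marked g t b ∧ b ∉ Submodule.span F {a} ∧ h.gW a w₀ = 0 ∧ h.gW b w₀ = 0 := by
  obtain ⟨z, -, hz0, hz⟩ := Nice.exists_iso_in h.fU (⊤ : Submodule F U) (by rw [finrank_top]; omega)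
  obtain ⟨hd, -, hnd⟩ := kill_plane hG h5 hS h3 hn hg hnp hw₀0 hw₀ hz0 hz
  obtain ⟨e, he, hee⟩ := h.gN.exists_norm hnd hd t
  have hee' : h.gW e e ≠ 0 := by rw [hee]; exact ht
  have := Nice.finrank_inter (B := h.gW) he hee'
  obtain ⟨f, ⟨hfK, hef⟩, hff⟩ := h.gN.exists_aniso_nd (h.gN.ndIn_inter hnd he hee') (by omega)
  simp only [SetLike.mem_coe, LinearMap.mem_ker] at hef
  obtain ⟨r, hr0, hr⟩ : ∃ r : F, r ≠ 0 ∧ t + r * r * h.gW f f ≠ 0 := by
    by_cases h1 : t + h.gW f f = 0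
    · refine ⟨s, hs0, fun e0 => mul_ne_zero (sub_ne_zero.2 hs1) hff ?_⟩
      linear_combination e0 - h1
    · exact ⟨1, one_ne_zero, by rwa [one_mul, one_mul]⟩
  set y := -(2 * t) / (t + r * r * h.gW f f) with hy
  set x := (1 + y) • e + (y * r) • f with hx
  have hxt : h.gW x x = t := by
    simp only [hx, map_add, map_smul, LinearMap.add_apply, LinearMap.smul_apply, smul_eq_mul, hef, h.g_sym f e, hee]
    have hyD : y * (t + r * r * h.gW f f) = -(2 * t) := by rw [hy, div_mul_cancel₀ _ hr]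
    linear_combination y * hyD
  have hyr : y * r ≠ 0 := mul_ne_zero (div_ne_zero (neg_ne_zero.2 (mul_ne_zero h.h2 ht)) hr) hr0
  have hxK : h.c x (g (h.tp z w₀)) = 0 :=
    (LinearMap.ker (h.c.flip (g (h.tp z w₀)))).add_mem (Submodule.smul_mem _ _ he) (Submodule.smul_mem _ _ hfK)
  obtain ⟨a, ha, haw, hAa⟩ := mark_of_kill hG h5 hS h3 hn hg hnp hodd ht hR hw₀0 hw₀ hz0 hz he hee
  obtain ⟨b, hb, hbw, hAb⟩ := mark_of_kill hG h5 hS h3 hn hg hnp hodd ht hR hw₀0 hw₀ hz0 hz hxK hxt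
  refine ⟨a, b, ha, hb, fun hm => ?_, haw, hbw⟩
  obtain ⟨l, rfl⟩ := Submodule.mem_span_singleton.1 hm
  have hl0 : l ≠ 0 := fun e0 => ht (by rw [← hb.1, e0, zero_smul, map_zero])
  obtain ⟨u, hu⟩ := exists_ne (0 : U)
  obtain ⟨p, hp⟩ := hAa u
  have hq : g (h.tp u a) ∈ h.A x := by
    have := hAb u
    rw [map_smul, map_smul] at this
    exact (Submodule.smul_mem_iff _ hl0).1 this
  rw [← hp, LinearMap.flip_apply] at hq
  have hp0 : p ≠ 0 := fun e0 => h.tp_ne_zero (w := a) hu (fun e1 => ht (by rw [← ha.1, e1, map_zero])) (g.injective (by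
    rw [← hp, e0, map_zero, map_zero]))
  obtain ⟨l', hl'⟩ := Submodule.mem_span_singleton.1 (h.tp_mem_A_iff hp0 hq)
  have h1 := congrArg (h.gW f) hl'
  simp only [hx, map_add, map_smul, smul_eq_mul, h.g_sym f e, hef, mul_zero, zero_add] at h1
  have hl'0 : l' = 0 := (mul_eq_zero.1 h1).resolve_right (mul_ne_zero hyr hff)
  rw [hl'0, zero_smul] at hl'
  exact ht (by rw [← hee, ← hl', map_zero])

/-- No isotropic vector is orthogonal to three independent marked ones. -/
theorem no_three {a b x : W} (ha : h.Marked g t a) (hb : h.Marked g t b) (hx : h.Marked g t x)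
    (hab : b ∉ Submodule.span F {a}) (habx : x ∉ Submodule.span F {a, b}) {w : W} (hw0 : w ≠ 0)
    (hw : h.gW w w = 0) (haw : h.gW a w = 0) (hbw : h.gW b w = 0) (hxw : h.gW x w = 0) : False := by
  obtain ⟨z, -, hz0, hz⟩ := Nice.exists_iso_in h.fU (⊤ : Submodule F U) (by rw [finrank_top]; omega)
  obtain ⟨-, hd, -⟩ := kill_plane hG h5 hS h3 hn hg hnp hw0 hw hz0 hz
  obtain ⟨a₁, la, ha₁, hla, hia, hsa⟩ := ha.data ht (hG.le hg)
  obtain ⟨b₁, lb, hb₁, hlb, hib, hsb⟩ := hb.data ht (hG.le hg)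
  obtain ⟨x₁, lx, hx₁, hlx, hix, hsx⟩ := hx.data ht (hG.le hg)
  set K := LinearMap.ker (h.c.flip (g (h.tp z w)))
  have key : ∀ (d' d : W) (l : Module.End F U), Function.Surjective l → (∀ u, g (h.tp u d') = h.tp (l u) d) →
      h.gW d' w = 0 → d ∈ K := fun d' d l hs hl hdw => LinearMap.mem_ker.2 (h.ext_f fun u => by
    obtain ⟨p, rfl⟩ := hs u
    rw [LinearMap.flip_apply, h.pol_c, ← hl, orth_polar (hG.le hg), h.pol, hdw, mul_zero, map_zero])
  have h1 : b₁ ∉ Submodule.span F {a₁, a₁} :=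
    image_notMem (h := h) hsa hsa hla hla hlb (by rwa [Set.pair_eq_singleton])
  rw [Set.pair_eq_singleton] at h1
  have h2 := image_notMem (h := h) hsa hsb hla hlb hlx habx
  have ha0 : a₁ ≠ 0 := fun e => ht (by rw [← ha₁, e, map_zero])
  have l1 : Submodule.span F {a₁} < Submodule.span F {a₁, b₁} :=
    lt_of_le_of_ne (Submodule.span_mono (by simp)) fun e =>
      h1 (e ▸ Submodule.subset_span (Set.mem_insert_of_mem _ rfl))
  have l2 : Submodule.span F {a₁, b₁} < K := lt_of_le_of_ne (Submodule.span_le.2 (by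
      rintro _ (rfl | rfl)
      · exact key a _ la hsa hla haw
      · exact key b _ lb hsb hlb hbw)) fun e => h2 (e ▸ key x _ lx hsx hlx hxw)
  have l1' := Submodule.finrank_lt_finrank_of_lt l1
  have l2' := Submodule.finrank_lt_finrank_of_lt l2
  rw [finrank_span_singleton ha0] at l1'
  omega

omit h3 hn hodd hR in
/-- A subspace of products has no isotropic vectors. -/
theorem lin_aniso {a : W} (ha : h.Marked g t a) : ∃ lam : Module.End F U, a ∈ h.Lin g lam ∧
    (∀ b, h.Marked g t b → h.gW a b ≠ 0 → b ∈ h.Lin g lam) ∧ ∀ x ∈ h.Lin g lam, h.gW x x = 0 → x = 0 := by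
  obtain ⟨a₁, la, ha₁, hla, hia, hsa⟩ := ha.data ht (hG.le hg)
  refine ⟨la, ⟨a₁, hla⟩, fun b hb hab => ?_, fun x hx hxx => ?_⟩
  · obtain ⟨b₁, lb, hb₁, hlb, hib, hsb⟩ := hb.data ht (hG.le hg)
    have he : ∀ u u', h.fU (la u) (lb u') * h.gW a₁ b₁ = h.fU u u' * h.gW a b := fun u u' => by
      rw [← h.pol, ← hla, ← hlb, orth_polar (hG.le hg), h.pol]
    have hab₁ : h.gW a₁ b₁ ≠ 0 := fun e0 => by
      obtain ⟨u, hu⟩ := exists_ne (0 : U)
      obtain ⟨v, hv⟩ := h.fN.exists_one hu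
      have := he v u
      rw [e0, mul_zero, hv, one_mul] at this
      exact hab this.symm
    refine ⟨(h.gW a b / h.gW a₁ b₁) • b₁, fun u => ?_⟩
    have hlu : lb u = (h.gW a b / h.gW a₁ b₁) • la u := h.ext_f fun p => by
      obtain ⟨p, rfl⟩ := hsa p
      rw [map_smul, smul_eq_mul, hia]
      field_simp
      linear_combination he p u
    rw [hlb, hlu, map_smul, map_smul, LinearMap.smul_apply]
  · by_contra hx0
    obtain ⟨y, hy⟩ := hx
    obtain ⟨u, hu⟩ := h.fN.exists_aniso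
    have hy0 : y ≠ 0 := fun e0 => h.tp_ne_zero (fun e1 => hu (by rw [e1, map_zero])) hx0
      (g.injective (show g (h.tp u x) = g 0 by rw [hy, e0, map_zero, map_zero]))
    have hyy : h.gW y y = 0 := by
      have := orth_polar (hG.le hg) (h.tp u x) (h.tp u x)
      rw [hy, h.pol, h.pol, hia, hxx, mul_zero] at this
      exact (mul_eq_zero.1 this).resolve_left hu
    exact hnp (pure_of_member hG h5 hS hg hx0 hxx hy0 hyy fun v => by rw [hy]; exact h.tp_mem_A _ _)

omit h3 hn hodd hR in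
/-- A non-orthogonal pair of marked vectors separates the others. -/
theorem split {a b : W} (ha : h.Marked g t a) (hb : h.Marked g t b) (hab : b ∉ Submodule.span F {a})
    (hne : h.gW a b ≠ 0) : t * t - h.gW a b * h.gW a b ≠ 0 ∧
      ∀ x, h.Marked g t x → x ∈ Submodule.span F {a, b} ∨ h.gW a x = 0 ∧ h.gW b x = 0 := by
  obtain ⟨la, hal, hla, hka⟩ := lin_aniso hG h5 hS hg hnp ht ha
  obtain ⟨lb, hbl, hlb, hkb⟩ := lin_aniso hG h5 hS hg hnp ht hb
  refine ⟨fun e => ?_, fun x hx => ?_⟩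
  · have hbb := hla b hb hne
    have h0 := hka (t • b - h.gW a b • a) ((h.Lin g la).sub_mem (Submodule.smul_mem _ _ hbb) (Submodule.smul_mem _ _ hal)) (by
      simp only [map_sub, map_smul, LinearMap.sub_apply, LinearMap.smul_apply, smul_eq_mul, ha.1, hb.1, h.g_sym b a]
      linear_combination t * e)
    exact hab (Submodule.mem_span_singleton.2 ⟨t⁻¹ * h.gW a b, by
      rw [mul_smul, ← sub_eq_zero.1 h0, smul_smul, inv_mul_cancel₀ ht, one_smul]⟩)
  · refine or_iff_not_imp_left.2 fun hxs => ?_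
    have h3' : ∀ L : Submodule F W, (∀ y ∈ L, h.gW y y = 0 → y = 0) → a ∈ L → b ∈ L → x ∈ L → False := by
      intro L hL h1 h2 h3
      have ha0 : a ≠ 0 := fun e => ht (by rw [← ha.1, e, map_zero])
      have l1 : Submodule.span F {a} < Submodule.span F {a, b} :=
        lt_of_le_of_ne (Submodule.span_mono (by simp)) fun e =>
          hab (e ▸ Submodule.subset_span (Set.mem_insert_of_mem _ rfl))
      have l2 : Submodule.span F {a, b} < L :=
        lt_of_le_of_ne (Submodule.span_le.2 (by rintro _ (rfl | rfl) <;> assumption)) fun e => hxs (e ▸ h3)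
      have l1' := Submodule.finrank_lt_finrank_of_lt l1
      have l2' := Submodule.finrank_lt_finrank_of_lt l2
      rw [finrank_span_singleton ha0] at l1'
      obtain ⟨y, hy, hy0, hyy⟩ := Nice.exists_iso_in h.gW L (by omega)
      exact hy0 (hL y hy hyy)
    refine ⟨?_, ?_⟩ <;> by_contra hne'
    · exact h3' _ hka hal (hla b hb hne) (hla x hx hne')
    · exact h3' _ hkb (hlb a ha (by rwa [h.g_sym])) hbl (hlb x hx hne')

omit h3 hn hodd hR in
/-- A plane separating the marked vectors. -/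
theorem exists_plane {a₀ b₀ : W} (ha₀ : h.Marked g t a₀) (hb₀ : h.Marked g t b₀)
    (hab₀ : b₀ ∉ Submodule.span F {a₀}) :
    ∃ a b, h.Marked g t a ∧ h.Marked g t b ∧ b ∉ Submodule.span F {a} ∧ t * t - h.gW a b * h.gW a b ≠ 0 ∧
      ∀ x, h.Marked g t x → x ∈ Submodule.span F {a, b} ∨ h.gW a x = 0 ∧ h.gW b x = 0 := by
  by_cases hex : ∃ a b, h.Marked g t a ∧ h.Marked g t b ∧ b ∉ Submodule.span F {a} ∧ h.gW a b ≠ 0
  · obtain ⟨a, b, ha, hb, hab, hne⟩ := hex
    exact ⟨a, b, ha, hb, hab, split hG h5 hS hg hnp ht ha hb hab hne⟩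
  push Not at hex
  refine ⟨a₀, b₀, ha₀, hb₀, hab₀, by rw [hex a₀ b₀ ha₀ hb₀ hab₀]; simpa using ht, fun x hx =>
    or_iff_not_imp_left.2 fun hxs => ⟨hex a₀ x ha₀ hx fun hm => hxs ?_, hex b₀ x hb₀ hx fun hm => hxs ?_⟩⟩
  · exact Submodule.span_mono (by simp) hm
  · exact Submodule.span_mono (by simp) hm

omit hg hnp in
/-- Every element keeps the decomposition. -/
theorem all_pure (hcase : 7 ≤ Module.finrank F W ∨ Module.finrank F W = 5 ∧ ∃ s : F, s ≠ 0 ∧ s * s ≠ 1)
    {g : V ≃ₗ[F] V} (hg : g ∈ M) : h.Pure g := by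
  by_contra hnp
  have hone : ∀ {w₀ : W}, w₀ ≠ 0 → h.gW w₀ w₀ = 0 → ∃ e', h.Marked g t e' ∧ h.gW e' w₀ = 0 :=
    fun h1 h2 => exists_marked hG h5 hS h3 hn hg hnp hodd ht hR h1 h2
  obtain ⟨w₁, -, hw₁0, hw₁⟩ := Nice.exists_iso_in h.gW (⊤ : Submodule F W) (by rw [finrank_top]; omega)
  obtain ⟨a₀, ha₀, -⟩ := hone hw₁0 hw₁
  obtain ⟨b₀, hb₀, hab₀⟩ : ∃ b₀, h.Marked g t b₀ ∧ b₀ ∉ Submodule.span F {a₀} := by
    by_contra hall
    push Not at hall
    obtain ⟨w, hw, hwa⟩ := h.gN.exists_iso_not_perp (by omega) (x := a₀) fun e => ht (by rw [← ha₀.1, e, map_zero])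
    obtain ⟨e', he', hew⟩ := hone (fun e => hwa (by rw [e, map_zero, LinearMap.zero_apply])) hw
    obtain ⟨l, rfl⟩ := Submodule.mem_span_singleton.1 (hall e' he')
    have hl : l ≠ 0 := fun e => ht (by rw [← he'.1, e, zero_smul, map_zero])
    rw [h.g_sym, map_smul, smul_eq_mul] at hew
    exact hwa ((mul_eq_zero.1 hew).resolve_left hl)
  obtain ⟨a, b, ha, hb, hab, hdet, hsep⟩ := exists_plane hG h5 hS hg hnp ht ha₀ hb₀ hab₀
  set f₂ := b - (h.gW a b / t) • a with hf₂
  have haf : h.gW a f₂ = 0 := by rw [hf₂, map_sub, map_smul, ha.1, smul_eq_mul, div_mul_cancel₀ _ ht, sub_self]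
  have hff : h.gW f₂ f₂ ≠ 0 := fun e => hdet (by
    have e' : h.gW f₂ f₂ = h.gW f₂ b := by
      conv_lhs => arg 2; rw [hf₂]
      rw [map_sub, map_smul, h.g_sym f₂ a, haf, smul_zero, sub_zero]
    rw [e', hf₂, map_sub, map_smul, LinearMap.sub_apply, LinearMap.smul_apply, hb.1, smul_eq_mul] at e
    field_simp at e
    linear_combination e)
  have haa : h.gW a a ≠ 0 := by rw [ha.1]; exact ht
  have hsp : Submodule.span F {a, f₂} = Submodule.span F {a, b} := by
    refine le_antisymm (Submodule.span_le.2 ?_) (Submodule.span_le.2 ?_)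
    · rintro _ (rfl | rfl)
      · exact Submodule.subset_span (Set.mem_insert _ _)
      · exact Submodule.mem_span_pair.2 ⟨-(h.gW a b / t), 1, by rw [hf₂]; module⟩
    · intro v hv
      rcases hv with e | e <;> rw [e]
      · exact Submodule.subset_span (Set.mem_insert _ _)
      · exact Submodule.mem_span_pair.2 ⟨h.gW a b / t, 1, by rw [hf₂]; module⟩
  obtain ⟨k, hk, hkx⟩ := h.gN.exists_avoid haa hff haf ht
  rw [hsp] at hk hkx
  set Y := LinearMap.ker (h.gW a) ⊓ LinearMap.ker (h.gW f₂) with hYdef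
  have hY1 : Module.finrank F (LinearMap.ker (h.gW a)) + 1 = Module.finrank F W :=
    h.gN.finrank_ker fun e => haa (by rw [e, map_zero])
  have hYd := Nice.finrank_inter (B := h.gW) (S := LinearMap.ker (h.gW a)) (e := f₂) haf hff
  have hYn : NdIn h.gW Y := by
    have := h.gN.ndIn_inter (h.gN.ndIn_inter h.gN.ndIn_top (Submodule.mem_top (x := a)) haa)
      (e := f₂) ⟨Submodule.mem_top, haf⟩ hff
    rwa [top_inf_eq] at this
  have hYmem : ∀ {x}, x ∈ Y ↔ h.gW a x = 0 ∧ h.gW b x = 0 := fun {x} => by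
    constructor
    · rintro ⟨h1, h2⟩
      simp only [SetLike.mem_coe, LinearMap.mem_ker] at h1 h2
      rw [hf₂, map_sub, map_smul, LinearMap.sub_apply, LinearMap.smul_apply, h1, smul_zero, sub_zero] at h2
      exact ⟨h1, h2⟩
    · rintro ⟨h1, h2⟩
      exact ⟨h1, by simp [hf₂, h1, h2]⟩
  have hgo : ∀ y ∈ Y, h.gW y y = - h.gW k k →
      k + y ≠ 0 ∧ h.gW (k + y) (k + y) = 0 ∧
        ∀ x, h.Marked g t x → h.gW x (k + y) = 0 → x ∈ Y ∧ h.gW y x = 0 := fun y hy hyy => by
    obtain ⟨r, s, hrs⟩ := Submodule.mem_span_pair.1 hk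
    obtain ⟨hay, hby⟩ := hYmem.1 hy
    have hky : h.gW k y = 0 := by
      rw [← hrs, map_add, map_smul, map_smul, LinearMap.add_apply, LinearMap.smul_apply, LinearMap.smul_apply,
        hay, hby, smul_zero, smul_zero, add_zero]
    refine ⟨fun e => hkx a (Submodule.subset_span (Set.mem_insert _ _)) ?_ ha.1, ?_, fun x hx hxw => ?_⟩
    · rw [eq_neg_of_add_eq_zero_left e, map_neg, LinearMap.neg_apply, h.g_sym, hay, neg_zero]
    · rw [map_add, map_add, LinearMap.add_apply, LinearMap.add_apply, hky, h.g_sym y k, hky, hyy]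
      ring
    · rw [h.g_sym, map_add, LinearMap.add_apply] at hxw
      rcases hsep x hx with hxs | hxY
      · obtain ⟨r', s', hrs'⟩ := Submodule.mem_span_pair.1 hxs
        have hyx : h.gW y x = 0 := by simp [← hrs', h.g_sym y a, h.g_sym y b, hay, hby]
        rw [hyx, add_zero] at hxw
        exact absurd hx.1 (hkx x hxs hxw)
      · have hkx0 : h.gW k x = 0 := by simp [← hrs, hxY.1, hxY.2]
        rw [hkx0, zero_add] at hxw
        exact ⟨hYmem.2 hxY, hxw⟩
  rcases hcase with h7 | ⟨h5', s, hs0, hs1⟩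
  · -- no marked vector lies outside the plane
    obtain ⟨y, hy, hyy⟩ := h.gN.exists_norm hYn
      (by show 2 ≤ Module.finrank F (LinearMap.ker (h.gW a) ⊓ LinearMap.ker (h.gW f₂) : Submodule F W); omega)
      (- h.gW k k)
    obtain ⟨hw0, hw, hperp⟩ := hgo y hy hyy
    obtain ⟨x, hx, hxw⟩ := hone hw0 hw
    obtain ⟨hxY, -⟩ := hperp x hx hxw
    have h1 := Nice.finrank_ker_two (B := h.gW) a b
    have h2 := Nice.finrank_ker_inf (LinearMap.ker (h.gW a) ⊓ LinearMap.ker (h.gW b)) (h.gW x)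
    obtain ⟨w, hw', hw'0, hww⟩ := Nice.exists_iso_in h.gW
      (LinearMap.ker (h.gW a) ⊓ LinearMap.ker (h.gW b) ⊓ LinearMap.ker (h.gW x)) (by omega)
    refine no_three hG h5 hS h3 hn hg hnp hodd ht hR ha hb hx hab (fun hm => ?_) hw'0 hww hw'.1.1 hw'.1.2 hw'.2
    obtain ⟨r, s, hrs⟩ := Submodule.mem_span_pair.1 hm
    obtain ⟨hax, hbx⟩ := hYmem.1 hxY
    have : h.gW x x = 0 := by
      nth_rewrite 1 [← hrs]
      simp [hax, hbx]
    exact ht (hx.1 ▸ this)
  · -- dimension five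
    have hY3 : Module.finrank F Y = 3 := by
      show Module.finrank F (LinearMap.ker (h.gW a) ⊓ LinearMap.ker (h.gW f₂) : Submodule F W) = 3
      omega
    obtain ⟨e, heY, he, hsepY⟩ : ∃ e ∈ Y, h.gW e e ≠ 0 ∧
        ∀ x ∈ Y, h.Marked g t x → x ∈ Submodule.span F {e} ∨ h.gW e x = 0 := by
      by_cases hex : ∃ c d, c ∈ Y ∧ d ∈ Y ∧ h.Marked g t c ∧ h.Marked g t d ∧ d ∉ Submodule.span F {c} ∧
          h.gW c d ≠ 0
      · obtain ⟨c, d, hcY, hdY, hc, hd, hcd, hne⟩ := hex
        obtain ⟨hdet', hsep'⟩ := split hG h5 hS hg hnp ht hc hd hcd hne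
        set d' := d - (h.gW c d / t) • c with hd'
        have hcd' : h.gW c d' = 0 := by rw [hd', map_sub, map_smul, hc.1, smul_eq_mul, div_mul_cancel₀ _ ht, sub_self]
        have hdd : h.gW d' d' ≠ 0 := fun e => hdet' (by
          have e' : h.gW d' d' = h.gW d' d := by
            conv_lhs => arg 2; rw [hd']
            rw [map_sub, map_smul, h.g_sym d' c, hcd', smul_zero, sub_zero]
          rw [e', hd', map_sub, map_smul, LinearMap.sub_apply, LinearMap.smul_apply, hd.1, smul_eq_mul] at e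
          field_simp at e
          linear_combination e)
        have hcc : h.gW c c ≠ 0 := by rw [hc.1]; exact ht
        have hd'Y : d' ∈ Y ⊓ LinearMap.ker (h.gW c) := ⟨Y.sub_mem hdY (Y.smul_mem _ hcY), hcd'⟩
        have hn1 := Nice.finrank_inter (B := h.gW) hcY hcc
        have hn2 := Nice.finrank_inter (B := h.gW) hd'Y hdd
        obtain ⟨e, he, hee⟩ := h.gN.exists_aniso_nd (h.gN.ndIn_inter (h.gN.ndIn_inter hYn hcY hcc) hd'Y hdd) (by omega)
        refine ⟨e, he.1.1, hee, fun x hxY hx => ?_⟩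
        obtain ⟨⟨heY, hce⟩, hd'e⟩ := he
        simp only [SetLike.mem_coe, LinearMap.mem_ker] at hce hd'e
        rcases hsep' x hx with hxs | ⟨hcx, hdx⟩
        · right
          obtain ⟨r, s, hrs⟩ := Submodule.mem_span_pair.1 hxs
          have hde : h.gW e d = 0 := by
            rw [hd', map_sub, map_smul, LinearMap.sub_apply, LinearMap.smul_apply, hce, smul_zero, sub_zero] at hd'e
            rw [h.g_sym, hd'e]
          simp [← hrs, h.g_sym e c, hce, hde]
        · left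
          have hle : Submodule.span F {e} ≤ Y ⊓ LinearMap.ker (h.gW c) ⊓ LinearMap.ker (h.gW d') :=
            (Submodule.span_singleton_le_iff_mem _ _).2 ⟨⟨heY, hce⟩, hd'e⟩
          rw [Submodule.eq_of_le_of_finrank_le hle (by
            rw [finrank_span_singleton (fun e0 => hee (by rw [e0, map_zero]))]; omega)]
          exact ⟨⟨hxY, hcx⟩, by simp [hd', hcx, hdx]⟩
      · push Not at hex
        by_cases hne : ∃ c ∈ Y, h.Marked g t c
        · obtain ⟨c, hcY, hc⟩ := hne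
          exact ⟨c, hcY, by rw [hc.1]; exact ht, fun x hxY hx => or_iff_not_imp_left.2 (hex c x hcY hxY hc hx)⟩
        · obtain ⟨c, hcY, hcc⟩ := h.gN.exists_aniso_nd hYn (by omega)
          exact ⟨c, hcY, hcc, fun x hxY hx => absurd ⟨x, hxY, hx⟩ hne⟩
    have hn3 := Nice.finrank_inter (B := h.gW) heY he
    obtain ⟨r, hr0, hr⟩ : ∃ r : F, r ≠ 0 ∧ r * r * h.gW e e ≠ - h.gW k k := by
      by_cases h1 : h.gW e e = - h.gW k k
      · exact ⟨s, hs0, fun e0 => mul_ne_zero (sub_ne_zero.2 hs1) he (by linear_combination e0 - h1)⟩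
      · exact ⟨1, one_ne_zero, by rwa [one_mul, one_mul]⟩
    obtain ⟨z, ⟨hzY, hez⟩, hzz⟩ := h.gN.exists_norm (h.gN.ndIn_inter hYn heY he) (by omega)
      (- h.gW k k - r * r * h.gW e e)
    simp only [SetLike.mem_coe, LinearMap.mem_ker] at hez
    have hz0 : z ≠ 0 := fun e0 => hr (sub_eq_zero.1 (by
      rw [e0] at hzz
      simp only [map_zero] at hzz
      linear_combination hzz))
    obtain ⟨hw0, hw, hperp⟩ := hgo (r • e + z) (Y.add_mem (Y.smul_mem _ heY) hzY) (by
      simp only [map_add, map_smul, LinearMap.add_apply, LinearMap.smul_apply, smul_eq_mul, hez, h.g_sym z e, hzz]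
      ring)
    obtain ⟨p, q, hp, hq, hpq, hpw, hqw⟩ := exists_two_marked hG h5 hS h3 hn hg hnp hodd ht hR hs0 hs1 hw0 hw
    set L := Y ⊓ LinearMap.ker (h.gW e) ⊓ LinearMap.ker (h.gW z) with hLdef
    have hin : ∀ x, h.Marked g t x → h.gW x (k + (r • e + z)) = 0 → x ∈ L := fun x hx hxw => by
      obtain ⟨hxY, hyx⟩ := hperp x hx hxw
      simp only [map_add, map_smul, LinearMap.add_apply, LinearMap.smul_apply, smul_eq_mul] at hyx
      rcases hsepY x hxY hx with hxe | hxe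
      · obtain ⟨l, rfl⟩ := Submodule.mem_span_singleton.1 hxe
        simp only [map_smul, smul_eq_mul, h.g_sym z e, hez, mul_zero, add_zero] at hyx
        have hl : l ≠ 0 := fun e0 => ht (by rw [← hx.1, e0, zero_smul, map_zero])
        exact absurd hyx (mul_ne_zero hr0 (mul_ne_zero hl he))
      · rw [hxe, mul_zero, zero_add] at hyx
        exact ⟨⟨hxY, hxe⟩, hyx⟩
    have hL1 : Module.finrank F L < 2 := by
      have h1 : Y ⊓ LinearMap.ker (h.gW e) ⊓ LinearMap.ker (h.gW z) < Y ⊓ LinearMap.ker (h.gW e) :=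
        lt_of_le_of_ne inf_le_left fun e0 => hz0 (h.gN.ndIn_inter hYn heY he z ⟨hzY, hez⟩ fun y hy =>
          LinearMap.mem_ker.1 (inf_eq_left.1 e0 hy))
      have h2 := Submodule.finrank_lt_finrank_of_lt h1
      show Module.finrank F (Y ⊓ LinearMap.ker (h.gW e) ⊓ LinearMap.ker (h.gW z) : Submodule F W) < 2
      omega
    have hp0 : p ≠ 0 := fun e0 => ht (by rw [← hp.1, e0, map_zero])
    have hlt : Submodule.span F {p} < L := lt_of_le_of_ne
      ((Submodule.span_singleton_le_iff_mem _ _).2 (hin p hp hpw)) fun e0 => hpq (e0 ▸ hin q hq hqw)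
    have := Submodule.finrank_lt_finrank_of_lt hlt
    rw [finrank_span_singleton hp0] at this
    omega

end TData

end CfsgLib.TensorOO
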