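import Cfsg.Agent.Lib.OrthMax.TensorOO.Ops
import Cfsg.Agent.Lib.OrthMax.TensorOO.Norms
import Cfsg.Agent.Lib.OrthMax.Bridge

/-! The negated reflections of an odd-dimensional second factor at one norm. -/

set_option autoImplicit false
set_option linter.unusedSectionVars false
set_option linter.unusedVariables false
set_option linter.unusedSimpArgs false

namespace CfsgLib.TensorOO

open QuadraticMap CfsgLib.Geometry CfsgLib.OrthMax
open CfsgLib.TensorSp (In)
open LinearMap (BilinForm)
open scoped commutatorElement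

variable {F V U W : Type*} [Field F] [Finite F] [AddCommGroup V] [Module F V] [AddCommGroup U] [Module F U]
  [AddCommGroup W] [Module F W]
variable [FiniteDimensional F V] [FiniteDimensional F U] [FiniteDimensional F W]
variable {Q : QuadraticForm F V}

/-- Two reflections at vectors of equal norm multiply into the Siegel group. -/
theorem refl_pair_mem (hQ : (polarBilin Q).Nondegenerate) (hV : 5 ≤ Module.finrank F V) {x y : V} (hx : Q x ≠ 0)
    (hy : Q y ≠ 0) (hxy : Q x = Q y) : refl Q x hx * refl Q y hy ∈ siegelGroup Q := by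
  have hy0 : y ≠ 0 := fun e => hy (by rw [e, map_zero])
  have hx0 : x ≠ 0 := fun e => hx (by rw [e, map_zero])
  let ι := LinearEquiv.toSpanNonzeroSingleton F V x hx0
  have hι : ∀ r : F, ((ι r : Submodule.span F {x}) : V) = r • x := fun r => rfl
  obtain ⟨g, hg, hgx⟩ := quad_witt hQ (Submodule.span F {x})
    ((LinearMap.toSpanSingleton F V y) ∘ₗ ι.symm.toLinearMap)
    ((smul_left_injective F hy0).comp ι.symm.injective) (fun v => by
      obtain ⟨r, rfl⟩ := ι.surjective v
      simp only [LinearMap.comp_apply, LinearEquiv.coe_coe, ι.symm_apply_apply, LinearMap.toSpanSingleton_apply, hι,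
        Geometry.map_smul', hxy])
  have hgxy : g x = y := by
    have := hgx (ι 1)
    simpa only [LinearMap.comp_apply, LinearEquiv.coe_coe, ι.symm_apply_apply, LinearMap.toSpanSingleton_apply, hι,
      one_smul] using this
  have hc : ⁅(⟨refl Q x hx, refl_mem_orth Q x hx⟩ : orth Q), (⟨g, hg⟩ : orth Q)⁆ ∈ commutator (orth Q) := by
    rw [commutator_def]
    exact Subgroup.commutator_mem_commutator (Subgroup.mem_top _) (Subgroup.mem_top _)
  have := (mem_commutator_iff_siegelGroup hQ hV _).1 hc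
  have hinv : (refl Q x hx)⁻¹ = refl Q x hx := inv_eq_of_mul_eq_one_left (refl_mul_self Q x hx)
  convert this using 1
  rw [show refl Q y hy = refl Q (g x) (by rwa [mem_orth.1 hg]) from LinearEquiv.ext fun v => by
    rw [refl_apply, refl_apply, hgxy], ← refl_conj Q hg x hx]
  simp [commutatorElement_def, hinv, mul_assoc]

namespace TData

variable (h : TData Q U W)

/-- Two orthogonal reflections of equal norm of the second factor. -/
theorem pair_siegel (hV : 5 ≤ Module.finrank F V) {a b : W} (ha : h.gW a a ≠ 0) (hab : h.gW a b = 0)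
    (hbb : h.gW b b = h.gW a a) :
    In (siegelGroup Q) ((-(2 / h.gW a a)) • (h.P a a 1 + h.P b b 1)) := by
  classical
  have h2 := h.h2
  haveI := invertibleOfNonzero h2
  obtain ⟨v, hv⟩ := LinearMap.BilinForm.exists_orthogonal_basis (B := h.fU) ⟨h.fN.sym⟩
  have hd : ∀ i, h.fU (v i) (v i) ≠ 0 := fun i =>
    LinearMap.IsOrthoᵢ.not_isOrtho_basis_self_of_separatingLeft hv h.fN.nd.1 i
  let D : Fin (Module.finrank F U) → Module.End F U := fun i => (h.fU (v i) (v i))⁻¹ • h.rk (v i) (v i)
  have hDD : ∀ i j, i ≠ j → D i * D j = 0 := fun i j hij => by simp [D, rk_mul, (hv hij : h.fU (v i) (v j) = 0)]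
  have hsum : ∑ i, D i = 1 := v.ext fun j => by
    rw [LinearMap.sum_apply, Finset.sum_eq_single j]
    · simp [D, rk_apply, smul_smul, inv_mul_cancel₀ (hd j)]
    · intro i _ hij
      simp [D, rk_apply, (hv hij : h.fU (v i) (v j) = 0)]
    · simp
  suffices key : ∀ S : Finset (Fin (Module.finrank F U)),
      In (siegelGroup Q) ((-(2 / h.gW a a)) • (h.P a a (∑ i ∈ S, D i) + h.P b b (∑ i ∈ S, D i))) by
    have := key Finset.univ
    rwa [hsum] at this
  intro S
  induction S using Finset.induction_on with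
  | empty =>
    rw [Finset.sum_empty, show h.P a a 0 = 0 from LinearMap.ext fun T => by simp [P_apply],
      show h.P b b 0 = 0 from LinearMap.ext fun T => by simp [P_apply], add_zero, smul_zero]
    exact In.zero _
  | insert i S hi ih =>
    have hQa : ∀ c : W, Q (h.tp (v i) c) = h.fU (v i) (v i) * h.gW c c / 2 := fun c => by
      rw [← h.Q_tp, mul_div_cancel_left₀ _ h2]
    have hx : Q (h.tp (v i) a) ≠ 0 := by rw [hQa]; exact div_ne_zero (mul_ne_zero (hd i) ha) h2
    have hy : Q (h.tp (v i) b) ≠ 0 := by rw [hQa, hbb]; exact div_ne_zero (mul_ne_zero (hd i) ha) h2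
    have hi' : In (siegelGroup Q) ((-(2 / h.gW a a)) • (h.P a a (D i) + h.P b b (D i))) := by
      refine ⟨_, refl_pair_mem h.qnd hV hx hy (by rw [hQa, hQa, hbb]), fun T => ?_⟩
      show refl Q _ hx (refl Q _ hy T) = _
      rw [refl_apply, refl_apply, polar_sub_left, polar_smul_left', h.pol, h.g_sym b a, hab, mul_zero, mul_zero,
        sub_zero, hQa, hQa, hbb, h.polar_tp', h.polar_tp']
      simp only [D, LinearMap.smul_apply, LinearMap.add_apply, P_apply, rk_apply, map_smul, LinearMap.smul_apply,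
        smul_smul, smul_eq_mul]
      match_scalars <;> field_simp [hd i] <;> ring
    have h1 : D i * ∑ j ∈ S, D j = 0 := by
      rw [Finset.mul_sum]
      exact Finset.sum_eq_zero fun j hj => hDD i j fun e => hi (e ▸ hj)
    have hz : ∀ c d : W, h.P c d (0 : Module.End F U) = 0 := fun c d => LinearMap.ext fun T => by simp [P_apply]
    have := hi'.add ih (by
      simp only [smul_mul_assoc, mul_smul_comm, add_mul, mul_add, P_mul, h1, hz, smul_zero, add_zero])
    rw [Finset.sum_insert hi, P_add, P_add, show (-(2 / h.gW a a)) • (h.P a a (D i) + h.P a a (∑ j ∈ S, D j) +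
      (h.P b b (D i) + h.P b b (∑ j ∈ S, D j))) = (-(2 / h.gW a a)) • (h.P a a (D i) + h.P b b (D i)) +
      (-(2 / h.gW a a)) • (h.P a a (∑ j ∈ S, D j) + h.P b b (∑ j ∈ S, D j)) by module]
    exact this

/-- Minus one outside a subspace of any smaller parity-preserving dimension, in any position. -/
theorem exists_split (hV : 5 ≤ Module.finrank F V) (j : ℕ) (hj : 2 * j < Module.finrank F W) :
    ∃ S : Submodule F W, NdIn h.gW S ∧ Module.finrank F S + 2 * j = Module.finrank F W ∧
      ∀ σ : Module.End F W, (∀ x y, h.gW (σ x) (σ y) = h.gW x y) → ∃ X, In (siegelGroup Q) X ∧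
        (∀ u, ∀ y ∈ S, X (h.tp u (σ y)) = 0) ∧
        ∀ u y, (∀ s ∈ S, h.gW s y = 0) → X (h.tp u (σ y)) = (-2 : F) • h.tp u (σ y) := by
  induction j with
  | zero =>
    refine ⟨⊤, h.gN.ndIn_top, by rw [finrank_top]; omega, fun σ hσ => ⟨0, In.zero _, fun u y _ => rfl,
      fun u y hy => ?_⟩⟩
    rw [h.gN.nd.2 y fun s => hy s Submodule.mem_top]
    simp
  | succ j ih =>
    obtain ⟨S, hS, hd, hX⟩ := ih (by omega)
    obtain ⟨a, haS, ha⟩ := h.gN.exists_aniso_nd hS (by omega)
    have hd1 := Nice.finrank_inter (B := h.gW) haS ha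
    have hS1 := h.gN.ndIn_inter hS haS ha
    obtain ⟨b, hb, hbb⟩ := h.gN.exists_norm hS1 (by omega) (h.gW a a)
    have hb0 : h.gW b b ≠ 0 := by rw [hbb]; exact ha
    have hd2 := Nice.finrank_inter (B := h.gW) hb hb0
    refine ⟨S ⊓ LinearMap.ker (h.gW a) ⊓ LinearMap.ker (h.gW b), h.gN.ndIn_inter hS1 hb hb0, by omega,
      fun σ hσ => ?_⟩
    obtain ⟨hbS, hab⟩ := hb
    simp only [SetLike.mem_coe, LinearMap.mem_ker] at hab
    obtain ⟨X, hX, hX0, hX2⟩ := hX σ hσ
    have hpair := h.pair_siegel hV (a := σ a) (b := σ b) (by rwa [hσ]) (by rw [hσ, hab]) (by rw [hσ, hσ, hbb])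
    set Y := (-(2 / h.gW (σ a) (σ a))) • (h.P (σ a) (σ a) 1 + h.P (σ b) (σ b) 1)
    have hY : ∀ u y, Y (h.tp u (σ y)) =
        (-(2 / h.gW a a)) • h.tp u (h.gW a y • σ a + h.gW b y • σ b) := fun u y => by
      simp [Y, P_apply, hσ]
    have hXY : X * Y = 0 := h.ext_tp fun u y => by
      simp [Y, P_apply, hX0 _ a haS, hX0 _ b hbS]
    refine ⟨X + Y, hX.add hpair hXY, fun u y hy => ?_, fun u y hy => ?_⟩
    · obtain ⟨⟨hyS, hay⟩, hby⟩ := hy
      simp only [SetLike.mem_coe, LinearMap.mem_ker] at hay hby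
      rw [LinearMap.add_apply, hX0 u y hyS, hY, hay, hby]
      simp
    · set p := y - (h.gW a y / h.gW a a) • a - (h.gW b y / h.gW a a) • b with hp
      have hap : h.gW a p = 0 := by
        simp [hp, hab, div_mul_cancel₀ _ ha]
      have hbp : h.gW b p = 0 := by
        simp [hp, h.g_sym b a, hab, hbb, div_mul_cancel₀ _ ha]
      have hperp : ∀ s ∈ S, h.gW s p = 0 := fun s hs => by
        set r := s - (h.gW a s / h.gW a a) • a - (h.gW b s / h.gW a a) • b with hr
        have hr' : r ∈ S ⊓ LinearMap.ker (h.gW a) ⊓ LinearMap.ker (h.gW b) := by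
          refine ⟨⟨S.sub_mem (S.sub_mem hs (S.smul_mem _ haS)) (S.smul_mem _ hbS), ?_⟩, ?_⟩
          · simp [hr, hab, div_mul_cancel₀ _ ha]
          · simp [hr, h.g_sym b a, hab, hbb, div_mul_cancel₀ _ ha]
        have hrp : h.gW r p = 0 := by
          rw [hp, map_sub, map_sub, map_smul, map_smul, hy r hr', h.g_sym r a, h.g_sym r b,
            LinearMap.mem_ker.1 hr'.1.2, LinearMap.mem_ker.1 hr'.2]
          simp
        rw [hr] at hrp
        simp only [map_sub, map_smul, LinearMap.sub_apply, LinearMap.smul_apply, hap, hbp, smul_zero, sub_zero] at hrp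
        exact hrp
      have e := hX2 u p hperp
      rw [hp, map_sub, map_sub, map_smul, map_smul, map_sub, map_sub, map_smul, map_smul, map_sub, map_sub,
        map_smul, map_smul, hX0 u a haS, hX0 u b hbS, smul_zero, smul_zero, sub_zero, sub_zero] at e
      rw [LinearMap.add_apply, e, hY, map_add, map_smul, map_smul]
      module

/-- The negated reflections at one norm lie in the Siegel group. -/
theorem exists_refl (hV : 5 ≤ Module.finrank F V) (hn : Odd (Module.finrank F W)) :
    ∃ t : F, t ≠ 0 ∧ ∀ e, h.gW e e = t →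
      ∃ k ∈ siegelGroup Q, ∀ u y, k (h.tp u y) = h.tp u ((2 * h.gW e y / h.gW e e) • e - y) := by
  have h2 := h.h2
  obtain ⟨j, hj⟩ := hn
  obtain ⟨S, hS, hd, hX⟩ := h.exists_split hV j (by omega)
  have hd1 : Module.finrank F S = 1 := by omega
  obtain ⟨e₀, he₀S, he₀⟩ := h.gN.exists_aniso_nd hS (by omega)
  refine ⟨h.gW e₀ e₀, he₀, fun e he => ?_⟩
  -- an involutive isometry sending the one vector to the other up to sign
  obtain ⟨σ, hσ, hσσ, c, hc, hσe⟩ : ∃ σ : Module.End F W, (∀ x y, h.gW (σ x) (σ y) = h.gW x y) ∧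
      (∀ x, σ (σ x) = x) ∧ ∃ c : F, c * c = 1 ∧ σ e₀ = c • e := by
    have hsum : h.gW (e - e₀) (e - e₀) + h.gW (e + e₀) (e + e₀) = 4 * h.gW e₀ e₀ := by
      simp only [map_sub, map_add, LinearMap.sub_apply, LinearMap.add_apply, he]
      ring
    obtain ⟨c, hc, hv⟩ : ∃ c : F, c * c = 1 ∧ h.gW (c • e - e₀) (c • e - e₀) ≠ 0 := by
      by_cases h1 : h.gW (e - e₀) (e - e₀) = 0
      · refine ⟨-1, by ring, ?_⟩
        rw [show (-1 : F) • e - e₀ = -(e + e₀) by module]
        simp only [map_neg, LinearMap.neg_apply, neg_neg]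
        intro h0
        rw [h1, h0, add_zero, eq_comm, show (4 : F) = 2 * 2 by norm_num] at hsum
        exact mul_ne_zero (mul_ne_zero h2 h2) he₀ hsum
      · exact ⟨1, by ring, by rwa [one_smul]⟩
    set v := c • e - e₀ with hvdef
    let σ : Module.End F W := LinearMap.id - (2 / h.gW v v) • (h.gW v).smulRight v
    have hσa : ∀ x, σ x = x - (2 / h.gW v v * h.gW v x) • v := fun x => by simp [σ, smul_smul]
    refine ⟨σ, fun x y => ?_, fun x => ?_, c, hc, ?_⟩
    · simp only [hσa, map_sub, map_smul, LinearMap.sub_apply, LinearMap.smul_apply, smul_eq_mul, h.g_sym x v]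
      field_simp
      ring
    · simp only [hσa, map_sub, map_smul, smul_eq_mul]
      match_scalars <;> field_simp <;> ring
    · have h1 : 2 * h.gW v e₀ = - h.gW v v := by
        simp only [hvdef, map_sub, map_smul, LinearMap.sub_apply, LinearMap.smul_apply, smul_eq_mul, he,
          h.g_sym e₀ e]
        linear_combination h.gW e₀ e₀ * hc
      have h3 : 2 / h.gW v v * h.gW v e₀ = -1 := by
        field_simp
        linear_combination h1
      rw [hσa, h3, hvdef]
      module
  obtain ⟨X, ⟨k, hk, ek⟩, hX0, hX2⟩ := hX σ hσ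
  refine ⟨k, hk, fun u y => ?_⟩
  obtain ⟨z, rfl⟩ : ∃ z, σ z = y := ⟨σ y, hσσ y⟩
  set p := z - (h.gW e₀ z / h.gW e₀ e₀) • e₀ with hp
  have hperp : ∀ s ∈ S, h.gW s p = 0 := fun s hs => by
    obtain ⟨r, rfl⟩ : ∃ r : F, r • e₀ = s := by
      obtain ⟨r, hr⟩ := Submodule.mem_span_singleton.1 ((Submodule.eq_of_le_of_finrank_le
        ((Submodule.span_singleton_le_iff_mem _ _).2 he₀S) (by
          rw [finrank_span_singleton (fun e0 => he₀ (by rw [e0, map_zero]))]; omega)).symm ▸ hs :
        s ∈ Submodule.span F {e₀})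
      exact ⟨r, hr⟩
    simp [hp, div_mul_cancel₀ _ he₀]
  have e1 := hX2 u p hperp
  rw [hp, map_sub, map_smul, map_sub, map_smul, map_sub, map_smul, hX0 u e₀ he₀S, smul_zero, sub_zero] at e1
  have e2 : h.gW e (σ z) = c * h.gW e₀ z := by
    rw [← hσ e₀ z, hσe, map_smul, LinearMap.smul_apply, smul_eq_mul, ← mul_assoc, hc, one_mul]
  rw [ek, e1, hσe, e2, he, map_sub, map_smul, map_smul]
  module

end TData

end CfsgLib.TensorOO
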