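import Cfsg.Agent.Lib.OrthMax.TensorOO.Full
import Cfsg.Agent.Lib.OrthMax.TensorOO.Narrow
import Cfsg.Agent.Lib.OrthMax.TensorOO.Refl

/-! Groups containing the stabiliser of a product of two orthogonal spaces of odd dimensions. -/

set_option autoImplicit false
set_option linter.unusedSectionVars false
set_option linter.unusedVariables false
set_option linter.unusedSimpArgs false

namespace CfsgLib.TensorOO

open QuadraticMap CfsgLib.Geometry CfsgLib.OrthMax
open LinearMap (BilinForm)

variable {F V U W : Type*} [Field F] [Finite F] [AddCommGroup V] [Module F V] [AddCommGroup U] [Module F U]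
  [AddCommGroup W] [Module F W]
variable [FiniteDimensional F V] [FiniteDimensional F U] [FiniteDimensional F W]
variable {Q : QuadraticForm F V} {M : Subgroup (V ≃ₗ[F] V)}

namespace TData

variable {h : TData Q U W}

/-- Either everything, or only products. -/
theorem dichotomy_odd (hG : h.Gens M) (h3 : 3 ≤ Module.finrank F U) (hmU : Odd (Module.finrank F U))
    (hnW : Odd (Module.finrank F W)) (hlt : Module.finrank F U < Module.finrank F W)
    (hex : 5 ≤ Module.finrank F U ∨ ∃ s : F, s ≠ 0 ∧ s * s ≠ 1) :
    siegelGroup Q ≤ M ∨ ∀ g ∈ M, h.Pure g := by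
  obtain ⟨a, ha⟩ := hmU
  obtain ⟨b, hb⟩ := hnW
  haveI : Nontrivial U := Module.nontrivial_of_finrank_pos (R := F) (by omega)
  haveI : Nontrivial W := Module.nontrivial_of_finrank_pos (R := F) (by omega)
  have hn : Module.finrank F U + 2 ≤ Module.finrank F W := by omega
  have h5 : 5 ≤ Module.finrank F W := by omega
  have hV : 5 ≤ Module.finrank F V := by rw [finrank_V h]; nlinarith
  refine (top_or_scal hG h5 h3 ⟨a, ha⟩ hex).imp_right fun hS => ?_
  obtain ⟨t, ht, hrefl⟩ := h.exists_refl hV ⟨b, hb⟩
  have hR : h.HasRefl M t := fun e he => by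
    obtain ⟨k, hk, ek⟩ := hrefl e he
    refine ⟨k, hG.tensW k hk ((2 / h.gW e e) • (h.gW e).smulRight e - 1) (fun u y => ?_), ek⟩
    rw [ek]
    congr 1
    simp only [LinearMap.sub_apply, LinearMap.smul_apply, LinearMap.smulRight_apply, smul_smul,
      Module.End.one_apply]
    congr 2
    ring
  refine fun g hg => all_pure hG h5 hS h3 hn ⟨a, ha⟩ ht hR ?_ hg
  by_cases h7 : 7 ≤ Module.finrank F W
  · exact Or.inl h7
  · exact Or.inr ⟨by omega, hex.resolve_left (by omega)⟩

end TData

end CfsgLib.TensorOO
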