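import Cfsg.Agent.Lib.OrthMax.TensorOO.Stab
import Cfsg.Agent.Lib.OrthMax.TensorSp.Perp

/-! Members meeting in as many dimensions as possible. -/

set_option autoImplicit false
set_option linter.unusedSectionVars false
set_option linter.unusedVariables false
set_option linter.unusedSimpArgs false

namespace CfsgLib.TensorOO

open QuadraticMap CfsgLib.Geometry CfsgLib.OrthMax
open CfsgLib.TensorSp (In)
open LinearMap (BilinForm)

variable {F V U W : Type*} [Field F] [Finite F] [AddCommGroup V] [Module F V] [AddCommGroup U] [Module F U]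
  [AddCommGroup W] [Module F W]
variable [FiniteDimensional F V] [FiniteDimensional F U] [FiniteDimensional F W]
variable {Q : QuadraticForm F V} {M : Subgroup (V ≃ₗ[F] V)}

namespace TData

variable (h : TData Q U W)

/-- A stray member, the image of `A w₀`, and an `A w`. -/
structure Pair (M : Subgroup (V ≃ₗ[F] V)) (g : V ≃ₗ[F] V) (w₀ w : W) : Prop where
  mem : g ∈ M
  np : ¬ h.Pure g
  w₀0 : w₀ ≠ 0
  w₀s : h.gW w₀ w₀ = 0
  w0 : w ≠ 0
  ws : h.gW w w = 0

/-- The meet of the member and `A w`. -/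
def meet (g : V ≃ₗ[F] V) (w₀ w : W) : Submodule F V := (h.A w₀).map g.toLinearMap ⊓ h.A w

/-- An upper bound for all meets. -/
def MeetBound (M : Subgroup (V ≃ₗ[F] V)) (k : ℕ) : Prop :=
  ∀ g w₀ w, h.Pair M g w₀ w → Module.finrank F (h.meet g w₀ w) ≤ k

variable {h} [Nontrivial U] [Nontrivial W]

theorem finrank_member (g : V ≃ₗ[F] V) {w₀ : W} (hw₀ : w₀ ≠ 0) :
    Module.finrank F ((h.A w₀).map g.toLinearMap : Submodule F V) = Module.finrank F U := by
  rw [LinearEquiv.finrank_map_eq, h.finrank_A hw₀]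

/-- A member and its image as a pair. -/
theorem Pair.of_moved {g k : V ≃ₗ[F] V} (hg : g ∈ M) (hk : k ∈ M) {w₀ : W} (hw₀0 : w₀ ≠ 0)
    (hw₀ : h.gW w₀ w₀ = 0)
    (hne : ((h.A w₀).map g.toLinearMap).map k.toLinearMap ≠ (h.A w₀).map g.toLinearMap)
    {v : V} (hv : v ∈ ((h.A w₀).map g.toLinearMap).map k.toLinearMap) (hv' : v ∈ (h.A w₀).map g.toLinearMap)
    (hv0 : v ≠ 0) : h.Pair M (g⁻¹ * k * g) w₀ w₀ ∧
      h.meet (g⁻¹ * k * g) w₀ w₀ =
        (((h.A w₀).map g.toLinearMap).map k.toLinearMap ⊓ (h.A w₀).map g.toLinearMap).map g.symm.toLinearMap := by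
  have hmeet : h.meet (g⁻¹ * k * g) w₀ w₀ =
      (((h.A w₀).map g.toLinearMap).map k.toLinearMap ⊓ (h.A w₀).map g.toLinearMap).map g.symm.toLinearMap := by
    rw [meet, Submodule.map_inf _ g.symm.injective, ← Submodule.map_comp, ← Submodule.map_comp,
      ← Submodule.map_comp g.toLinearMap g.symm.toLinearMap]
    congr 1
    rw [show g.symm.toLinearMap ∘ₗ g.toLinearMap = LinearMap.id from LinearMap.ext g.symm_apply_apply,
      Submodule.map_id]
  refine ⟨⟨mul_mem (mul_mem (inv_mem hg) hk) hg, ?_, hw₀0, hw₀, hw₀0, hw₀⟩, hmeet⟩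
  rintro ⟨lam, S, e⟩
  have hv1 : g.symm v ∈ h.meet (g⁻¹ * k * g) w₀ w₀ := by rw [hmeet]; exact Submodule.mem_map_of_mem ⟨hv, hv'⟩
  obtain ⟨⟨T, ⟨u, rfl⟩, hT⟩, hA⟩ := hv1
  rw [LinearMap.flip_apply, LinearEquiv.coe_coe, e] at hT
  have hne0 : lam u ≠ 0 := fun e0 => hv0 (by
    rw [e0, map_zero, LinearMap.zero_apply] at hT
    rw [← g.apply_symm_apply v, ← hT, map_zero])
  obtain ⟨s, hs⟩ := Submodule.mem_span_singleton.1 (h.tp_mem_A_iff hne0 (by rw [hT]; exact hA))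
  refine hne (Submodule.eq_of_le_of_finrank_le ?_ (by rw [LinearEquiv.finrank_map_eq _ ((h.A w₀).map g.toLinearMap)]))
  rintro _ ⟨_, ⟨T, ⟨p, rfl⟩, rfl⟩, rfl⟩
  refine ⟨s • h.tp (lam p) w₀, Submodule.smul_mem _ _ (h.tp_mem_A _ _), ?_⟩
  show g (s • h.tp (lam p) w₀) = k (g (h.tp p w₀))
  rw [← map_smul, hs, ← e, LinearEquiv.mul_apply, LinearEquiv.mul_apply]
  exact g.apply_symm_apply _

variable (hG : h.Gens M) (h5 : 5 ≤ Module.finrank F W) (hS : h.Scal M) (h3 : 3 ≤ Module.finrank F U)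
  (hn : Module.finrank F U + 2 ≤ Module.finrank F W)

include hG h5 hS h3 hn

/-- A short element never keeps a stray member. -/
theorem short_moves {g : V ≃ₗ[F] V} (hg : g ∈ M) (hnp : ¬ h.Pure g) {w₀ : W} (hw₀0 : w₀ ≠ 0)
    (hw₀ : h.gW w₀ w₀ = 0) {q a : W} (hq0 : q ≠ 0) (hq : h.gW q q = 0) (hqa : h.gW q a = 0)
    (han : a ∉ Submodule.span F {q}) {k : V ≃ₗ[F] V} (ek : ∀ T, k T = T + h.sh q a 1 T) :
    ((h.A w₀).map g.toLinearMap).map k.toLinearMap ≠ (h.A w₀).map g.toLinearMap := fun e =>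
  hnp (pure_of_short hG h5 hS h3 (by omega) hg hw₀0 hw₀ hq0 hq hqa han fun u => by
    have h1 : k (g (h.tp u w₀)) ∈ (h.A w₀).map g.toLinearMap :=
      e ▸ Submodule.mem_map_of_mem (Submodule.mem_map_of_mem (h.tp_mem_A u w₀))
    rw [ek] at h1
    exact (Submodule.add_mem_iff_right _ (Submodule.mem_map_of_mem (h.tp_mem_A u w₀))).1 h1)

/-- No vector of a maximal pair is orthogonal to its `A w`. -/
theorem perp_mem {k : ℕ} (hk1 : 1 ≤ k) (hB : h.MeetBound M k) {g : V ≃ₗ[F] V} {w₀ w : W} (hp : h.Pair M g w₀ w)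
    (hk : Module.finrank F (h.meet g w₀ w) = k) {v : V} (hv : v ∈ (h.A w₀).map g.toLinearMap)
    (hcv : h.c w v = 0) : v ∈ h.A w := by
  by_contra hvA
  set Z₀ := ((h.A w₀).map g.toLinearMap).comap (h.tp.flip w) with hZ₀
  have hZk : Module.finrank F Z₀ = k := by
    rw [← hk, (Submodule.equivMapOfInjective _ (h.tp_injective hp.w0) Z₀).finrank_eq, hZ₀, Submodule.map_comap_eq,
      meet, inf_comm]
    rfl
  obtain ⟨b, hb, hbw⟩ : ∃ b ∈ LinearMap.ker (h.gW w) ⊓ Z₀.comap (h.c.flip v), b ∉ Submodule.span F {w} :=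
    SetLike.not_le_iff_exists.1 fun hle => by
      have h1 := Submodule.finrank_mono hle
      rw [finrank_span_singleton hp.w0] at h1
      have h2 := Submodule.finrank_sup_add_finrank_inf_eq (LinearMap.ker (h.gW w)) (Z₀.comap (h.c.flip v))
      have h3' := Submodule.finrank_le (LinearMap.ker (h.gW w) ⊔ Z₀.comap (h.c.flip v))
      have h4 : Module.finrank F W ≤ Module.finrank F (Z₀.comap (h.c.flip v)) + (Module.finrank F U - k) := by
        have h5' := (Z₀.mkQ ∘ₗ h.c.flip v).finrank_range_add_finrank_ker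
        rw [LinearMap.ker_comp, Submodule.ker_mkQ] at h5'
        have h6 := Submodule.finrank_le (LinearMap.range (Z₀.mkQ ∘ₗ h.c.flip v))
        have h7 := Z₀.finrank_quotient_add_finrank
        omega
      have h8 := h.gN.finrank_ker hp.w0
      omega
  obtain ⟨hwb, hbZ⟩ := hb
  simp only [SetLike.mem_coe, LinearMap.mem_ker] at hwb
  obtain ⟨s, hs, es⟩ := in_sh hG hp.ws hwb
  set L := (h.A w₀).map g.toLinearMap with hL
  have hne := short_moves hG h5 hS h3 hn hp.mem hp.np hp.w₀0 hp.w₀s hp.w0 hp.ws hwb hbw es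
  have hsv : s v = v + h.tp (h.c b v) w := by rw [es, sh_apply]; simp [hcv]
  have hfix : ∀ T ∈ h.A w, s T = T := fun T hT => by
    obtain ⟨u, rfl⟩ := hT
    rw [es, LinearMap.flip_apply, sh_one_tp]
    simp [h.g_sym b w, hwb, hp.ws]
  have hle : h.meet g w₀ w ⊔ Submodule.span F {s v} ≤ L.map s.toLinearMap ⊓ L := by
    refine sup_le (fun T hT => ⟨⟨T, hT.1, hfix T hT.2⟩, hT.1⟩)
      ((Submodule.span_singleton_le_iff_mem _ _).2 ⟨Submodule.mem_map_of_mem hv, ?_⟩)
    rw [hsv]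
    exact L.add_mem hv hbZ
  have hsn : s v ∉ h.meet g w₀ w := fun e => hvA (by
    have h1 := e.2
    rw [hsv] at h1
    exact (Submodule.add_mem_iff_left _ (h.tp_mem_A _ w)).1 h1)
  have hsv0 : s v ≠ 0 := fun e => hsn (e ▸ zero_mem _)
  obtain ⟨hp', hm'⟩ := Pair.of_moved hp.mem hs hp.w₀0 hp.w₀s hne (v := s v)
    (Submodule.mem_map_of_mem hv) (by rw [hsv]; exact L.add_mem hv hbZ) hsv0
  have h1 := hB _ _ _ hp'
  rw [hm', LinearEquiv.finrank_map_eq, ← hL] at h1
  have h2 : h.meet g w₀ w < h.meet g w₀ w ⊔ Submodule.span F {s v} := lt_of_le_of_ne le_sup_left fun e =>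
    hsn (e ▸ Submodule.mem_sup_right (Submodule.mem_span_singleton_self _))
  have h3' := Submodule.finrank_lt_finrank_of_lt h2
  have h4 := Submodule.finrank_mono hle
  omega

/-- A maximal pair with a suitable vector is impossible. -/
theorem no_max {k : ℕ} (hk1 : 1 ≤ k) (hB : h.MeetBound M k) {g : V ≃ₗ[F] V} {w₀ w : W} (hp : h.Pair M g w₀ w)
    (hk : Module.finrank F (h.meet g w₀ w) = k)
    (hspec : 2 ≤ k ∨ Module.finrank F U + 3 ≤ Module.finrank F W ∨
      ∃ z, z ≠ 0 ∧ h.fU z z = 0 ∧ h.tp z w ∈ (h.A w₀).map g.toLinearMap) : False := by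
  set L := (h.A w₀).map g.toLinearMap with hL
  have hLm : Module.finrank F L = Module.finrank F U := finrank_member g hp.w₀0
  have hperp : ∀ v ∈ L, h.c w v = 0 → v ∈ h.A w := fun v hv hcv => perp_mem hG h5 hS h3 hn hk1 hB hp hk hv hcv
  have hLQ : ∀ S ∈ L, ∀ T ∈ L, polar Q S T = 0 := by
    rintro _ ⟨_, ⟨u, rfl⟩, rfl⟩ _ ⟨_, ⟨u', rfl⟩, rfl⟩
    show polar Q (g (h.tp u w₀)) (g (h.tp u' w₀)) = 0
    rw [orth_polar (hG.le hp.mem), h.pol, hp.w₀s, mul_zero]
  set U₁ := L.map (h.c w) with hU₁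
  have hU₁d : Module.finrank F U₁ + k = Module.finrank F U := by
    rw [← hLm, ← hk, hU₁, ← CfsgLib.TensorSp.finrank_map_inf_ker (h.c w) L,
      show L ⊓ LinearMap.ker (h.c w) = h.meet g w₀ w from le_antisymm (fun T hT => ⟨hT.1, hperp T hT.1 hT.2⟩)
        (fun T hT => ⟨hT.1, LinearMap.mem_ker.2 (h.c_A hp.ws hT.2)⟩)]
  -- the vector and the parameter
  obtain ⟨l, hl, hu, hcase⟩ : ∃ l ∈ L, h.c w l ≠ 0 ∧
      ((∀ T ∈ L, h.fU (h.c w l) (h.c w T) = 0) ∨ 4 ≤ Module.finrank F W + k - Module.finrank F U) := by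
    by_cases h4 : 4 ≤ Module.finrank F W + k - Module.finrank F U
    · obtain ⟨l, hl, hlA⟩ : ∃ l ∈ L, l ∉ h.meet g w₀ w := SetLike.not_le_iff_exists.1 fun hle => by
        have := Submodule.finrank_mono hle
        have hne : L ≠ h.A w := fun e => hp.np (pure_of_member hG h5 hS hp.mem hp.w₀0 hp.w₀s hp.w0 hp.ws
          fun u => e ▸ Submodule.mem_map_of_mem (h.tp_mem_A u w₀))
        have hlt : h.meet g w₀ w < L := lt_of_le_of_ne inf_le_left fun e => hne
          (Submodule.eq_of_le_of_finrank_le (e ▸ inf_le_right) (by rw [hLm, h.finrank_A hp.w0]))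
        have := Submodule.finrank_lt_finrank_of_lt hlt
        omega
      exact ⟨l, hl, fun e => hlA ⟨hl, hperp l hl e⟩, Or.inr h4⟩
    obtain ⟨z, hz0, hzz, hzL⟩ := (hspec.resolve_left (by omega)).resolve_left (by omega)
    have hk' : k = 1 := by omega
    have hle : U₁ ≤ LinearMap.ker (h.fU z) := by
      rintro _ ⟨T, hT, rfl⟩
      rw [LinearMap.mem_ker, h.pol_c]
      exact hLQ _ hzL _ hT
    have heq : U₁ = LinearMap.ker (h.fU z) := Submodule.eq_of_le_of_finrank_le hle (by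
      have := h.fN.finrank_ker hz0
      omega)
    obtain ⟨l, hl, hlz⟩ : z ∈ U₁ := heq ▸ LinearMap.mem_ker.2 hzz
    exact ⟨l, hl, by rw [hlz]; exact hz0, Or.inl fun T hT => by
      rw [hlz]; exact LinearMap.mem_ker.1 (hle (Submodule.mem_map_of_mem hT))⟩
  set u := h.c w l with hudef
  let φ : W →ₗ[F] V := h.tp.flip w ∘ₗ h.c.flip l - h.tp u
  have hX : ∀ a, h.sh w a 1 l = φ a - (h.gW a a / 2) • h.tp u w := fun a => by simp [φ, sh_apply, hudef]
  set S : Submodule F V := (L ⊓ h.A w) ⊔ Submodule.span F {l}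
  have hSL : S ≤ L := sup_le inf_le_left ((Submodule.span_singleton_le_iff_mem _ _).2 hl)
  have hSR : polarPerp Q L ≤ polarPerp Q S := fun T hT =>
    mem_polarPerp.2 fun s hs => mem_polarPerp.1 hT s (hSL hs)
  have hφS : ∀ a, h.gW w a = 0 → φ a ∈ polarPerp Q S := fun a ha => mem_polarPerp.2 fun s hs => by
    obtain ⟨z, hz, y, hy, rfl⟩ := Submodule.mem_sup.1 hs
    obtain ⟨x, rfl⟩ := hz.2
    obtain ⟨r, rfl⟩ := Submodule.mem_span_singleton.1 hy
    rw [polar_add_left, polar_smul_left', LinearMap.flip_apply, h.polar_tp,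
      show h.c w (φ a) = 0 by simp [φ, hp.ws, ha], map_zero, zero_add]
    simp only [φ, LinearMap.sub_apply, LinearMap.comp_apply, LinearMap.flip_apply, polar_sub_right, h.polar_tp',
      ← hudef, h.f_sym u, sub_self, mul_zero]
  have hSd : Module.finrank F S = k + 1 := by
    have hln : l ∉ L ⊓ h.A w := fun e => hu (h.c_A hp.ws e.2)
    have h1 := Submodule.finrank_sup_add_finrank_inf_eq (L ⊓ h.A w) (Submodule.span F {l})
    rw [show Module.finrank F (L ⊓ h.A w : Submodule F V) = k from hk,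
      finrank_span_singleton (fun e => hln (by rw [e]; exact zero_mem _) : l ≠ 0)] at h1
    have h2 : (L ⊓ h.A w) ⊓ Submodule.span F {l} = ⊥ := by
      refine (Submodule.eq_bot_iff _).2 fun T hT => ?_
      obtain ⟨r, rfl⟩ := Submodule.mem_span_singleton.1 hT.2
      by_contra hr
      exact hln ((Submodule.smul_mem_iff _ (fun e => hr (by rw [e, zero_smul]))).1 hT.1)
    rw [h2, finrank_bot] at h1
    exact h1
  set A₀ := LinearMap.ker (h.gW w) ⊓ (polarPerp Q L).comap φ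
  have hA₀ : Module.finrank F W + k ≤ Module.finrank F A₀ + Module.finrank F U := by
    have h2 := CfsgLib.TensorSp.finrank_map_inf_ker ((polarPerp Q L).mkQ ∘ₗ φ) (LinearMap.ker (h.gW w))
    rw [LinearMap.ker_comp, Submodule.ker_mkQ] at h2
    show _ ≤ Module.finrank F (LinearMap.ker (h.gW w) ⊓ (polarPerp Q L).comap φ : Submodule F W) + _
    have h3' : Module.finrank F ((LinearMap.ker (h.gW w)).map ((polarPerp Q L).mkQ ∘ₗ φ)) ≤
        Module.finrank F ((polarPerp Q S).map (polarPerp Q L).mkQ) := Submodule.finrank_mono (by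
      rintro _ ⟨a, ha, rfl⟩
      exact ⟨φ a, hφS a ha, rfl⟩)
    have h4 := CfsgLib.TensorSp.finrank_map_inf_ker (polarPerp Q L).mkQ (polarPerp Q S)
    rw [Submodule.ker_mkQ, inf_eq_right.2 hSR] at h4
    have h6 := finrank_polarPerp h.qnd L
    have h7 := finrank_polarPerp h.qnd S
    have h8 := h.gN.finrank_ker hp.w0
    omega
  obtain ⟨a, ha, han, hgood⟩ : ∃ a ∈ A₀, a ∉ Submodule.span F {w} ∧
      ((∀ T ∈ L, h.fU u (h.c w T) = 0) ∨ h.gW a a = 0) := by
    rcases hcase with h0 | h4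
    · obtain ⟨a, ha, han⟩ : ∃ a ∈ A₀, a ∉ Submodule.span F {w} := SetLike.not_le_iff_exists.1 fun hle => by
        have h1 := Submodule.finrank_mono hle
        rw [finrank_span_singleton hp.w0] at h1
        omega
      exact ⟨a, ha, han, Or.inl h0⟩
    · obtain ⟨w₁, hw₁, hww₁⟩ := h.gN.exists_partner hp.w0 hp.ws
      have h1 := Nice.finrank_ker_inf A₀ (h.gW w₁)
      obtain ⟨a, ha, ha0, haa⟩ := Nice.exists_iso_in h.gW (A₀ ⊓ LinearMap.ker (h.gW w₁)) (by omega)
      refine ⟨a, ha.1, fun hm => ha0 ?_, Or.inr haa⟩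
      obtain ⟨r, rfl⟩ := Submodule.mem_span_singleton.1 hm
      have h9 := LinearMap.mem_ker.1 ha.2
      rw [map_smul, h.g_sym w₁ w, hww₁, smul_eq_mul, mul_one] at h9
      rw [h9, zero_smul]
  obtain ⟨hwa, haL⟩ := ha
  simp only [SetLike.mem_coe, LinearMap.mem_ker] at hwa
  obtain ⟨s, hs, es⟩ := in_sh hG hp.ws hwa
  have hne := short_moves hG h5 hS h3 hn hp.mem hp.np hp.w₀0 hp.w₀s hp.w0 hp.ws hwa han es
  have hXL : h.sh w a 1 l ∉ L := fun hm => han (h.tp_mem_A_iff hu (by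
    have h1 := hperp _ hm (by simp [sh_apply, hp.ws, hwa])
    have h2 := (h.A w).sub_mem ((h.A w).sub_mem (h.tp_mem_A (h.c a l) w) h1)
      ((h.A w).smul_mem (h.gW a a / 2) (h.tp_mem_A u w))
    rwa [show h.tp (h.c a l) w - h.sh w a 1 l - (h.gW a a / 2) • h.tp u w = h.tp u a by
      rw [hX]; simp [φ]; abel] at h2))
  have hvperp : ∀ T ∈ L, polar Q T (s l) = 0 := fun T hT => by
    rw [es, polar_add_right, hLQ T hT l hl, zero_add, hX, polar_sub_right, polar_smul_right', h.polar_tp',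
      mem_polarPerp.1 haL T hT, zero_sub, neg_eq_zero]
    rcases hgood with h0 | h0
    · rw [h0 T hT, mul_zero]
    · rw [h0, zero_div, zero_mul]
  obtain ⟨v₀, hv₀, hv₀0⟩ := Submodule.exists_mem_ne_zero_of_ne_bot (p := h.meet g w₀ w) fun e => by
    rw [e, finrank_bot] at hk; omega
  have hfix : ∀ T ∈ h.A w, s T = T := fun T hT => by
    obtain ⟨x, rfl⟩ := hT
    rw [es, LinearMap.flip_apply, sh_one_tp]
    simp [h.g_sym a w, hwa, hp.ws]
  have hsub : h.meet g w₀ w ≤ L.map s.toLinearMap ⊓ L := fun T hT => ⟨⟨T, hT.1, hfix T hT.2⟩, hT.1⟩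
  obtain ⟨hp', hm'⟩ := Pair.of_moved hp.mem hs hp.w₀0 hp.w₀s hne (hsub hv₀).1 (hsub hv₀).2 hv₀0
  have hk' : Module.finrank F (h.meet (g⁻¹ * s * g) w₀ w₀) = k := by
    refine le_antisymm (hB _ _ _ hp') ?_
    rw [hm', LinearEquiv.finrank_map_eq, ← hk]
    exact Submodule.finrank_mono hsub
  have hvA := perp_mem hG h5 hS h3 hn hk1 hB hp' hk' (v := g.symm (s l)) (by
      obtain ⟨T, hT, hTl⟩ := hl
      exact ⟨T, hT, by rw [← hTl]; rfl⟩) (h.ext_f fun x => by
      rw [map_zero, h.pol_c, ← orth_polar (hG.le hp.mem), g.apply_symm_apply]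
      exact hvperp _ (Submodule.mem_map_of_mem (h.tp_mem_A x w₀)))
  obtain ⟨x, hx⟩ := hvA
  refine hXL ((Submodule.add_mem_iff_right _ hl).1 ?_)
  rw [← es, ← g.apply_symm_apply (s l), ← hx]
  exact Submodule.mem_map_of_mem (h.tp_mem_A x w₀)

/-- Pairs meet only trivially, or in points of a special kind. -/
theorem meet_bound {g : V ≃ₗ[F] V} {w₀ w : W} (hp : h.Pair M g w₀ w) (hne : h.meet g w₀ w ≠ ⊥)
    (hspec : Module.finrank F U + 3 ≤ Module.finrank F W ∨
      ∃ z, z ≠ 0 ∧ h.fU z z = 0 ∧ h.tp z w ∈ (h.A w₀).map g.toLinearMap) : False := by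
  classical
  set p : ℕ → Prop := fun k => ∃ g w₀ w, h.Pair M g w₀ w ∧ Module.finrank F (h.meet g w₀ w) = k
  set k := Nat.findGreatest p (Module.finrank F U)
  have hbd : ∀ g w₀ w, h.Pair M g w₀ w → Module.finrank F (h.meet g w₀ w) ≤ Module.finrank F U :=
    fun g w₀ w hp => (Submodule.finrank_mono inf_le_left).trans (finrank_member g hp.w₀0).le
  have hB : h.MeetBound M k := fun g w₀ w hp =>
    Nat.le_findGreatest (hbd g w₀ w hp) ⟨g, w₀, w, hp, rfl⟩
  have hk1 : 1 ≤ k := le_trans (Submodule.one_le_finrank_iff.2 hne) (hB _ _ _ hp)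
  by_cases hk2 : 2 ≤ k
  · obtain ⟨g', w₀', w', hp', hk'⟩ : p k :=
      Nat.findGreatest_spec (hbd _ _ _ hp) (show p _ from ⟨g, w₀, w, hp, rfl⟩)
    exact no_max hG h5 hS h3 hn hk1 hB hp' hk' (Or.inl hk2)
  · exact no_max hG h5 hS h3 hn hk1 hB hp
      (le_antisymm (hB _ _ _ hp) (by have := Submodule.one_le_finrank_iff.2 hne; omega)) (Or.inr hspec)

/-- An element moving a stray member and keeping one of its points is impossible. -/
theorem no_move {g k : V ≃ₗ[F] V} (hg : g ∈ M) (hk : k ∈ M) {w₀ : W} (hw₀0 : w₀ ≠ 0) (hw₀ : h.gW w₀ w₀ = 0)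
    (hne : ((h.A w₀).map g.toLinearMap).map k.toLinearMap ≠ (h.A w₀).map g.toLinearMap) {z : U} (hz : z ≠ 0)
    (hkz : k (g (h.tp z w₀)) ∈ Submodule.span F {g (h.tp z w₀)})
    (hspec : Module.finrank F U + 3 ≤ Module.finrank F W ∨ h.fU z z = 0) : False := by
  set v := g (h.tp z w₀) with hvdef
  have hv0 : v ≠ 0 := fun e => h.tp_ne_zero hz hw₀0 (g.map_eq_zero_iff.1 e)
  obtain ⟨r, hr⟩ := Submodule.mem_span_singleton.1 hkz
  have hr0 : r ≠ 0 := fun e => hv0 (k.map_eq_zero_iff.1 (by rw [← hr, e, zero_smul]))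
  have hv : v ∈ (h.A w₀).map g.toLinearMap := Submodule.mem_map_of_mem (h.tp_mem_A z w₀)
  have hv' : v ∈ ((h.A w₀).map g.toLinearMap).map k.toLinearMap :=
    ⟨r⁻¹ • v, Submodule.smul_mem _ _ hv, by
      rw [LinearEquiv.coe_coe, map_smul, ← hr, smul_smul, inv_mul_cancel₀ hr0, one_smul]⟩
  obtain ⟨hp, hm⟩ := Pair.of_moved hg hk hw₀0 hw₀ hne hv' hv hv0
  have hin : h.tp z w₀ ∈ h.meet (g⁻¹ * k * g) w₀ w₀ := by
    rw [hm]
    exact ⟨v, ⟨hv', hv⟩, g.symm_apply_apply _⟩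
  refine meet_bound hG h5 hS h3 hn hp (fun e => h.tp_ne_zero hz hw₀0 ((Submodule.mem_bot F).1 (e ▸ hin))) ?_
  exact hspec.imp id fun hzz => ⟨z, hz, hzz, hin.1⟩

/-- With room to spare every element keeps the decomposition. -/
theorem all_pure_wide (hwide : Module.finrank F U + 3 ≤ Module.finrank F W) {g : V ≃ₗ[F] V} (hg : g ∈ M) :
    h.Pure g := by
  by_contra hnp
  obtain ⟨w₀, -, hw₀0, hw₀⟩ := Nice.exists_iso_in h.gW (⊤ : Submodule F W) (by rw [finrank_top]; omega)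
  obtain ⟨z, hz⟩ := exists_ne (0 : U)
  set v := g (h.tp z w₀)
  have hK : 3 ≤ Module.finrank F (LinearMap.ker (h.c.flip v)) := by
    have h1 := (h.c.flip v).finrank_range_add_finrank_ker
    have h2 := Submodule.finrank_le (LinearMap.range (h.c.flip v))
    omega
  obtain ⟨q, hq, hq0, hqq⟩ := Nice.exists_iso_in h.gW (LinearMap.ker (h.c.flip v)) hK
  obtain ⟨a, ⟨hav, hqa⟩, han⟩ : ∃ a ∈ LinearMap.ker (h.c.flip v) ⊓ LinearMap.ker (h.gW q), a ∉ Submodule.span F {q} :=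
    SetLike.not_le_iff_exists.1 fun hle => by
      have h1 := Submodule.finrank_mono hle
      rw [finrank_span_singleton hq0] at h1
      have h2 := Nice.finrank_ker_inf (LinearMap.ker (h.c.flip v)) (h.gW q)
      omega
  simp only [SetLike.mem_coe, LinearMap.mem_ker, LinearMap.flip_apply] at hav hqa hq
  obtain ⟨k, hk, ek⟩ := in_sh hG hqq hqa
  refine no_move hG h5 hS h3 hn hg hk hw₀0 hw₀ (short_moves hG h5 hS h3 hn hg hnp hw₀0 hw₀ hq0 hqq hqa han ek) hz ?_
    (Or.inl hwide)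
  rw [ek, show h.sh q a 1 v = 0 by simp [sh_apply, hav, hq], add_zero]
  exact Submodule.mem_span_singleton_self _

end TData

end CfsgLib.TensorOO
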