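import Cfsg.Agent.Lib.OrthMax.TensorOO.Core

/-! Elements of a group containing both orthogonal factors. -/

set_option autoImplicit false
set_option linter.unusedSectionVars false
set_option linter.unusedVariables false
set_option linter.unusedSimpArgs false

namespace CfsgLib.TensorOO

open QuadraticMap CfsgLib.Geometry CfsgLib.OrthMax
open CfsgLib.TensorSp (In)
open LinearMap (BilinForm)

variable {F V U W : Type*} [Field F] [AddCommGroup V] [Module F V] [AddCommGroup U] [Module F U]
  [AddCommGroup W] [Module F W]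
variable [FiniteDimensional F V] [FiniteDimensional F U] [FiniteDimensional F W]
variable {Q : QuadraticForm F V} {M : Subgroup (V ≃ₗ[F] V)}

/-- The commutator of two members. -/
theorem in_comm {X Y : Module.End F V} (hX : In M X) (hY : In M Y) (h1 : X * Y * X = 0) (h2 : Y * X * X = 0)
    (h3 : (X * Y - Y * X) * Y = 0) : In M (X * Y - Y * X) := by
  obtain ⟨g, hg, eg⟩ := hX
  obtain ⟨k, hk, ek⟩ := hY
  have e1 : ∀ T, X (Y (X T)) = 0 := fun T => LinearMap.congr_fun h1 T
  have e2 : ∀ T, Y (X (X T)) = 0 := fun T => LinearMap.congr_fun h2 T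
  have e3 : ∀ T, X (Y (Y T)) - Y (X (Y T)) = 0 := fun T => LinearMap.congr_fun h3 T
  refine ⟨g * k * g⁻¹ * k⁻¹, mul_mem (mul_mem (mul_mem hg hk) (inv_mem hg)) (inv_mem hk), fun T => ?_⟩
  obtain ⟨S, rfl⟩ := k.surjective T
  obtain ⟨R, rfl⟩ := g.surjective S
  show g (k (g.symm (k.symm (k (g R))))) = _
  rw [k.symm_apply_apply, g.symm_apply_apply, ek, map_add, eg (Y R), ek (g R), eg R]
  simp only [LinearMap.sub_apply, Module.End.mul_apply, map_add, LinearMap.add_apply, e1, e2, map_zero]
  have e4 : X (Y (Y (X R))) = 0 := by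
    have := e3 (X R)
    rwa [e1, map_zero, sub_zero] at this
  rw [e4, e3]
  abel

namespace TData

variable (h : TData Q U W)

/-- The rank one endomorphism. -/
def rk (x r : U) : Module.End F U := (h.fU r).smulRight x

theorem rk_apply (x r u : U) : h.rk x r u = h.fU r u • x := rfl

theorem rk_mul (x r y s : U) : h.rk x r * h.rk y s = h.fU r y • h.rk x s := LinearMap.ext fun u => by
  simp [rk_apply, smul_smul, mul_comm]

theorem adj_rk (x r : U) : h.adj (h.rk x r) = h.rk r x := h.adj_eq fun u y => by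
  simp only [rk_apply, map_smul, LinearMap.smul_apply, smul_eq_mul, h.f_sym u x]
  ring

/-- `M` induces `ρ` on the second factor. -/
def Act (M : Subgroup (V ≃ₗ[F] V)) (ρ : Module.End F W) : Prop :=
  ∃ k ∈ M, ∀ u x, k (h.tp u x) = h.tp u (ρ x)

/-- The group is orthogonal and contains what the Siegel group has of the two factors. -/
structure Gens (M : Subgroup (V ≃ₗ[F] V)) : Prop where
  le : M ≤ orth Q
  tensW : ∀ k ∈ siegelGroup Q, ∀ ρ : Module.End F W, (∀ u x, k (h.tp u x) = h.tp u (ρ x)) → k ∈ M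
  tensU : ∀ k ∈ siegelGroup Q, ∀ γ : Module.End F U, (∀ u x, k (h.tp u x) = h.tp (γ u) x) → k ∈ M

/-- The short element of the second factor. -/
noncomputable def shW (w a : W) : Module.End F W :=
  1 + (h.gW a).smulRight w - (h.gW w).smulRight a - (h.gW a a / 2) • (h.gW w).smulRight w

theorem shW_apply (w a x : W) : h.shW w a x =
    x + h.gW a x • w - h.gW w x • a - (h.gW a a / 2 * h.gW w x) • w := by
  simp [shW, smul_smul]

/-- The short elements of the second factor lie in the Siegel group. -/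
theorem sh_siegel {w a : W} (hw : h.gW w w = 0) (ha : h.gW w a = 0) :
    In (siegelGroup Q) (h.sh w a 1) := by
  classical
  have h2 := h.h2
  haveI := invertibleOfNonzero h2
  obtain ⟨b, hb⟩ := LinearMap.BilinForm.exists_orthogonal_basis (B := h.fU) ⟨h.fN.sym⟩
  have hd : ∀ i, h.fU (b i) (b i) ≠ 0 := fun i => LinearMap.IsOrthoᵢ.not_isOrtho_basis_self_of_separatingLeft hb h.fN.nd.1 i
  have horth : ∀ i j, i ≠ j → h.fU (b i) (b j) = 0 := fun i j hij => hb hij
  let D : Fin (Module.finrank F U) → Module.End F U := fun i => (h.fU (b i) (b i))⁻¹ • h.rk (b i) (b i)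
  have hadj : ∀ i, h.adj (D i) = D i := fun i => by simp [D, adj_rk]
  have hDD : ∀ i j, i ≠ j → D i * D j = 0 := fun i j hij => by simp [D, rk_mul, horth i j hij]
  have hsum : ∑ i, D i = 1 := b.ext fun j => by
    rw [LinearMap.sum_apply, Finset.sum_eq_single j]
    · simp [D, rk_apply, smul_smul, inv_mul_cancel₀ (hd j)]
    · intro i _ hij
      simp [D, rk_apply, horth i j hij]
    · simp
  have key : ∀ S : Finset (Fin (Module.finrank F U)), In (siegelGroup Q) (h.sh w a (∑ i ∈ S, D i)) := by
    intro S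
    induction S using Finset.induction_on with
    | empty =>
      rw [Finset.sum_empty, show h.sh w a 0 = 0 from LinearMap.ext fun T => by simp [sh_apply]]
      exact In.zero _
    | insert i S hi ih =>
      have hi' : In (siegelGroup Q) (h.sh w a (D i)) := by
        have hp : polar Q (h.tp (b i) w) ((-(h.fU (b i) (b i))⁻¹) • h.tp (b i) a) = 0 := by
          rw [polar_smul_right', h.pol, ha, mul_zero, mul_zero]
        refine ⟨_, siegel_mem _ _ (h.Q_tp_zero (b i) hw) hp, fun T => ?_⟩
        have hQa : Q (h.tp (b i) a) = h.fU (b i) (b i) * h.gW a a / 2 := by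
          rw [← h.Q_tp, mul_div_cancel_left₀ _ h2]
        rw [siegel_apply, polar_smul_right', h.polar_tp', h.polar_tp', CfsgLib.Geometry.map_smul', hQa,
          sh_apply, hadj]
        simp only [D, LinearMap.smul_apply, rk_apply, map_smul, LinearMap.smul_apply, smul_smul, smul_eq_mul]
        match_scalars <;> field_simp [hd i] <;> ring
      have hcross : ∀ j ∈ S, D i * D j = 0 ∧ D j * D i = 0 := fun j hj =>
        ⟨hDD i j fun e => hi (e ▸ hj), hDD j i fun e => hi (e ▸ hj)⟩
      have h1 : D i * ∑ j ∈ S, D j = 0 := by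
        rw [Finset.mul_sum]; exact Finset.sum_eq_zero fun j hj => (hcross j hj).1
      have h1' : (∑ j ∈ S, D j) * D i = 0 := by
        rw [Finset.sum_mul]; exact Finset.sum_eq_zero fun j hj => (hcross j hj).2
      have hS : h.adj (∑ j ∈ S, D j) = ∑ j ∈ S, D j := h.adj_eq fun u x => by
        simp only [LinearMap.sum_apply, map_sum]
        exact Finset.sum_congr rfl fun j _ => by rw [← h.adj_spec, hadj]
      have := hi'.add ih (LinearMap.ext fun T => by
        simp only [Module.End.mul_apply, sh_apply, map_sub, map_smul, c_tp, hw, ha, h.g_sym a w, hadj, hS,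
          LinearMap.zero_apply, zero_smul, map_zero, smul_zero, zero_sub, sub_zero, neg_zero]
        have e : ∀ u, D i ((∑ j ∈ S, D j) u) = 0 := fun u => LinearMap.congr_fun h1 u
        simp only [e, map_zero, smul_zero, zero_sub, sub_zero, neg_zero, LinearMap.zero_apply])
      rw [Finset.sum_insert hi]
      refine Eq.subst (motive := fun X => In (siegelGroup Q) X) (LinearMap.ext fun T => ?_) this
      have e : ∀ u, D i ((∑ j ∈ S, D j) u) = 0 := fun u => LinearMap.congr_fun h1 u
      have e' : ∀ u, (∑ j ∈ S, D j) (D i u) = 0 := fun u => LinearMap.congr_fun h1' u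
      simp only [LinearMap.add_apply, sh_apply, adj_add, hadj, hS, map_add, e, e', map_zero, LinearMap.zero_apply,
        add_zero, zero_add, smul_add]
      abel
  have := key Finset.univ
  rwa [hsum] at this

variable {h}
variable (hG : h.Gens M)

include hG

theorem Gens.swap : h.swap.Gens M :=
  ⟨hG.le, fun k hk ρ e => hG.tensU k hk ρ fun u x => e x u, fun k hk γ e => hG.tensW k hk γ fun u x => e x u⟩

/-- The short elements of the second factor. -/
theorem in_sh {w a : W} (hw : h.gW w w = 0) (ha : h.gW w a = 0) : In M (h.sh w a 1) := by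
  obtain ⟨k, hk, ek⟩ := h.sh_siegel hw ha
  refine ⟨k, hG.tensW k hk (h.shW w a) fun u x => ?_, ek⟩
  rw [ek, sh_one_tp, shW_apply]
  simp only [map_add, map_sub]
  abel

theorem act_sh {w a : W} (hw : h.gW w w = 0) (ha : h.gW w a = 0) : h.Act M (h.shW w a) := by
  obtain ⟨k, hk, ek⟩ := in_sh hG hw ha
  refine ⟨k, hk, fun u x => ?_⟩
  rw [ek, sh_one_tp, shW_apply]
  simp only [map_add, map_sub]
  abel

omit hG in
theorem c_act (hM : M ≤ orth Q) {ρ : Module.End F W} {k : V ≃ₗ[F] V} (hk : k ∈ M)
    (ek : ∀ u x, k (h.tp u x) = h.tp u (ρ x)) (b : W) (T : V) : h.c (ρ b) (k T) = h.c b T :=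
  h.ext_f fun u => by rw [h.pol_c, h.pol_c, ← ek, orth_polar (hM hk)]

omit hG in
theorem P_act (hM : M ≤ orth Q) {ρ : Module.End F W} {k : V ≃ₗ[F] V} (hk : k ∈ M)
    (ek : ∀ u x, k (h.tp u x) = h.tp u (ρ x)) (a b : W) (D : Module.End F U) (T : V) :
    k (h.P a b D T) = h.P (ρ a) (ρ b) D (k T) := by
  rw [P_apply, P_apply, ek, c_act hM hk ek]

omit hG in
theorem act_isom [Nontrivial U] (hM : M ≤ orth Q) {ρ : Module.End F W} (hρ : h.Act M ρ) (x y : W) :
    h.gW (ρ x) (ρ y) = h.gW x y := by
  obtain ⟨k, hk, ek⟩ := hρ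
  obtain ⟨u, hu⟩ := exists_ne (0 : U)
  obtain ⟨u', hu'⟩ := h.fN.exists_one hu
  have e := orth_polar (hM hk) (h.tp u' x) (h.tp u y)
  rw [ek, ek, h.pol, h.pol, hu', one_mul, one_mul] at e
  exact e

omit hG in
theorem sh_act [Nontrivial U] (hM : M ≤ orth Q) {ρ : Module.End F W} (hρ : h.Act M ρ) {w a : W} {D : Module.End F U}
    (hX : In M (h.sh w a D)) : In M (h.sh (ρ w) (ρ a) D) := by
  have e := act_isom hM hρ
  obtain ⟨k, hk, ek⟩ := hρ
  refine hX.conj hk fun T => ?_
  simp only [sh, LinearMap.sub_apply, LinearMap.smul_apply, map_sub, map_smul, P_act hM hk ek, e]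

omit hG in
theorem c_actU [Nontrivial W] (hM : M ≤ orth Q) {γ : Module.End F U} {k : V ≃ₗ[F] V} (hk : k ∈ M)
    (ek : ∀ u x, k (h.tp u x) = h.tp (γ u) x) (b : W) (T : V) : h.c b (k T) = γ (h.c b T) := by
  have hp : ∀ x y, h.fU (γ x) (γ y) = h.fU x y :=
    act_isom (h := h.swap) hM ⟨k, hk, fun u x => ek x u⟩
  have hi : Function.Injective γ := (injective_iff_map_eq_zero _).2 fun x e => h.fN.nd.1 x fun y => by
    rw [← hp x y, e, map_zero, LinearMap.zero_apply]
  exact h.ext_f fun u => by
    obtain ⟨v, rfl⟩ := LinearMap.injective_iff_surjective.1 hi u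
    rw [hp, h.pol_c, h.pol_c, ← orth_polar (hM hk) (h.tp v b) T, ek]

end TData

end CfsgLib.TensorOO
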