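import Cfsg.Agent.Lib.OrthMax.TensorOO.Radical

/-! An element keeping one `A w` keeps the tensor decomposition. -/

set_option autoImplicit false
set_option linter.unusedSectionVars false
set_option linter.unusedVariables false
set_option linter.unusedSimpArgs false

namespace CfsgLib.TensorOO

open QuadraticMap CfsgLib.Geometry CfsgLib.OrthMax
open CfsgLib.TensorSp (In)
open LinearMap (BilinForm)

variable {F V U W : Type*} [Field F] [Finite F] [AddCommGroup V] [Module F V] [AddCommGroup U] [Module F U]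
  [AddCommGroup W] [Module F W]
variable [FiniteDimensional F V] [FiniteDimensional F U] [FiniteDimensional F W]
variable {Q : QuadraticForm F V} {M : Subgroup (V ≃ₗ[F] V)}

namespace TData

variable (h : TData Q U W)

/-- The map is a product of maps of the two factors. -/
def Pure (g : V ≃ₗ[F] V) : Prop :=
  ∃ (lam : Module.End F U) (S : Module.End F W), ∀ u y, g (h.tp u y) = h.tp (lam u) (S y)

variable {h} [Nontrivial U] [Nontrivial W]

theorem Pure.bij {g : V ≃ₗ[F] V} {lam : Module.End F U} {S : Module.End F W}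
    (e : ∀ u y, g (h.tp u y) = h.tp (lam u) (S y)) : Function.Bijective lam ∧ Function.Bijective S := by
  obtain ⟨u₀, hu₀⟩ := exists_ne (0 : U)
  obtain ⟨y₀, hy₀⟩ := exists_ne (0 : W)
  have h1 : Function.Injective lam := (injective_iff_map_eq_zero _).2 fun u hu => by_contra fun hne =>
    h.tp_ne_zero hne hy₀ (g.injective (by rw [e, hu, map_zero, map_zero, LinearMap.zero_apply]))
  have h2 : Function.Injective S := (injective_iff_map_eq_zero _).2 fun y hy => by_contra fun hne =>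
    h.tp_ne_zero hu₀ hne (g.injective (by rw [e, hy, map_zero, map_zero]))
  exact ⟨⟨h1, LinearMap.injective_iff_surjective.1 h1⟩, ⟨h2, LinearMap.injective_iff_surjective.1 h2⟩⟩

theorem Pure.symm {g : V ≃ₗ[F] V} (hg : h.Pure g) : h.Pure g.symm := by
  obtain ⟨lam, S, e⟩ := hg
  obtain ⟨b1, b2⟩ := Pure.bij e
  refine ⟨(LinearEquiv.ofBijective lam b1).symm.toLinearMap, (LinearEquiv.ofBijective S b2).symm.toLinearMap,
    fun u y => ?_⟩
  obtain ⟨p, rfl⟩ := b1.2 u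
  obtain ⟨q, rfl⟩ := b2.2 y
  rw [← e, g.symm_apply_apply, LinearEquiv.coe_coe, LinearEquiv.coe_coe]
  congr 1
  · exact congrArg _ ((LinearEquiv.ofBijective lam b1).symm_apply_apply p).symm
  · exact ((LinearEquiv.ofBijective S b2).symm_apply_apply q).symm

/-- Contraction of the image of a pure tensor. -/
theorem exists_sigma (g : V ≃ₗ[F] V) (a₀ u₀ : U) :
    ∃ σ : Module.End F W, ∀ y x, h.gW (σ y) x = h.fU a₀ (h.c x (g (h.tp u₀ y))) := by
  let Λ : W →ₗ[F] Module.Dual F W :=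
    LinearMap.mk₂ F (fun y x => h.fU a₀ (h.c x (g (h.tp u₀ y))))
      (fun y y' x => by simp) (fun s y x => by simp) (fun y x x' => by simp) (fun s y x => by simp)
  refine ⟨(h.gW.toDual h.gN.nd).symm.toLinearMap ∘ₗ Λ, fun y x => ?_⟩
  show h.gW _ x = _
  exact LinearMap.BilinForm.apply_toDual_symm_apply (hB := h.gN.nd) (Λ y) x

variable (hG : h.Gens M) (h5 : 5 ≤ Module.finrank F W) (hS : h.Scal M)

include hG h5 hS

/-- The element is a product on the orthogonal of the vector. -/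
theorem pure_on_perp {g : V ≃ₗ[F] V} (hg : g ∈ M) {w₀ w : W} (hw₀0 : w₀ ≠ 0) (hw₀ : h.gW w₀ w₀ = 0) (hw0 : w ≠ 0)
    (hw : h.gW w w = 0) (hmap : ∀ u, g (h.tp u w₀) ∈ h.A w) :
    ∃ lam : U ≃ₗ[F] U, ∀ a₀ u₀, h.fU a₀ (lam u₀) = 1 → ∀ σ : Module.End F W,
      (∀ y x, h.gW (σ y) x = h.fU a₀ (h.c x (g (h.tp u₀ y)))) →
        ∀ u y, h.gW w₀ y = 0 → g (h.tp u y) = h.tp (lam u) (σ y) := by
  have hgo := hG.le hg
  obtain ⟨w', hw', hww'⟩ := h.gN.exists_partner hw0 hw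
  have hw'w : h.gW w' w = 1 := by rw [h.g_sym, hww']
  let lam' : Module.End F U := h.c w' ∘ₗ g.toLinearMap ∘ₗ h.tp.flip w₀
  have hl : ∀ u, g (h.tp u w₀) = h.tp (lam' u) w := fun u => by
    obtain ⟨p, hp⟩ := hmap u
    rw [LinearMap.flip_apply] at hp
    simp only [lam', LinearMap.comp_apply, LinearEquiv.coe_coe, LinearMap.flip_apply, ← hp, h.c_tp, hw'w, one_smul]
  have hinj : Function.Injective lam' := (injective_iff_map_eq_zero _).2 fun u hu => by_contra fun hne =>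
    h.tp_ne_zero hne hw₀0 (g.injective (by rw [hl, hu, map_zero, map_zero, LinearMap.zero_apply]))
  let lam : U ≃ₗ[F] U := LinearEquiv.ofBijective lam' ⟨hinj, LinearMap.injective_iff_surjective.1 hinj⟩
  have hl : ∀ u, g (h.tp u w₀) = h.tp (lam u) w := hl
  refine ⟨lam, fun a₀ u₀ ha₀ σ hσ => ?_⟩
  have hgs : ∀ p, g.symm (h.tp p w) = h.tp (lam.symm p) w₀ := fun p => by
    rw [LinearEquiv.symm_apply_eq, hl, lam.apply_symm_apply]
  have hzero : ∀ S, h.c w (g S) = 0 ↔ h.c w₀ S = 0 := fun S => by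
    have e : ∀ x, h.fU (lam x) (h.c w (g S)) = h.fU x (h.c w₀ S) := fun x => by
      rw [h.pol_c, h.pol_c, ← hl, orth_polar hgo]
    constructor <;> intro hz <;> refine h.ext_f fun x => ?_
    · rw [← e, hz, map_zero, map_zero]
    · obtain ⟨p, rfl⟩ := lam.surjective x
      rw [e, hz, map_zero, map_zero]
  have hy0 : ∀ u y, h.gW w₀ y = 0 → h.c w (g (h.tp u y)) = 0 := fun u y hy => by
    rw [hzero, h.c_tp, hy, zero_smul]
  have hscal : ∀ x, h.gW w x = 0 → ∃ b, ∀ u y, h.gW w₀ y = 0 → h.c x (g (h.tp u y)) = h.gW b y • lam u := by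
    intro x hx
    let X : Module.End F V := g.symm.toLinearMap ∘ₗ h.sh w x 1 ∘ₗ g.toLinearMap
    have hX : h.Rad M w₀ X := by
      refine ⟨(in_sh hG hw hx).conj (inv_mem hg) fun T => ?_, fun u => ?_, fun u v hv => ?_, fun T => ?_⟩
      · simp only [X, LinearMap.comp_apply, LinearEquiv.coe_coe]
        rw [show g ((g⁻¹ : V ≃ₗ[F] V) T) = T from g.apply_symm_apply T]
        rfl
      · simp [X, hl, sh_one_tp, hw, hx, h.g_sym x w]
      · simp only [X, LinearMap.comp_apply, LinearEquiv.coe_coe, sh_apply,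
          hy0 u v (by rw [h.g_sym, hv]), map_zero, LinearMap.zero_apply, smul_zero, sub_zero, hgs]
        exact h.tp_mem_A _ _
      · simp only [X, LinearMap.comp_apply, LinearEquiv.coe_coe]
        rw [← hzero, g.apply_symm_apply]
        simp [sh_apply, hw, hx]
    obtain ⟨b, hb, hXe⟩ := hX.eq_sh hG h5 hS hw₀0 hw₀
    refine ⟨b, fun u y hy => h.tp_injective hw0 ?_⟩
    have e := congrArg g (LinearMap.congr_fun hXe (h.tp u y))
    simp only [X, LinearMap.comp_apply, LinearEquiv.coe_coe, g.apply_symm_apply] at e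
    rw [sh_one_tp, hy, zero_smul, mul_zero, zero_smul, sub_zero, sub_zero, map_smul, map_smul, hl] at e
    simp only [sh_apply, hy0 u y hy, map_zero, LinearMap.zero_apply, smul_zero, sub_zero,
      Module.End.one_apply] at e
    simpa using e
  have hcx : ∀ x, h.gW w x = 0 → ∀ u y, h.gW w₀ y = 0 → h.c x (g (h.tp u y)) = h.gW x (σ y) • lam u := by
    intro x hx u y hy
    obtain ⟨b, hb⟩ := hscal x hx
    rw [h.g_sym x, hσ, hb u₀ y hy, map_smul, ha₀, smul_eq_mul, mul_one, hb u y hy]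
  let Φ : U → W →ₗ[F] V := fun u => g.toLinearMap ∘ₗ h.tp u - h.tp (lam u) ∘ₗ σ
  have hΦA : ∀ u y, h.gW w₀ y = 0 → Φ u y ∈ h.A w := fun u y hy => h.mem_A_of_c hw0 fun x hx => by
    simp [Φ, hcx x (by rw [h.g_sym, hx]) u y hy]
  have hσw : ∀ y, h.gW w₀ y = 0 → h.gW w (σ y) = 0 := fun y hy => by
    rw [h.g_sym, hσ, hy0 u₀ y hy, map_zero]
  have hiso : ∀ u u' y y', h.gW w₀ y = 0 → h.gW w₀ y' = 0 →
      h.fU (lam u) (lam u') * h.gW (σ y) (σ y') = h.fU u u' * h.gW y y' := fun u u' y y' hy hy' => by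
    rw [← h.pol, ← h.pol, ← orth_polar hgo (h.tp u y)]
    have e : ∀ u y, g (h.tp u y) = h.tp (lam u) (σ y) + Φ u y := fun u y => by simp [Φ]
    obtain ⟨p, hp⟩ := hΦA u y hy
    obtain ⟨q, hq⟩ := hΦA u' y' hy'
    rw [LinearMap.flip_apply] at hp hq
    rw [e u y, e u' y', ← hp, ← hq, polar_add_left, polar_add_right, polar_add_right, h.pol p, h.pol (lam u) q,
      h.pol p, h.g_sym (σ y) w, hσw y hy, hσw y' hy', hw]
    ring
  obtain ⟨e₀, he₀⟩ := h.fN.exists_aniso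
  obtain ⟨y₀, hy₀, hy₀'⟩ := h.gN.exists_aniso_in (LinearMap.ker (h.gW w₀))
    (by have := h.gN.finrank_ker hw₀0; omega)
  rw [LinearMap.mem_ker] at hy₀
  have hlne : h.fU (lam e₀) (lam e₀) ≠ 0 := fun e => by
    have := hiso e₀ e₀ y₀ y₀ hy₀ hy₀
    rw [e, zero_mul] at this
    exact mul_ne_zero he₀ hy₀' this.symm
  set κ := h.fU e₀ e₀ / h.fU (lam e₀) (lam e₀) with hκ
  have hκ0 : κ ≠ 0 := div_ne_zero he₀ hlne
  have hκe : ∀ y y', h.gW w₀ y = 0 → h.gW w₀ y' = 0 → h.gW (σ y) (σ y') = κ * h.gW y y' := fun y y' hy hy' => by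
    have := hiso e₀ e₀ y y' hy hy'
    rw [hκ]
    field_simp
    linear_combination this
  intro u y hy
  have key : y ∈ LinearMap.ker (Φ u) := h.gN.mem_of_iso h5 hw₀0 hw₀ _ (fun v hwv hvv => ?_) hy
  · simpa [Φ, sub_eq_zero] using key
  rw [LinearMap.mem_ker]
  -- the error term is a scalar multiple
  suffices hs : ∃ s : F, ∀ u, Φ u v = s • h.tp (lam u) w by
    obtain ⟨s, hs⟩ := hs
    have e : s = 0 := by
      have := congrArg (fun T => h.fU a₀ (h.c w' T)) (hs u₀)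
      simpa [Φ, ← hσ, ha₀, hw'w, h.g_sym w'] using this.symm
    rw [hs, e, zero_smul]
  by_cases hm : v ∈ Submodule.span F {w₀}
  · obtain ⟨s, rfl⟩ := Submodule.mem_span_singleton.1 hm
    obtain ⟨t, ht⟩ : ∃ t : F, σ (s • w₀) = t • w := by
      obtain ⟨t, ht⟩ := Submodule.mem_span_singleton.1 (h.gN.mem_span_of_perp (w := w) (v := σ (s • w₀)) fun x hx => by
        rw [h.g_sym, hσ]
        simp [hl, hx])
      exact ⟨t, ht.symm⟩
    refine ⟨s - t, fun u => ?_⟩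
    show g (h.tp u (s • w₀)) - h.tp (lam u) (σ (s • w₀)) = _
    rw [ht, map_smul, map_smul, hl, map_smul, sub_smul]
  obtain ⟨a, hwa, hva, haa⟩ := h.gN.exists_aniso_perp_two h5 w₀ v
  obtain ⟨k, hk, ek⟩ := act_sh hG hvv hva
  have hσv : h.gW (σ v) (σ v) = 0 := by rw [hκe v v hwv hwv, hvv, mul_zero]
  have hσva : h.gW (σ v) (κ⁻¹ • σ a) = 0 := by rw [map_smul, hκe v a hwv hwa, hva, mul_zero, smul_zero]
  obtain ⟨l, hlM, el⟩ := act_sh hG hσv hσva
  have hρw : h.shW (σ v) (κ⁻¹ • σ a) w = w := by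
    simp [shW_apply, h.g_sym (σ v) w, h.g_sym (σ a) w, hσw v hwv, hσw a hwa]
  have hρ0 : h.shW v a w₀ = w₀ := by simp [shW_apply, h.g_sym v w₀, h.g_sym a w₀, hwv, hwa]
  have hρσ : ∀ y, h.gW w₀ y = 0 → h.shW (σ v) (κ⁻¹ • σ a) (σ y) = σ (h.shW v a y) := fun y hy => by
    simp only [shW_apply, map_add, map_sub, map_smul, LinearMap.smul_apply, smul_eq_mul, hκe a y hwa hy,
      hκe v y hwv hy, hκe a a hwa hwa]
    match_scalars <;> field_simp <;> ring
  set G : V ≃ₗ[F] V := g * k * g⁻¹ * l⁻¹ with hGdef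
  have hmem : G ∈ M := mul_mem (mul_mem (mul_mem hg hk) (inv_mem hg)) (inv_mem hlM)
  have hls : ∀ p, l.symm (h.tp p w) = h.tp p w := fun p => by rw [LinearEquiv.symm_apply_eq, el, hρw]
  have hGA : ∀ p, G (h.tp p w) = h.tp p w := fun p => by
    show g (k (g.symm (l.symm (h.tp p w)))) = _
    rw [hls, hgs, ek, hρ0, hl, lam.apply_symm_apply]
  have hcl : ∀ T, h.c w (l T) = h.c w T := fun T => by
    have := c_act (h := h) hG.le hlM el w T
    rwa [hρw] at this
  have hck : ∀ T, h.c w₀ (k T) = h.c w₀ T := fun T => by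
    have := c_act (h := h) hG.le hk ek w₀ T
    rwa [hρ0] at this
  have hGV : ∀ T, h.c w (G T) = h.c w T := fun T => by
    refine h.ext_f fun x => ?_
    rw [h.pol_c, h.pol_c, ← orth_polar (hG.le hmem) (h.tp x w) T, hGA]
  have hGy : ∀ u y, h.gW w₀ y = 0 → G (h.tp (lam u) (σ (h.shW v a y))) =
      h.tp (lam u) (σ (h.shW v a y)) + (Φ u (h.shW v a y) - Φ u y) := fun u y hy => by
    obtain ⟨p, hp⟩ := hΦA u y hy
    rw [LinearMap.flip_apply] at hp
    have e1 : G (l (g (h.tp u y))) = g (h.tp u (h.shW v a y)) := by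
      show g (k (g.symm (l.symm (l (g (h.tp u y)))))) = _
      rw [l.symm_apply_apply, g.symm_apply_apply, ek]
    have e2 : l (g (h.tp u y)) = h.tp (lam u) (σ (h.shW v a y)) + Φ u y := by
      rw [show g (h.tp u y) = h.tp (lam u) (σ y) + Φ u y by simp [Φ], map_add, el, hρσ y hy, ← hp, el, hρw]
    rw [e2, map_add, ← hp, hGA] at e1
    rw [← hp, eq_sub_of_add_eq e1]
    simp [Φ]
    abel
  let X : Module.End F V := G.toLinearMap - 1
  have hX : h.Rad M w X := by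
    refine ⟨⟨G, hmem, fun T => by simp [X]⟩, fun p => by simp [X, hGA], fun p z hz => ?_, fun T => by
      simp [X, hGV]⟩
    set S := g.symm (l.symm (h.tp p z)) with hSdef
    have hTS : l (g S) = h.tp p z := by rw [hSdef, g.apply_symm_apply, l.apply_symm_apply]
    have hS0 : h.c w₀ S = 0 := by
      rw [← hzero, ← hcl, hTS, h.c_tp, h.g_sym, hz, zero_smul]
    have := h.map_eq_zero_of_tp (φ := (h.A w).mkQ ∘ₗ X ∘ₗ l.toLinearMap ∘ₗ g.toLinearMap) hw₀0 (fun q y hy => ?_) hS0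
    · simp only [LinearMap.comp_apply, LinearEquiv.coe_coe, hTS, Submodule.mkQ_apply,
        Submodule.Quotient.mk_eq_zero] at this
      exact this
    have hy' : h.gW w₀ y = 0 := by rw [h.g_sym, hy]
    have hρy : h.gW w₀ (h.shW v a y) = 0 := by rw [← hρ0, act_isom hG.le (act_sh hG hvv hva), hy']
    obtain ⟨r, hr⟩ := hΦA q y hy'
    obtain ⟨r', hr'⟩ := hΦA q (h.shW v a y) hρy
    rw [LinearMap.flip_apply] at hr hr'
    simp only [LinearMap.comp_apply, LinearEquiv.coe_coe, Submodule.mkQ_apply, Submodule.Quotient.mk_eq_zero]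
    rw [show g (h.tp q y) = h.tp (lam q) (σ y) + Φ q y by simp [Φ], map_add, el, hρσ y hy', ← hr, el, hρw, map_add]
    simp only [X, LinearMap.sub_apply, LinearEquiv.coe_coe, Module.End.one_apply, hGy q y hy', hGA, sub_self,
      add_zero, add_sub_cancel_left, ← hr, ← hr']
    exact (h.A w).sub_mem (h.tp_mem_A _ w) (h.tp_mem_A _ w)
  obtain ⟨b, hb, hXe⟩ := hX.eq_sh hG h5 hS hw0 hw
  have hav : h.shW v a a = a + h.gW a a • v := by simp [shW_apply, hva]
  have hσρ : h.gW w (σ (h.shW v a a)) = 0 := hσw _ (by rw [hav]; simp [hwa, hwv])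
  refine ⟨(h.gW a a)⁻¹ * h.gW b (σ (h.shW v a a)), fun u => ?_⟩
  have e := LinearMap.congr_fun hXe (h.tp (lam u) (σ (h.shW v a a)))
  simp only [X, LinearMap.sub_apply, LinearEquiv.coe_coe, Module.End.one_apply, hGy u a hwa, add_sub_cancel_left,
    sh_one_tp, hσρ, zero_smul, mul_zero, sub_zero, map_smul] at e
  rw [hav, ← map_sub, add_sub_cancel_left, map_smul] at e
  rw [mul_smul, eq_inv_smul_iff₀ haa, e, hav]

/-- An element keeping one `A w` keeps the decomposition. -/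
theorem pure_of_member {g : V ≃ₗ[F] V} (hg : g ∈ M) {w₀ w : W} (hw₀0 : w₀ ≠ 0) (hw₀ : h.gW w₀ w₀ = 0)
    (hw0 : w ≠ 0) (hw : h.gW w w = 0) (hmap : ∀ u, g (h.tp u w₀) ∈ h.A w) : h.Pure g := by
  obtain ⟨lam, hlam⟩ := pure_on_perp hG h5 hS hg hw₀0 hw₀ hw0 hw hmap
  obtain ⟨u₀, hu₀⟩ := exists_ne (0 : U)
  obtain ⟨a₀, ha₀⟩ := h.fN.exists_one (fun e => hu₀ (lam.map_eq_zero_iff.1 e) : lam u₀ ≠ 0)
  obtain ⟨σ, hσ⟩ := exists_sigma (h := h) g a₀ u₀
  have h1 : ∀ u y, h.gW w₀ y = 0 → g (h.tp u y) = h.tp (lam u) (σ y) := hlam a₀ u₀ ha₀ σ hσ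
  refine ⟨lam.toLinearMap, σ, fun u y => ?_⟩
  rw [LinearEquiv.coe_coe]
  obtain ⟨w₁, hw₁, hww₁⟩ := h.gN.exists_partner hw₀0 hw₀
  have hd := Nice.finrank_ker_two (B := h.gW) w₀ w₁
  obtain ⟨q, hq, hq0, hqq⟩ := Nice.exists_iso_in h.gW (LinearMap.ker (h.gW w₀) ⊓ LinearMap.ker (h.gW w₁)) (by omega)
  obtain ⟨hw₀q, hw₁q⟩ := hq
  simp only [SetLike.mem_coe, LinearMap.mem_ker] at hw₀q hw₁q
  have hσq0 : σ q ≠ 0 := fun e => h.tp_ne_zero hu₀ hq0 (g.injective (by rw [h1 _ _ hw₀q, e, map_zero, map_zero]))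
  have hσqq : h.gW (σ q) (σ q) = 0 := by
    obtain ⟨x, hx⟩ := h.fN.exists_aniso
    obtain ⟨p, hp⟩ := lam.surjective x
    have := orth_polar (hG.le hg) (h.tp p q) (h.tp p q)
    rw [h1 _ _ hw₀q, h.pol, h.pol, hqq, mul_zero, hp] at this
    exact (mul_eq_zero.1 this).resolve_left hx
  obtain ⟨lam', hlam'⟩ := pure_on_perp hG h5 hS hg hq0 hqq hσq0 hσqq fun u => by
    rw [h1 u q hw₀q]; exact h.tp_mem_A _ _
  obtain ⟨a₁, ha₁⟩ := h.fN.exists_one (fun e => hu₀ (lam'.map_eq_zero_iff.1 e) : lam' u₀ ≠ 0)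
  obtain ⟨σ', hσ'⟩ := exists_sigma (h := h) g a₁ u₀
  have h2 : ∀ u y, h.gW q y = 0 → g (h.tp u y) = h.tp (lam' u) (σ' y) := hlam' a₁ u₀ ha₁ σ' hσ'
  obtain ⟨x, hx⟩ := h.gN.exists_one hσq0
  have hll : ∀ u, lam u = h.gW x (σ' q) • lam' u := fun u => by
    have := congrArg (h.c x) ((h1 u q hw₀q).symm.trans (h2 u q hqq))
    rwa [h.c_tp, h.c_tp, hx, one_smul] at this
  have hfix : ∀ y, h.gW q y = 0 → ∀ u, g (h.tp u y) = h.tp (lam u) (σ y) := fun y hy u => by
    have hs : h.gW x (σ' q) ≠ 0 := fun e => hu₀ (lam.map_eq_zero_iff.1 (by rw [hll, e, zero_smul]))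
    have hyy : σ y = (h.gW x (σ' q))⁻¹ • σ' y := h.gN.ext_left fun z => by
      have h' : h.fU a₀ (lam' u₀) = (h.gW x (σ' q))⁻¹ := by
        rw [hll, map_smul, smul_eq_mul] at ha₀
        exact (eq_inv_of_mul_eq_one_right ha₀)
      rw [h.g_sym z (σ y), hσ, h2 u₀ y hy, h.c_tp, map_smul, h', map_smul, smul_eq_mul, smul_eq_mul, mul_comm]
    rw [h2 u y hy, hll, hyy, map_smul, map_smul, LinearMap.smul_apply, smul_smul, inv_mul_cancel₀ hs, one_smul]
  have e1 := h1 u (y - h.gW w₀ y • w₁) (by simp [hww₁])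
  have e2 := hfix w₁ (by rw [h.g_sym, hw₁q]) u
  rw [map_sub, map_sub, map_smul, map_smul, map_sub, map_smul, e2, map_sub, map_smul, sub_left_inj] at e1
  exact e1

end TData

end CfsgLib.TensorOO
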