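import Cfsg.Agent.Lib.OrthMax.TensorOO.Full

/-! The unipotent radical of the stabiliser of `A w` when all root endomorphisms are scalars. -/

set_option autoImplicit false
set_option linter.unusedSectionVars false
set_option linter.unusedVariables false
set_option linter.unusedSimpArgs false

namespace CfsgLib.TensorOO

open QuadraticMap CfsgLib.Geometry CfsgLib.OrthMax
open CfsgLib.TensorSp (In)
open LinearMap (BilinForm)

variable {F V U W : Type*} [Field F] [Finite F] [AddCommGroup V] [Module F V] [AddCommGroup U] [Module F U]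
  [AddCommGroup W] [Module F W]
variable [FiniteDimensional F V] [FiniteDimensional F U] [FiniteDimensional F W]
variable {Q : QuadraticForm F V} {M : Subgroup (V ≃ₗ[F] V)}

namespace TData

/-- An element of the radical at `A w`. -/
structure Rad (h : TData Q U W) (M : Subgroup (V ≃ₗ[F] V)) (w : W) (X : Module.End F V) : Prop where
  mem : In M X
  hA : ∀ u, X (h.tp u w) = 0
  hP : ∀ u v, h.gW v w = 0 → X (h.tp u v) ∈ h.A w
  hV : ∀ T, h.c w (X T) = 0

variable {h : TData Q U W} [Nontrivial U] [Nontrivial W] (hG : h.Gens M) (h5 : 5 ≤ Module.finrank F W)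

include hG h5

omit h5 in
/-- A component of a radical element and its adjoint. -/
theorem Rad.c_apply {w : W} (hw : h.gW w w = 0) {X : Module.End F V} (hX : h.Rad M w X) {v : W}
    {D : Module.End F U} (hD : ∀ u, X (h.tp u v) = h.tp (D u) w) (T : V) :
    h.c v (X T) = - h.adj D (h.c w T) := h.ext_f fun u => by
  have := hX.mem.polar_eq hG.le (h.tp u v) T
  rw [hD, h.polar_tp, h.polar_tp, h.polar_tp, hX.hV, map_zero, add_zero] at this
  rw [map_neg, h.adj_spec']
  linear_combination this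

/-- A radical element killing a singular vector yields a member. -/
theorem Rad.step {w : W} (hw0 : w ≠ 0) (hw : h.gW w w = 0) {X : Module.End F V} (hX : h.Rad M w X) {c b : W}
    (hwc : h.gW w c = 0) (hc : h.gW c c = 0) (hcn : c ∉ Submodule.span F {w}) (hwb : h.gW w b = 0)
    (hcb : h.gW c b = 0) (hXc : ∀ u, X (h.tp u c) = 0) {D : Module.End F U}
    (hD : ∀ u, X (h.tp u b) = h.tp (D u) w) : h.InD M D := by
  have hcX : ∀ T, h.c c (X T) = 0 := fun T => by
    rw [hX.c_apply hG hw (D := 0) (fun u => by rw [hXc]; simp) T]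
    simp
  have hbX := hX.c_apply hG hw hD
  have hXY : X * h.sh c b 1 = - h.P w c D := LinearMap.ext fun T => by
    simp [sh_apply, P_apply, hXc, hD, hX.hA]
  have hYX : h.sh c b 1 * X = - h.P c w (h.adj D) := LinearMap.ext fun T => by
    simp [sh_apply, P_apply, hbX, hcX]
  have hcw : h.gW c w = 0 := by rw [h.g_sym, hwc]
  have hbw : h.gW b w = 0 := by rw [h.g_sym, hwb]
  have := in_comm hX.mem (in_sh hG hc hcb)
    (by rw [hXY]; exact LinearMap.ext fun T => by simp [P_apply, hcX])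
    (by rw [hYX]; exact LinearMap.ext fun T => by simp [P_apply, hX.hV])
    (by rw [hXY, hYX]; exact LinearMap.ext fun T => by simp [P_apply, sh_apply, hc, hcb, hwc, hwb])
  rw [hXY, hYX, show -h.P w c D - -h.P c w (h.adj D) = h.lg w c (-D) by simp [lg, P_neg]] at this
  have := (InD.of_pair hG h5 hw0 hw hwc hc hcn this).neg hG h5
  rwa [neg_neg] at this

/-- Every component at an isotropic vector is a member. -/
theorem Rad.component {w : W} (hw0 : w ≠ 0) (hw : h.gW w w = 0) {X : Module.End F V} (hX : h.Rad M w X) {v : W}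
    (hwv : h.gW w v = 0) (hv : h.gW v v = 0) (hvn : v ∉ Submodule.span F {w}) {D : Module.End F U}
    (hD : ∀ u, X (h.tp u v) = h.tp (D u) w) : h.InD M D := by
  obtain ⟨a, hwa, hva, haa⟩ := h.gN.exists_aniso_perp_two h5 w v
  obtain ⟨g, hg, eg⟩ := id hX.mem
  have hva' : h.gW v (-a) = 0 := by rw [map_neg, hva, neg_zero]
  obtain ⟨k, hk, ek⟩ := act_sh hG hv hva
  set ρ' := h.shW v (-a) with hρ'
  have hρρ : ∀ x, h.shW v a (ρ' x) = x := fun x => LinearMap.congr_fun (h.swap.shU_neg hv hva) x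
  have hρw : h.shW v a w = w := by simp [shW_apply, h.g_sym a w, h.g_sym v w, hwa, hwv]
  have ek' : ∀ u x, k.symm (h.tp u x) = h.tp u (ρ' x) := fun u x => by
    rw [LinearEquiv.symm_apply_eq, ek, hρρ]
  have hgA : ∀ u, g (h.tp u w) = h.tp u w := fun u => by rw [eg, hX.hA, add_zero]
  have hgi : ∀ u x, h.gW x w = 0 → g.symm (h.tp u x) = h.tp u x - X (h.tp u x) := fun u x hx => by
    obtain ⟨y, hy⟩ := hX.hP u x hx
    rw [LinearEquiv.symm_apply_eq, map_sub, ← hy, LinearMap.flip_apply, hgA, eg, ← hy, LinearMap.flip_apply]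
    abel
  have hcg : ∀ T, h.c w (g T) = h.c w T := fun T => by rw [eg, map_add, hX.hV, add_zero]
  have hck : ∀ T, h.c w (k T) = h.c w T := fun T => by
    have := c_act (h := h) hG.le hk ek w T
    rwa [hρw] at this
  set G := k * g * k⁻¹ * g⁻¹ with hGdef
  have hmem : G ∈ M := mul_mem (mul_mem (mul_mem hk hg) (inv_mem hk)) (inv_mem hg)
  have hGy : ∀ u y, h.gW y w = 0 → G (h.tp u y) = h.tp u y + (X (h.tp u (ρ' y - y))) := fun u y hy => by
    have hρy : h.gW (ρ' y) w = 0 := by
      simp [hρ', shW_apply, hy, h.g_sym v w, hwv, h.g_sym a w, hwa, map_neg]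
    obtain ⟨p, hp⟩ := hX.hP u y hy
    obtain ⟨q, hq⟩ := hX.hP u (ρ' y) hρy
    rw [LinearMap.flip_apply] at hp hq
    have hρ'w : ρ' w = w := by simp [hρ', shW_apply, h.g_sym a w, h.g_sym v w, hwa, hwv]
    show k (g (k.symm (g.symm (h.tp u y)))) = _
    rw [hgi u y hy, map_sub, ek', ← hp, ek', hρ'w, map_sub, hgA, eg, ← hq, map_sub, map_add, ek, ek, ek, hρρ, hρw,
      map_sub, map_sub, ← hp, ← hq]
    abel
  let X₁ : Module.End F V := G.toLinearMap - 1
  have hX₁ : h.Rad M w X₁ := by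
    refine ⟨⟨G, hmem, fun T => by simp [X₁]⟩, fun u => ?_, fun u y hy => ?_, fun T => ?_⟩
    · simp [X₁, hGy u w hw, hρ', shW_apply, h.g_sym a w, h.g_sym v w, hwa, hwv]
    · simp only [X₁, LinearMap.sub_apply, LinearEquiv.coe_coe, Module.End.one_apply, hGy u y hy, add_sub_cancel_left]
      refine hX.hP u _ ?_
      simp [hρ', shW_apply, hy, h.g_sym v w, hwv, h.g_sym a w, hwa]
    · have e1 : ∀ S, h.c w (k.symm S) = h.c w S := fun S => by rw [← hck (k.symm S), k.apply_symm_apply]
      have e2 : ∀ S, h.c w (g.symm S) = h.c w S := fun S => by rw [← hcg (g.symm S), g.apply_symm_apply]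
      simp only [X₁, LinearMap.sub_apply, LinearEquiv.coe_coe, Module.End.one_apply, map_sub]
      show h.c w (k (g (k.symm (g.symm T)))) - _ = 0
      rw [hck, hcg, e1, e2, sub_self]
  have hne : -(h.gW a a) ≠ 0 := neg_ne_zero.2 haa
  have hkey : h.InD M ((-(h.gW a a)) • D) := by
    refine hX₁.step hG h5 hw0 hw hwv hv hvn hwa hva (fun u => ?_) fun u => ?_
    · simp [X₁, hGy u v (by rw [h.g_sym, hwv]), hρ', shW_apply, hv, hva, h.g_sym a v]
    · simp only [X₁, LinearMap.sub_apply, LinearEquiv.coe_coe, Module.End.one_apply,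
        hGy u a (by rw [h.g_sym, hwa]), add_sub_cancel_left]
      rw [show ρ' a - a = (-(h.gW a a)) • v by simp [hρ', shW_apply, hva], map_smul, map_smul, hD]
      simp
  have := hkey.smul hG h5 (-(h.gW a a))⁻¹
  rwa [smul_smul, inv_mul_cancel₀ hne, one_smul] at this

/-- A skew element at `A w` gives a member. -/
theorem InD.of_pww {G : Module.End F U} (hadj : h.adj G = -G) {w : W} (hw0 : w ≠ 0) (hw : h.gW w w = 0)
    (hX : In M (h.P w w G)) : h.InD M G := by
  have h2 := h.h2
  obtain ⟨v, hwv, hv, hvn⟩ := h.gN.exists_iso_perp h5 hw0 hw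
  have hvw : h.gW v w = 0 := by rw [h.g_sym, hwv]
  have hwn : w ∉ Submodule.span F {v} := fun hm => hvn (by
    obtain ⟨s, hs⟩ := Submodule.mem_span_singleton.1 hm
    have hs0 : s ≠ 0 := fun e => hw0 (by rw [← hs, e, zero_smul])
    exact Submodule.mem_span_singleton.2 ⟨s⁻¹, by rw [← hs, smul_smul, inv_mul_cancel₀ hs0, one_smul]⟩)
  obtain ⟨a, hav, haw⟩ := h.gN.exists_perp_one hwn
  have mv : ∀ s : F, In M (h.P (w + s • v) (w + s • v) G) := fun s => by
    have hs : h.gW v (s • a) = 0 := by rw [map_smul, h.g_sym, hav, smul_zero]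
    have hρ : h.shW v (s • a) w = w + s • v := by simp [shW_apply, hvw, haw, smul_smul]
    obtain ⟨k, hk, ek⟩ := act_sh hG hv hs
    refine hX.conj hk fun T => ?_
    rw [P_act hG.le hk ek, hρ]
  have hz : ∀ s t : F, h.gW (w + s • v) (w + t • v) = 0 := fun s t => by simp [hw, hv, hwv, hvw]
  have := (mv 1).add ((mv (-1)).neg (by rw [P_mul, hz, zero_smul])) (by rw [mul_neg, P_mul, hz, zero_smul, neg_zero])
  have h2G : h.InD M ((2 : F) • G) := by
    refine InD.of_pair hG h5 hw0 hw hwv hv hvn (Eq.subst (motive := fun X => In M X) ?_ this)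
    refine LinearMap.ext fun T => ?_
    simp [lg, hadj, P_apply]
    module
  have := h2G.smul hG h5 (2 : F)⁻¹
  rwa [smul_smul, inv_mul_cancel₀ h2, one_smul] at this

/-- When all members are scalars the radical acts on the second factor only. -/
theorem Rad.eq_sh (hS : h.Scal M) {w : W} (hw0 : w ≠ 0) (hw : h.gW w w = 0) {X : Module.End F V}
    (hX : h.Rad M w X) : ∃ b, h.gW w b = 0 ∧ X = h.sh w b 1 := by
  have h2 := h.h2
  obtain ⟨w₁, hw₁, hww₁⟩ := h.gN.exists_partner hw0 hw
  obtain ⟨u₀, hu₀⟩ := exists_ne (0 : U)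
  obtain ⟨a₀, ha₀⟩ := h.fN.exists_one hu₀
  let Λ : Module.Dual F W := h.fU a₀ ∘ₗ h.c w₁ ∘ₗ X ∘ₗ h.tp u₀
  have hdiag : ∀ v, h.gW w v = 0 → ∀ u, X (h.tp u v) = h.tp u (Λ v • w) := fun v hv u => by
    let Φ : W →ₗ[F] V := X ∘ₗ h.tp u - (h.tp u) ∘ₗ (Λ.smulRight w)
    have : v ∈ LinearMap.ker Φ := h.gN.mem_of_iso h5 hw0 hw _ (fun v hwv hvv => by
      rw [LinearMap.mem_ker]
      by_cases hm : v ∈ Submodule.span F {w}
      · obtain ⟨s, rfl⟩ := Submodule.mem_span_singleton.1 hm
        simp [Φ, Λ, hX.hA]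
      let D : Module.End F U := h.c w₁ ∘ₗ X ∘ₗ h.tp.flip v
      have hD : ∀ u, X (h.tp u v) = h.tp (D u) w := fun u => by
        obtain ⟨y, hy⟩ := hX.hP u v (by rw [h.g_sym, hwv])
        simp only [D, LinearMap.comp_apply, LinearMap.flip_apply, ← hy]
        rw [h.c_tp, h.g_sym w₁ w, hww₁, one_smul]
      obtain ⟨s, hs⟩ := hS D (hX.component hG h5 hw0 hw hwv hvv hm hD)
      have hΛ : Λ v = s := by
        show h.fU a₀ (D u₀) = s
        rw [hs, LinearMap.smul_apply, Module.End.one_apply, map_smul, ha₀, smul_eq_mul, mul_one]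
      simp [Φ, hD, hs, hΛ]) hv
    simpa [Φ, sub_eq_zero] using this
  obtain ⟨b, hb⟩ : ∃ b, ∀ y, h.gW b y = Λ y :=
    ⟨(h.gW.toDual h.gN.nd).symm Λ, fun y => LinearMap.BilinForm.apply_toDual_symm_apply Λ y⟩
  have hbw : h.gW w b = 0 := by rw [h.g_sym, hb]; simp [Λ, hX.hA]
  refine ⟨b, hbw, ?_⟩
  have hnb : h.gW w (-b) = 0 := by rw [map_neg, hbw, neg_zero]
  set X₂ : Module.End F V := h.sh w (-b) 1 + X + h.sh w (-b) 1 * X with hX₂def
  have hIn : In M X₂ := (in_sh hG hw hnb).mul hX.mem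
  have hzero : ∀ u v, h.gW v w = 0 → X₂ (h.tp u v) = 0 := fun u v hv => by
    have hwv : h.gW w v = 0 := by rw [h.g_sym, hv]
    simp only [hX₂def, LinearMap.add_apply, Module.End.mul_apply, hdiag v hwv u, sh_one_tp]
    simp [hwv, hw, hbw, ← hb, h.g_sym b w]
  have hV : ∀ T, h.c w (X₂ T) = 0 := fun T => by
    simp [hX₂def, sh_apply, hX.hV, hw, hbw]
  have hin : ∀ T, X₂ T ∈ h.A w := fun T => h.mem_A_of_perp hw0 fun u v hv => by
    have := hIn.polar_eq hG.le (h.tp u v) T
    rwa [hzero u v hv, polar_zero_left, polar_zero_left, zero_add, add_zero] at this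
  let G : Module.End F U := h.c w₁ ∘ₗ X₂ ∘ₗ h.tp.flip w₁
  have hG₁ : X₂ = h.P w w G := LinearMap.ext fun T => by
    have e1 : X₂ (T - h.tp (h.c w T) w₁) = 0 := h.map_eq_zero_of_tp X₂ hw0 hzero (by
      rw [map_sub, h.c_tp, hww₁, one_smul, sub_self])
    rw [map_sub, sub_eq_zero] at e1
    obtain ⟨y, hy⟩ := hin T
    have e2 : G (h.c w T) = h.c w₁ (X₂ T) := by rw [e1]; rfl
    rw [P_apply, e2, ← hy, LinearMap.flip_apply, h.c_tp, h.g_sym w₁ w, hww₁, one_smul]
  have hadj : h.adj G = -G := h.adj_eq fun u x => by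
    have := hIn.polar_eq hG.le (h.tp u w₁) (h.tp x w₁)
    rw [hG₁, P_apply, P_apply, h.c_tp, h.c_tp, hww₁, one_smul, one_smul, h.pol, h.pol, h.pol, hw, hww₁,
      h.g_sym w₁ w, hww₁, mul_zero, mul_one, mul_one, add_zero] at this
    rw [LinearMap.neg_apply, map_neg, LinearMap.neg_apply]
    linear_combination -this
  obtain ⟨s, hs⟩ := hS G (InD.of_pww hG h5 hadj hw0 hw (hG₁ ▸ hIn))
  rw [hs, adj_smul, adj_one] at hadj
  have hs0 : s = 0 := by
    have := LinearMap.congr_fun hadj u₀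
    simp only [LinearMap.smul_apply, Module.End.one_apply, LinearMap.neg_apply] at this
    have e : (2 * s) • u₀ = 0 := by rw [two_mul, add_smul]; nth_rewrite 1 [this]; abel
    exact (mul_eq_zero.1 ((smul_eq_zero.1 e).resolve_right hu₀)).resolve_left h2
  rw [hs, hs0, zero_smul, show h.P w w 0 = 0 from LinearMap.ext fun T => by simp [P_apply], hX₂def] at hG₁
  refine LinearMap.ext fun T => ?_
  have e := LinearMap.congr_fun hG₁ T
  simp only [LinearMap.add_apply, Module.End.mul_apply, LinearMap.zero_apply] at e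
  have e' := congrArg (fun S => S + h.sh w b 1 S) e
  simp only [map_add, map_zero, add_zero] at e'
  have hcancel : ∀ S, h.sh w b 1 S + h.sh w (-b) 1 S + h.sh w b 1 (h.sh w (-b) 1 S) = 0 := fun S => by
    have := LinearMap.congr_fun (h.sh_add hw hbw hnb 1) S
    rw [add_neg_cancel, sh_zero] at this
    simpa [Module.End.mul_apply] using this
  linear_combination (norm := abel) e' - hcancel T - hcancel (X T)

end TData

end CfsgLib.TensorOO
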