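import Cfsg.Agent.Lib.OrthMax.DecompBasic

/-! Non-degenerate symmetric bilinear forms in odd characteristic: small existence lemmas. -/

set_option autoImplicit false
set_option linter.unusedSectionVars false
set_option linter.unusedVariables false
set_option linter.unusedSimpArgs false

namespace CfsgLib.TensorOO

open QuadraticMap CfsgLib.Geometry CfsgLib.OrthMax
open LinearMap (BilinForm)

variable {F X : Type*} [Field F] [AddCommGroup X] [Module F X] [FiniteDimensional F X]

/-- A non-degenerate symmetric form in odd characteristic. -/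
structure Nice (B : BilinForm F X) : Prop where
  sym : ∀ x y, B x y = B y x
  nd : B.Nondegenerate
  two : (2 : F) ≠ 0

namespace Nice

variable {B : BilinForm F X} (hB : Nice B)

include hB

theorem swap_zero {x y : X} (e : B x y = 0) : B y x = 0 := by rw [hB.sym, e]

theorem ext_left {x y : X} (e : ∀ u, B u x = B u y) : x = y :=
  sub_eq_zero.1 (hB.nd.2 (x - y) fun u => by rw [map_sub, e u, sub_self])

theorem exists_one {w : X} (hw : w ≠ 0) : ∃ x, B x w = 1 := by
  obtain ⟨x, hx⟩ : ∃ x, B x w ≠ 0 := by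
    by_contra e
    push Not at e
    exact hw (hB.nd.2 w e)
  exact ⟨(B x w)⁻¹ • x, by rw [map_smul, LinearMap.smul_apply, smul_eq_mul, inv_mul_cancel₀ hx]⟩

theorem mem_span_of_perp {w v : X} (e : ∀ x, B x w = 0 → B x v = 0) : v ∈ Submodule.span F {w} := by
  by_cases hw : w = 0
  · subst hw
    rw [hB.nd.2 v fun x => e x (by rw [map_zero])]
    exact zero_mem _
  obtain ⟨x₀, hx₀⟩ := hB.exists_one hw
  refine Submodule.mem_span_singleton.2 ⟨B x₀ v, (sub_eq_zero.1 (hB.nd.2 _ fun x => ?_)).symm⟩
  have h1 := e (x - B x w • x₀) (by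
    rw [map_sub, map_smul, LinearMap.sub_apply, LinearMap.smul_apply, hx₀, smul_eq_mul, mul_one, sub_self])
  rw [map_sub, map_smul, LinearMap.sub_apply, LinearMap.smul_apply, smul_eq_mul] at h1
  rw [map_sub, map_smul, smul_eq_mul]
  linear_combination h1

theorem exists_perp_one {w v : X} (hv : v ∉ Submodule.span F {w}) : ∃ x, B x w = 0 ∧ B x v = 1 := by
  obtain ⟨x, hxw, hxv⟩ : ∃ x, B x w = 0 ∧ B x v ≠ 0 := by
    by_contra e
    push Not at e
    exact hv (hB.mem_span_of_perp e)
  exact ⟨(B x v)⁻¹ • x, by rw [map_smul, LinearMap.smul_apply, hxw, smul_zero],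
    by rw [map_smul, LinearMap.smul_apply, smul_eq_mul, inv_mul_cancel₀ hxv]⟩

theorem finrank_ker {w : X} (hw : w ≠ 0) :
    Module.finrank F (LinearMap.ker (B w)) + 1 = Module.finrank F X :=
  Module.Dual.finrank_ker_add_one_of_ne_zero fun e => hw (hB.nd.1 w fun u => by rw [e, LinearMap.zero_apply])

omit hB in
theorem finrank_ker_inf (S : Submodule F X) (φ : X →ₗ[F] F) :
    Module.finrank F S ≤ Module.finrank F (S ⊓ LinearMap.ker φ : Submodule F X) + 1 := by
  have h1 := Submodule.finrank_sup_add_finrank_inf_eq S (LinearMap.ker φ)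
  have h2 := Submodule.finrank_le (S ⊔ LinearMap.ker φ)
  have h3 := φ.finrank_range_add_finrank_ker
  have h4 := Submodule.finrank_le (LinearMap.range φ)
  rw [Module.finrank_self] at h4
  omega

omit hB in
theorem finrank_ker_two (a b : X) :
    Module.finrank F X ≤ Module.finrank F (LinearMap.ker (B a) ⊓ LinearMap.ker (B b) : Submodule F X) + 2 := by
  have h1 := finrank_ker_inf (⊤ : Submodule F X) (B a)
  rw [finrank_top, top_inf_eq] at h1
  have h2 := finrank_ker_inf (LinearMap.ker (B a)) (B b)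
  omega

/-- A subspace of more than half the dimension is not totally isotropic. -/
theorem exists_aniso_in (S : Submodule F X) (hS : Module.finrank F X < 2 * Module.finrank F S) :
    ∃ x ∈ S, B x x ≠ 0 := by
  by_contra hno
  push Not at hno
  have hle : S ≤ B.orthogonal S := fun x hx => LinearMap.BilinForm.mem_orthogonal_iff.2 fun y hy => by
    show B y x = 0
    have := hno _ (S.add_mem hy hx)
    simp only [map_add, LinearMap.add_apply, hno y hy, hno x hx, zero_add, add_zero] at this
    rw [hB.sym x y] at this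
    exact (mul_eq_zero.1 (show (2 : F) * B y x = 0 by linear_combination this)).resolve_left hB.two
  have h1 := Submodule.finrank_mono hle
  rw [LinearMap.BilinForm.finrank_orthogonal hB.nd] at h1
  omega

theorem exists_aniso [Nontrivial X] : ∃ x, B x x ≠ 0 := by
  obtain ⟨x, -, hx⟩ := hB.exists_aniso_in ⊤ (by
    rw [finrank_top]; have : 0 < Module.finrank F X := Module.finrank_pos; omega)
  exact ⟨x, hx⟩

variable [Finite F]

omit hB in
/-- Three dimensions contain an isotropic vector. -/
theorem exists_iso_in (B : BilinForm F X) (S : Submodule F X) (hS : 3 ≤ Module.finrank F S) :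
    ∃ x ∈ S, x ≠ 0 ∧ B x x = 0 := by
  obtain ⟨x, hx, hx0, e⟩ :=
    CfsgLib.OrthMax.exists_singular_in (Q := LinearMap.BilinMap.toQuadraticMap B) S hS
  exact ⟨x, hx, hx0, by simpa using e⟩

/-- An isotropic vector has an isotropic partner. -/
theorem exists_partner {v : X} (hv0 : v ≠ 0) (hv : B v v = 0) : ∃ v', B v' v' = 0 ∧ B v v' = 1 := by
  obtain ⟨x, hx⟩ := hB.exists_one hv0
  have h2 := hB.two
  refine ⟨x - (B x x / 2) • v, ?_, ?_⟩
  · simp only [map_sub, map_smul, LinearMap.sub_apply, LinearMap.smul_apply, smul_eq_mul, hv, hx, hB.sym v x]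
    field_simp
    ring
  · simp [hv, hB.sym v x, hx]

/-- An isotropic vector orthogonal to another has a partner orthogonal to it too. -/
theorem exists_partner_perp {w v : X} (hv : B v v = 0) (hwv : B w v = 0) (hn : v ∉ Submodule.span F {w}) :
    ∃ v', B v' v' = 0 ∧ B v v' = 1 ∧ B w v' = 0 := by
  obtain ⟨x, hxw, hxv⟩ := hB.exists_perp_one hn
  have h2 := hB.two
  refine ⟨x - (B x x / 2) • v, ?_, ?_, ?_⟩
  · simp only [map_sub, map_smul, LinearMap.sub_apply, LinearMap.smul_apply, smul_eq_mul, hv, hxv, hB.sym v x]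
    field_simp
    ring
  · simp [hv, hB.sym v x, hxv]
  · simp [hB.sym w x, hxw, hwv]

/-- An isotropic vector orthogonal to a given isotropic one and outside its line. -/
theorem exists_iso_perp (h5 : 5 ≤ Module.finrank F X) {w : X} (hw0 : w ≠ 0) (hw : B w w = 0) :
    ∃ v, B w v = 0 ∧ B v v = 0 ∧ v ∉ Submodule.span F {w} := by
  obtain ⟨w', hw', hww'⟩ := hB.exists_partner hw0 hw
  have hd := finrank_ker_two (B := B) w w'
  obtain ⟨v, hv, hv0, hvv⟩ := exists_iso_in B (LinearMap.ker (B w) ⊓ LinearMap.ker (B w')) (by omega)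
  refine ⟨v, hv.1, hvv, fun hm => hv0 ?_⟩
  obtain ⟨s, rfl⟩ := Submodule.mem_span_singleton.1 hm
  have := LinearMap.mem_ker.1 hv.2
  rw [map_smul, hB.sym w' w, hww', smul_eq_mul, mul_one] at this
  rw [this, zero_smul]

/-- The isotropic vectors orthogonal to an isotropic vector span its orthogonal. -/
theorem mem_of_iso (h5 : 5 ≤ Module.finrank F X) {w : X} (hw0 : w ≠ 0) (hw : B w w = 0) (S : Submodule F X)
    (hS : ∀ v, B w v = 0 → B v v = 0 → v ∈ S) {a : X} (ha : B w a = 0) : a ∈ S := by
  obtain ⟨v, hwv, hv, hn⟩ := hB.exists_iso_perp h5 hw0 hw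
  obtain ⟨v', hv', hvv', hwv'⟩ := hB.exists_partner_perp hv hwv hn
  set e := a - B v' a • v - B v a • v' with he
  have hwe : B w e = 0 := by simp [he, ha, hwv, hwv']
  have hve : B v e = 0 := by simp [he, hv, hvv']
  have hv'e : B v' e = 0 := by simp [he, hv', hB.sym v' v, hvv']
  have h2 := hB.two
  have h1 : v + e + (- (B e e / 2)) • v' ∈ S := hS _ (by simp [hwv, hwe, hwv']) (by
    simp only [map_add, map_smul, LinearMap.add_apply, LinearMap.smul_apply, smul_eq_mul, hv, hv', hvv', hve, hv'e,
      hB.sym v' v, hB.sym e v, hB.sym e v']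
    field_simp
    ring)
  have hvS := hS v hwv hv
  have hv'S := hS v' hwv' hv'
  have heS : e ∈ S := by
    have := S.sub_mem (S.sub_mem h1 hvS) (S.smul_mem (- (B e e / 2)) hv'S)
    rwa [add_assoc, add_sub_cancel_left, add_sub_cancel_right] at this
  rw [show a = e + B v' a • v + B v a • v' by rw [he]; abel]
  exact S.add_mem (S.add_mem heS (S.smul_mem _ hvS)) (S.smul_mem _ hv'S)

/-- The isotropic vectors span. -/
theorem span_iso (h3 : 3 ≤ Module.finrank F X) (S : Submodule F X) (hS : ∀ v, B v v = 0 → v ∈ S) (a : X) :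
    a ∈ S := by
  obtain ⟨v, -, hv0, hv⟩ := exists_iso_in B (⊤ : Submodule F X) (by rw [finrank_top]; exact h3)
  obtain ⟨v', hv', hvv'⟩ := hB.exists_partner hv0 hv
  set e := a - B v' a • v - B v a • v' with he
  have hve : B v e = 0 := by simp [he, hv, hvv']
  have hv'e : B v' e = 0 := by simp [he, hv', hB.sym v' v, hvv']
  have h2 := hB.two
  have h1 : v + e + (- (B e e / 2)) • v' ∈ S := hS _ (by
    simp only [map_add, map_smul, LinearMap.add_apply, LinearMap.smul_apply, smul_eq_mul, hv, hv', hvv', hve, hv'e,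
      hB.sym v' v, hB.sym e v, hB.sym e v']
    field_simp
    ring)
  have hvS := hS v hv
  have hv'S := hS v' hv'
  have heS : e ∈ S := by
    have := S.sub_mem (S.sub_mem h1 hvS) (S.smul_mem (- (B e e / 2)) hv'S)
    rwa [add_assoc, add_sub_cancel_left, add_sub_cancel_right] at this
  rw [show a = e + B v' a • v + B v a • v' by rw [he]; abel]
  exact S.add_mem (S.add_mem heS (S.smul_mem _ hvS)) (S.smul_mem _ hv'S)

theorem exists_iso_not_perp (h3 : 3 ≤ Module.finrank F X) {x : X} (hx : x ≠ 0) :
    ∃ v, B v v = 0 ∧ B v x ≠ 0 := by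
  by_contra hno
  push Not at hno
  refine hx (hB.nd.2 x fun a => ?_)
  exact hB.span_iso h3 (LinearMap.ker (B.flip x)) (fun v hv => LinearMap.mem_ker.2 (hno v hv)) a

/-- An anisotropic vector orthogonal to two given vectors. -/
theorem exists_aniso_perp_two (h5 : 5 ≤ Module.finrank F X) (a b : X) :
    ∃ x, B a x = 0 ∧ B b x = 0 ∧ B x x ≠ 0 := by
  have hd := finrank_ker_two (B := B) a b
  obtain ⟨x, hx, hxx⟩ := hB.exists_aniso_in (LinearMap.ker (B a) ⊓ LinearMap.ker (B b)) (by omega)
  exact ⟨x, hx.1, hx.2, hxx⟩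

/-- A non-zero subspace invariant under the short elements is everything. -/
theorem eq_top_of_invariant (h3 : 3 ≤ Module.finrank F X) (S : Submodule F X)
    (hS : ∀ p q, B p p = 0 → B p q = 0 → ∀ y ∈ S, y + B q y • p - B p y • q - (B q q / 2 * B p y) • p ∈ S)
    {y : X} (hy : y ∈ S) (hy0 : y ≠ 0) (v : X) : v ∈ S := by
  obtain ⟨x, hx, hxy⟩ := hB.exists_iso_not_perp h3 hy0
  have hx0 : x ≠ 0 := fun e => hxy (by rw [e, map_zero, LinearMap.zero_apply])
  have h2 := hB.two
  obtain ⟨a, ha, haa⟩ := hB.exists_aniso_in (LinearMap.ker (B x)) (by have := hB.finrank_ker hx0; omega)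
  have e1 : ∀ q, B x q = 0 → (B q q * B x y) • x ∈ S ∧ B q y • x - B x y • q ∈ S := fun q hq => by
    have hp := S.sub_mem (hS x q hx hq y hy) hy
    have hn := S.sub_mem (hS x (-q) hx (by rw [map_neg, hq, neg_zero]) y hy) hy
    refine ⟨?_, ?_⟩
    · refine Eq.subst (motive := fun t => t ∈ S) ?_ (S.neg_mem (S.add_mem hp hn))
      simp
      match_scalars <;> field_simp <;> ring
    · refine Eq.subst (motive := fun t => t ∈ S) ?_ (S.smul_mem (1 / 2) (S.sub_mem hp hn))
      simp
      match_scalars <;> field_simp <;> ring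
  have hxS : x ∈ S := (Submodule.smul_mem_iff _ (mul_ne_zero haa hxy)).1 (e1 a ha).1
  have hker : ∀ q, B x q = 0 → q ∈ S := fun q hq => by
    have := S.sub_mem (S.smul_mem (B q y) hxS) (e1 q hq).2
    rw [sub_sub_cancel] at this
    exact (Submodule.smul_mem_iff _ hxy).1 this
  have := S.add_mem (hker (v - (B x v / B x y) • y) (by rw [map_sub, map_smul, smul_eq_mul, div_mul_cancel₀ _ hxy, sub_self]))
    (S.smul_mem (B x v / B x y) hy)
  rwa [sub_add_cancel] at this

omit hB [Finite F] in
/-- Squares span a subgroup containing the multiples. -/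
theorem mem_of_squares {Y : Type*} [AddCommGroup Y] [Module F Y] (h2 : (2 : F) ≠ 0) (S : AddSubgroup Y) (y : Y)
    (e : ∀ t : F, (t * t) • y ∈ S) (s : F) : s • y ∈ S := by
  have := S.sub_mem (e ((s + 1) / 2)) (e ((s - 1) / 2))
  rwa [← sub_smul, show ((s + 1) / 2) * ((s + 1) / 2) - ((s - 1) / 2) * ((s - 1) / 2) = s by field_simp; ring]
    at this

end Nice

end CfsgLib.TensorOO
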